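import Cfsg.Agent.Lib.HeStd.AutT

/-!
# The exhaustive check of images of the generators
-/

set_option autoImplicit false
set_option maxHeartbeats 8000000

namespace CfsgLib.HeStd

theorem img_check : (imgs.all fun f₁ => imgs.all fun f₂ =>
    bif yT (f₁ * f₂) && !decide ((f₁ * f₂).a = q0 ∧ (f₁ * f₂).b = q0) then
      imgs.all fun f₃ => imgs.all fun f₄ =>
        bif okImg f₁ f₂ f₃ f₄ then fits f₁ f₂ f₃ f₄ else true
    else true) = true := by
  decide +kernel

end CfsgLib.HeStd
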