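import Cfsg.Agent.Lib.HeStd.AutCheck

/-!
# Classification of the automorphisms of the coordinate group
-/

set_option autoImplicit false

namespace CfsgLib.HeStd

/-- An endomorphism preserving the root type and the centre is a twisted model. -/
theorem exists_model {φ : TC →* TC} (hi : Function.Injective φ) (hy : ∀ x, yT x = true → yT (φ x) = true)
    (hV : ∀ x, inV x = true → inV (φ x) = true)
    (hZ : ∀ x, (x.a = q0 ∧ x.b = q0) → (φ x).a = q0 ∧ (φ x).b = q0) :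
    ∃ k : AK, k.p ≠ q0 ∧ k.q ≠ q0 ∧ ∃ t : TC, ∀ x, φ x = t * act k x * t⁻¹ := by
  have hZ' : ∀ x, ¬ (x.a = q0 ∧ x.b = q0) → ¬ ((φ x).a = q0 ∧ (φ x).b = q0) := by
    intro x hx hc
    let Z : Finset TC := Finset.univ.filter fun y => y.a = q0 ∧ y.b = q0
    have hsub : Z.image φ ⊆ Z := fun y hy' => by
      obtain ⟨z, hz, rfl⟩ := Finset.mem_image.mp hy'
      exact Finset.mem_filter.mpr ⟨Finset.mem_univ _, hZ z (Finset.mem_filter.mp hz).2⟩
    have heq := Finset.eq_of_subset_of_card_le hsub (by rw [Finset.card_image_of_injective _ hi])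
    have : φ x ∈ Z.image φ := heq.symm ▸ Finset.mem_filter.mpr ⟨Finset.mem_univ _, hc⟩
    obtain ⟨z, hz, e⟩ := Finset.mem_image.mp this
    exact hx (hi e ▸ (Finset.mem_filter.mp hz).2)
  obtain ⟨y1, y2, y3, y4, y12, y34, n1, n2, n3, n4, n12, n34⟩ :
      yT e₁ = true ∧ yT e₂ = true ∧ yT e₃ = true ∧ yT e₄ = true ∧ yT (e₁ * e₂) = true ∧
      yT (e₃ * e₄) = true ∧ ¬ (e₁.a = q0 ∧ e₁.b = q0) ∧ ¬ (e₂.a = q0 ∧ e₂.b = q0) ∧
      ¬ (e₃.a = q0 ∧ e₃.b = q0) ∧ ¬ (e₄.a = q0 ∧ e₄.b = q0) ∧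
      ¬ ((e₁ * e₂).a = q0 ∧ (e₁ * e₂).b = q0) ∧ ¬ ((e₃ * e₄).a = q0 ∧ (e₃ * e₄).b = q0) := by
    decide
  have m : ∀ e, yT e = true → ¬ (e.a = q0 ∧ e.b = q0) → φ e ∈ imgs := fun e he hne =>
    mem_imgs _ (hy e he) (hZ' e hne)
  have h := img_check
  simp only [List.all_eq_true] at h
  have h12 := h _ (m e₁ y1 n1) _ (m e₂ y2 n2)
  have c12 : (yT (φ e₁ * φ e₂) && !decide ((φ e₁ * φ e₂).a = q0 ∧ (φ e₁ * φ e₂).b = q0)) = true := by
    rw [← map_mul, hy _ y12, decide_eq_false (hZ' _ n12)]; rfl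
  rw [c12, cond_true, List.all_eq_true] at h12
  have h34 := h12 _ (m e₃ y3 n3)
  rw [List.all_eq_true] at h34
  have h4 := h34 _ (m e₄ y4 n4)
  have hb : ∀ v, build (φ e₁) (φ e₂) (φ e₃) (φ e₄) (zc q0 v) = φ (zc q0 v) := fun v => (map_build φ _).symm
  have hne : ∀ v, v ≠ q0 → φ (zc q0 v) ≠ 1 := fun v hv e => hv (by
    rw [← map_one φ] at e
    exact congrArg TC.v (hi e))
  have hok : okImg (φ e₁) (φ e₂) (φ e₃) (φ e₄) = true := by
    simp only [okImg, hb, c12, hV _ (show inV (zc q0 q1) = true from by decide),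
      hV _ (show inV (zc q0 qw) = true from by decide), decide_eq_false (hne q1 (by decide)),
      decide_eq_false (hne qw (by decide))]
    rw [← map_mul, hy _ y34, decide_eq_false (hZ' _ n34)]; rfl
  rw [hok, cond_true] at h4
  simp only [fits, Bool.and_eq_true, Bool.not_eq_true', decide_eq_false_iff_not, List.any_eq_true,
    decide_eq_true_eq] at h4
  obtain ⟨⟨hp, hq⟩, t, -, ⟨⟨a1, a2⟩, a3⟩, a4⟩ := h4
  refine ⟨_, hp, hq, t, fun x => ?_⟩
  have := hom_ext (φ := φ) (ψ := (MulAut.conj t).toMonoidHom.comp (actH (readK (φ e₁) (φ e₂) (φ e₃))))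
    a1.symm a2.symm a3.symm a4.symm
  exact DFunLike.congr_fun this x

end CfsgLib.HeStd
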