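import Cfsg.Agent.Lib.HeStd.Code

/-!
# Automorphisms of the coordinate group preserving the centre of the cover and the root type
-/

set_option autoImplicit false

namespace CfsgLib.HeStd

open scoped commutatorElement

/-- The code of a model automorphism: two scalars, a Frobenius bit and a swap bit. -/
@[ext] structure AK where
  /-- the scalar of the first coordinate -/
  p : Q4
  /-- the scalar of the second coordinate -/
  q : Q4
  /-- the Frobenius bit -/
  e : Bool
  /-- the swap bit -/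
  s : Bool
deriving DecidableEq

instance : Fintype AK :=
  Fintype.ofEquiv (Q4 × Q4 × Bool × Bool)
    { toFun := fun p => ⟨p.1, p.2.1, p.2.2.1, p.2.2.2⟩
      invFun := fun t => (t.p, t.q, t.e, t.s)
      left_inv := fun _ => rfl
      right_inv := fun _ => rfl }

/-- The swap. -/
def gam (x : TC) : TC := ⟨x.b, x.a, qadd x.c (qmul x.a x.b), qadd (qsq x.v) (qmul (qsq x.a) x.b)⟩

/-- A power of the Frobenius. -/
def frb (e : Bool) (x : Q4) : Q4 := bif e then qsq x else x

/-- The model automorphism. -/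
def act (k : AK) (x : TC) : TC :=
  let y := bif k.s then gam x else x
  ⟨qmul k.p (frb k.e y.a), qmul k.q (frb k.e y.b), qmul (qmul k.p k.q) (frb k.e y.c),
    qmul (qmul k.p (qsq k.q)) (frb k.e y.v)⟩

/-- The root type. -/
def yT (x : TC) : Bool :=
  (decide (x.b = q0) && decide (x.v = qsq (qmul x.a x.c))) || (decide (x.a = q0) && decide (x.v = qmul x.b x.c))

/-- Membership of the centre of the cover. -/
def inV (x : TC) : Bool := decide (x.a = q0) && decide (x.b = q0) && decide (x.c = q0)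

/-- The first generator. -/
def e₁ : TC := ⟨q1, q0, q0, q0⟩

/-- The second generator. -/
def e₂ : TC := ⟨qw, q0, q0, q0⟩

/-- The third generator. -/
def e₃ : TC := ⟨q0, q1, q0, q0⟩

/-- The fourth generator. -/
def e₄ : TC := ⟨q0, qw, q0, q0⟩

/-- An element of a group built from four generators along the coordinates. -/
def build {M : Type*} [Mul M] [One M] [Inv M] (f₁ f₂ f₃ f₄ : M) (x : TC) : M :=
  let com : M → M → M := fun p q => p * q * p⁻¹ * q⁻¹
  let pw : Bool → M → M := fun b p => bif b then p else 1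
  let ψ₁ : M := com f₁ f₄ * com f₂ f₃
  let ψw : M := com f₂ f₃ * com f₁ f₃ * com f₂ f₄
  let χ₁ : M := com f₁ f₃ * ψ₁
  let χw : M := com f₁ f₃ * com f₂ f₄
  pw x.b.1 f₃ * pw x.b.2 f₄ * pw x.a.1 f₁ * pw x.a.2 f₂ * pw x.c.1 χ₁ * pw x.c.2 χw * pw x.v.1 ψ₁ *
    pw x.v.2 ψw

theorem build_eq : ∀ x : TC, build e₁ e₂ e₃ e₄ x = x := by decide +kernel

theorem map_build {M : Type*} [Group M] (φ : TC →* M) (x : TC) :
    φ x = build (φ e₁) (φ e₂) (φ e₃) (φ e₄) x := by
  have h : φ (build e₁ e₂ e₃ e₄ x) = build (φ e₁) (φ e₂) (φ e₃) (φ e₄) x := by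
    have hp : ∀ (b : Bool) (y : TC), φ (bif b then y else 1) = bif b then φ y else 1 := fun b y => by
      cases b <;> simp
    simp only [build, map_mul, hp, map_inv]
  rwa [build_eq] at h

/-- Two homomorphisms agreeing on the generators are equal. -/
theorem hom_ext {M : Type*} [Group M] {φ ψ : TC →* M} (h₁ : φ e₁ = ψ e₁) (h₂ : φ e₂ = ψ e₂)
    (h₃ : φ e₃ = ψ e₃) (h₄ : φ e₄ = ψ e₄) : φ = ψ :=
  MonoidHom.ext fun x => by rw [map_build φ, map_build ψ, h₁, h₂, h₃, h₄]

/-- A quadruple of images fit for an automorphism. -/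
def okImg (f₁ f₂ f₃ f₄ : TC) : Bool :=
  (yT (f₁ * f₂) && !decide ((f₁ * f₂).a = q0 ∧ (f₁ * f₂).b = q0)) &&
    ((yT (f₃ * f₄) && !decide ((f₃ * f₄).a = q0 ∧ (f₃ * f₄).b = q0)) &&
      (inV (build f₁ f₂ f₃ f₄ (zc q0 q1)) && inV (build f₁ f₂ f₃ f₄ (zc q0 qw)) &&
        !decide (build f₁ f₂ f₃ f₄ (zc q0 q1) = 1) && !decide (build f₁ f₂ f₃ f₄ (zc q0 qw) = 1)))

/-- The generators' candidate images. -/
def imgs : List TC :=
  let l := [q0, q1, qw, qv]
  ([q1, qw, qv].flatMap fun a => l.map fun c => (⟨a, q0, c, qsq (qmul a c)⟩ : TC)) ++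
    ([q1, qw, qv].flatMap fun b => l.map fun c => (⟨q0, b, c, qmul b c⟩ : TC))

theorem mem_imgs : ∀ x : TC, yT x = true → ¬ (x.a = q0 ∧ x.b = q0) → x ∈ imgs := by decide +kernel

/-- The code read off the images. -/
def readK (f₁ f₂ f₃ : TC) : AK :=
  bif decide (f₁.a = q0) then ⟨f₃.a, f₁.b, !decide (f₂.b = qmul f₁.b qw), true⟩
  else ⟨f₁.a, f₃.b, !decide (f₂.a = qmul f₁.a qw), false⟩

/-- The translations up to the centre. -/
def twists : List TC :=
  let l := [q0, q1, qw, qv]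
  l.flatMap fun a => l.map fun b => (⟨a, b, q0, q0⟩ : TC)

/-- The images are those of a twisted model. -/
def fits (f₁ f₂ f₃ f₄ : TC) : Bool :=
  let k := readK f₁ f₂ f₃
  !decide (k.p = q0) && !decide (k.q = q0) && twists.any fun t =>
    decide (t * act k e₁ * t⁻¹ = f₁) && decide (t * act k e₂ * t⁻¹ = f₂) &&
      decide (t * act k e₃ * t⁻¹ = f₃) && decide (t * act k e₄ * t⁻¹ = f₄)

/-- The scaling. -/
def scl (p q : Q4) (x : TC) : TC :=
  ⟨qmul p x.a, qmul q x.b, qmul (qmul p q) x.c, qmul (qmul p (qsq q)) x.v⟩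

/-- A power of the Frobenius on the coordinates. -/
def frT (e : Bool) (x : TC) : TC := ⟨frb e x.a, frb e x.b, frb e x.c, frb e x.v⟩

theorem act_eq (k : AK) (x : TC) : act k x = scl k.p k.q (frT k.e (bif k.s then gam x else x)) := rfl

theorem qmul_four : ∀ p q a b : Q4, qmul (qmul p q) (qmul a b) = qmul (qmul p a) (qmul q b) := by decide

theorem scl_mul (p q : Q4) (x y : TC) : scl p q (x * y) = scl p q x * scl p q y := by
  simp only [scl, mul_def, tmul, qmul_add, qsq_mul, qmul_four]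

theorem frb_add : ∀ e x y, frb e (qadd x y) = qadd (frb e x) (frb e y) := by decide

theorem frb_mul : ∀ e x y, frb e (qmul x y) = qmul (frb e x) (frb e y) := by decide

theorem frb_sq : ∀ e x, frb e (qsq x) = qsq (frb e x) := by decide

theorem frT_mul (e : Bool) (x y : TC) : frT e (x * y) = frT e x * frT e y := by
  simp only [frT, mul_def, tmul, frb_add, frb_mul, frb_sq]

theorem gam_mul (x y : TC) : gam (x * y) = gam x * gam y := by
  obtain ⟨a, b, c, v⟩ := x
  obtain ⟨a', b', c', v'⟩ := y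
  simp only [gam, mul_def, tmul, TC.mk.injEq, true_and, qsq_add, qmul_add, add_qmul, qsq_mul, qsq_qsq]
  constructor
  · rw [qmul_comm b a', qadd_comm c c']
    generalize qmul a b = r
    generalize qmul a b' = s
    generalize qmul a' b = t
    generalize qmul a' b' = u
    revert c c' r s t u
    decide +kernel
  · rw [qmul_comm b (qsq a'), qadd_comm (qsq v) (qsq v')]
    generalize qsq v = p
    generalize qsq v' = p'
    generalize qmul (qsq a) b = r
    generalize qmul (qsq a) b' = s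
    generalize qmul (qsq a') b = t
    generalize qmul (qsq a') b' = u
    revert p p' r s t u
    decide +kernel

theorem act_mul (k : AK) (x y : TC) : act k (x * y) = act k x * act k y := by
  rw [act_eq, act_eq, act_eq]
  cases k.s
  · rw [cond_false, cond_false, cond_false, frT_mul, scl_mul]
  · rw [cond_true, cond_true, cond_true, gam_mul, frT_mul, scl_mul]

/-- A model automorphism as a homomorphism. -/
def actH (k : AK) : TC →* TC := MonoidHom.mk' (act k) (act_mul k)

theorem actH_apply (k : AK) (x : TC) : actH k x = act k x := rfl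

/-- A complement of the centre of the cover with the commutator property. -/
def ULike (W : TC → Prop) : Prop :=
  ∀ x : TC, ¬ (x.a = q0 ∧ x.b = q0) → ∀ z : TC, z.a = q0 → z.b = q0 → ∃ t : TC, W (x * t * x⁻¹ * t⁻¹ * z)

theorem ulike_graph : ∀ f₁ fw : Q4, (f₁ = q0 ∧ fw = q0) ∨ ∃ a c v : Q4, a ≠ q0 ∧ ∀ b' : Q4,
    let c' := qadd c (qmul a b')
    qadd v (qmul a (qsq b')) ≠ qadd (bif c'.1 then f₁ else q0) (bif c'.2 then fw else q0) := by
  decide +kernel

theorem comm_coord : ∀ a b a' b' : Q4,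
    (⟨a, b, q0, q0⟩ : TC) * ⟨a', b', q0, q0⟩ * (⟨a, b, q0, q0⟩ : TC)⁻¹ * (⟨a', b', q0, q0⟩ : TC)⁻¹ =
      zc (qadd (qmul a b') (qmul a' b)) (qadd (qmul a (qsq b')) (qmul a' (qsq b))) := by
  decide +kernel

theorem comm_indep (x t z : TC) (c v : Q4) :
    x * (t * zc c v) * x⁻¹ * (t * zc c v)⁻¹ * z = x * t * x⁻¹ * t⁻¹ * z := by
  rw [mul_inv_rev, show x * (t * zc c v) * x⁻¹ * ((zc c v)⁻¹ * t⁻¹) =
    x * t * (zc c v * x⁻¹) * (zc c v)⁻¹ * t⁻¹ by group, ← zc_comm]
  group

theorem split_zc (t : TC) : t = ⟨t.a, t.b, q0, q0⟩ * zc t.c t.v := by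
  simp only [zc, mk_mul, (qadd_zero _).1, (qadd_zero _).2, show qsq q0 = q0 from by decide, (qmul_zero _).1]

/-- The commutator in coordinates. -/
theorem comm_eq (x t z : TC) (za : z.a = q0) (zb : z.b = q0) :
    x * t * x⁻¹ * t⁻¹ * z = zc (qadd (qadd (qmul x.a t.b) (qmul t.a x.b)) z.c)
      (qadd (qadd (qmul x.a (qsq t.b)) (qmul t.a (qsq x.b))) z.v) := by
  rw [split_zc t, comm_indep, split_zc x,
    show ⟨x.a, x.b, q0, q0⟩ * zc x.c x.v * (⟨t.a, t.b, q0, q0⟩ : TC) * (⟨x.a, x.b, q0, q0⟩ * zc x.c x.v)⁻¹ =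
      ⟨x.a, x.b, q0, q0⟩ * (zc x.c x.v * ⟨t.a, t.b, q0, q0⟩) * (zc x.c x.v)⁻¹ * (⟨x.a, x.b, q0, q0⟩ : TC)⁻¹ by
      group,
    ← zc_comm, ← mul_assoc, mul_inv_cancel_right, comm_coord,
    show z = zc z.c z.v from TC.ext za zb rfl rfl, zc_mul]
  simp only [zc, mk_mul, (qadd_zero _).1, (qadd_zero _).2, show qsq q0 = q0 from by decide, (qmul_zero _).1]

theorem ulike_Y : ULike fun x => x.a = q0 ∧ x.b = q0 ∧ x.v = q0 := by
  have h : ∀ a b v : Q4, ¬ (a = q0 ∧ b = q0) → ∃ a' b' : Q4,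
      qadd (qadd (qmul a (qsq b')) (qmul a' (qsq b))) v = q0 := by decide +kernel
  intro x hx z za zb
  obtain ⟨a', b', e⟩ := h x.a x.b z.v hx
  refine ⟨⟨a', b', q0, q0⟩, ?_⟩
  rw [comm_eq x _ z za zb]
  exact ⟨rfl, rfl, e⟩

/-- The complement with the commutator property is unique. -/
theorem ulike_unique {W : Subgroup TC} (hW : ∀ x ∈ W, x.a = q0 ∧ x.b = q0)
    (hV : ∀ x ∈ W, x.c = q0 → x.v = q0) (hsurj : ∀ c : Q4, ∃ x ∈ W, x.c = c)
    (hP : ULike fun x => x ∈ W) : ∀ x, x ∈ W ↔ x.a = q0 ∧ x.b = q0 ∧ x.v = q0 := by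
  have mk : ∀ x ∈ W, x = zc x.c x.v := fun x hx => TC.ext (hW x hx).1 (hW x hx).2 rfl rfl
  have uniq : ∀ x ∈ W, ∀ y ∈ W, x.c = y.c → x = y := by
    intro x hx y hy e
    have h := mul_mem hx hy
    rw [mk x hx, mk y hy, zc_mul, e, qadd_self] at h
    have hv := hV _ h rfl
    rw [mk x hx, mk y hy, e]
    revert hv
    show qadd x.v y.v = q0 → _
    generalize x.v = p
    generalize y.v = q
    intro hv
    have : p = q := by revert hv; revert p q; decide
    rw [this]
  obtain ⟨x₁, h₁, c₁⟩ := hsurj q1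
  obtain ⟨xw, hw, cw⟩ := hsurj qw
  have val : ∀ x ∈ W, x.v = qadd (bif x.c.1 then x₁.v else q0) (bif x.c.2 then xw.v else q0) := by
    intro x hx
    have e : x = (bif x.c.1 then x₁ else 1) * (bif x.c.2 then xw else 1) := by
      refine uniq x hx _ (mul_mem (by cases x.c.1 <;> simp [h₁]) (by cases x.c.2 <;> simp [hw])) ?_
      rw [mk x₁ h₁, mk xw hw, c₁, cw]
      generalize x₁.v = p
      generalize xw.v = q
      generalize x.c = c
      revert c p q
      decide
    conv_lhs => rw [e, mk x₁ h₁, mk xw hw, c₁, cw]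
    generalize x₁.v = p
    generalize xw.v = q
    generalize x.c = c
    revert c p q
    decide
  have hzero : x₁.v = q0 ∧ xw.v = q0 := by
    rcases ulike_graph x₁.v xw.v with h | ⟨a, c, v, ha, h⟩
    · exact h
    exfalso
    obtain ⟨t, ht⟩ := hP ⟨a, q0, q0, q0⟩ (fun hh => ha hh.1) (zc c v) rfl rfl
    rw [comm_eq _ t (zc c v) rfl rfl] at ht
    refine h t.b ?_
    have e := val _ ht
    simp only [zc, qmul_zero, show qsq q0 = q0 from by decide, (qadd_zero _).1] at e
    rw [qadd_comm c, qadd_comm v]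
    exact e
  intro x
  constructor
  · intro hx
    refine ⟨(hW x hx).1, (hW x hx).2, ?_⟩
    rw [val x hx, hzero.1, hzero.2]
    cases x.c.1 <;> cases x.c.2 <;> decide
  · rintro ⟨ha, hb, hv⟩
    obtain ⟨y, hy, hc⟩ := hsurj x.c
    have : y = x := TC.ext ((hW y hy).1.trans ha.symm) ((hW y hy).2.trans hb.symm) hc (by
      rw [hv, val y hy, hzero.1, hzero.2]; cases y.c.1 <;> cases y.c.2 <;> decide)
    exact this ▸ hy

end CfsgLib.HeStd
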