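import Cfsg.Agent.Lib.HeStd.Good

/-!
# Some involution of the centraliser is fused into the normaliser outside it
-/

set_option autoImplicit false
set_option linter.style.haveILetI false
set_option linter.unusedSectionVars false

namespace CfsgLib.HeStd

universe u

theorem frob_fixed : ∀ k : AK, ∀ t : Q4 × Q4, k.p ≠ q0 → k.q ≠ q0 → k.s = false → k.e = true →
    (∀ e ∈ [e₁, e₂, e₃, e₄],
      (⟨t.1, t.2, q0, q0⟩ : TC) * act k (⟨t.1, t.2, q0, q0⟩ * act k e * (⟨t.1, t.2, q0, q0⟩ : TC)⁻¹) *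
        (⟨t.1, t.2, q0, q0⟩ : TC)⁻¹ = e) →
    ∃ a cc v : Q4, a ≠ q0 ∧ (⟨t.1, t.2, q0, q0⟩ : TC) * act k ⟨a, q0, cc, v⟩ * (⟨t.1, t.2, q0, q0⟩ : TC)⁻¹ =
      ⟨a, q0, cc, v⟩ := by
  decide +kernel

theorem conj_twist (t x : TC) : t * x * t⁻¹ = ⟨t.a, t.b, q0, q0⟩ * x * (⟨t.a, t.b, q0, q0⟩ : TC)⁻¹ := by
  conv_lhs => rw [split_zc t]
  rw [show ⟨t.a, t.b, q0, q0⟩ * zc t.c t.v * x * (⟨t.a, t.b, q0, q0⟩ * zc t.c t.v)⁻¹ =
    (⟨t.a, t.b, q0, q0⟩ : TC) * (zc t.c t.v * x) * (zc t.c t.v)⁻¹ * (⟨t.a, t.b, q0, q0⟩ : TC)⁻¹ by group,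
    ← zc_comm, ← mul_assoc, mul_inv_cancel_right]

theorem e₁_zc : ∀ q : Q4, inV (e₁ * zc q q0) = false := by decide

theorem invol_shape : ∀ x : TC, x.b = q0 → x * x = 1 := by decide +kernel

theorem fix_e₁ : ∀ k : AK, k.p ≠ q0 → k.q ≠ q0 → (act k e₁).a = q1 → (act k e₁).b = q0 →
    k.p = q1 ∧ k.s = false := by
  decide +kernel

theorem frob_moves : ∀ k : AK, k.p ≠ q0 → k.q ≠ q0 → k.s = false → k.e = true →
    ∃ v, fV k v ≠ v := by decide +kernel

namespace Ctx

variable {G : Type u} [Group G] {c : Ctx G} [Finite G]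

theorem yg_sq (p : Q4) : c.yg p * c.yg p = 1 := by
  rw [yg, ← map_mul, zc_mul, qadd_self, qadd_self]; exact map_one c.ι

theorem closure_yg {S : Set G} (hS : ∀ e ∈ S, ∃ p, e = c.yg p) {m : G} (hm : m ∈ Subgroup.closure S) :
    ∃ p, m = c.yg p := by
  induction hm using Subgroup.closure_induction with
  | mem x hx => exact hS x hx
  | one => exact ⟨q0, (map_one c.ι).symm⟩
  | mul a b _ _ ha hb' =>
    obtain ⟨p, rfl⟩ := ha
    obtain ⟨q, rfl⟩ := hb'
    exact ⟨qadd p q, by rw [yg, yg, yg, ← map_mul, zc_mul, qadd_self]⟩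
  | inv a _ ha =>
    obtain ⟨p, rfl⟩ := ha
    exact ⟨p, inv_eq_of_mul_eq_one_right (yg_sq p)⟩

theorem comm_closure {S : Set G} {h m : G} (hh : ∀ e ∈ S, h * e = e * h) (hm : m ∈ Subgroup.closure S) :
    h * m = m * h := by
  have hle : Subgroup.closure S ≤ Subgroup.centralizer ({h} : Set G) := by
    rw [Subgroup.closure_le]
    exact fun x hx => Subgroup.mem_centralizer_singleton_iff.mpr (hh x hx).symm
  exact (Subgroup.mem_centralizer_singleton_iff.mp (hle hm)).symm

theorem fourth_root {S : Set G} (hS : ∀ e ∈ S, ∃ p, e = c.yg p) {s : G} (h : s * s ∈ Subgroup.closure S) :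
    s ^ 2 ^ 2 = 1 := by
  obtain ⟨p, hp⟩ := closure_yg hS h
  rw [show s ^ 2 ^ 2 = s * s * (s * s) by rw [show 2 ^ 2 = 1 + 1 + 1 + 1 from rfl]; simp [pow_succ, mul_assoc],
    hp, yg_sq]

/-- A set of root involutions in the centre of the Sylow subgroup. -/
theorem good_core (hb : c.Bad) {S : Set G} {p : Q4} (hp : p ≠ q0) (hpS : c.yg p ∈ S)
    (hS : ∀ e ∈ S, ∃ q, e = c.yg q)
    (hnext : ∀ q, c.yg q ∉ Subgroup.closure S → c.Good (insert (c.yg q) S)) : c.Good S := by
  classical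
  intro h hh
  have hV : ∀ e ∈ S, ∀ v, e * c.vg v = c.vg v * e := fun e he v => by
    obtain ⟨q, rfl⟩ := hS e he
    exact c.vg_comm_ι v _
  set r := c.vg q1
  have hrK : r ∈ c.K := c.vg_mem_K _
  have hr2 : orderOf r = 2 := vg_invol (by decide)
  set x := h * r * h⁻¹
  set t := c.ι e₁
  set E := Subgroup.closure S
  have tsq : t * t = 1 := by
    simp only [t]; rw [← map_mul, invol_shape _ rfl, map_one]
  have xsq : x * x = 1 := by
    show h * r * h⁻¹ * (h * r * h⁻¹) = 1
    rw [show h * r * h⁻¹ * (h * r * h⁻¹) = h * (r * r) * h⁻¹ by group, vg_sq, mul_one, mul_inv_cancel]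
  have hhE : ∀ e ∈ S, h⁻¹ * e * h = e := fun e he => by rw [mul_assoc, ← hh e he, inv_mul_cancel_left]
  have xc : ∀ e ∈ S, x * e = e * x := fun e he => by
    show h * r * h⁻¹ * e = e * (h * r * h⁻¹)
    calc h * r * h⁻¹ * e = h * (r * (h⁻¹ * e * h)) * h⁻¹ := by group
      _ = h * (e * r) * h⁻¹ := by rw [hhE e he, hV e he]
      _ = _ := by rw [← mul_assoc h, hh e he]; group
  have tc : ∀ e ∈ S, t * e = e * t := fun e he => by
    obtain ⟨q, rfl⟩ := hS e he
    simp only [t, yg]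
    rw [← map_mul, ← map_mul, zc_comm]
  have hnorm : ∀ {g : G}, (∀ e ∈ S, g * e = e * g) → g * g = 1 → g ∈ Subgroup.normalizer (E : Set G) :=
    fun {g} hg hg2 => mem_normalizer_of_sq (fun e he => by
      rw [comm_closure hg he, mul_inv_cancel_right]; exact he) (hg2 ▸ E.one_mem)
  by_cases hxE : x ∈ E
  · obtain ⟨q, hq⟩ := closure_yg hS hxE
    refine hb.mem_N hrK hr2 ?_
    show x ∈ c.N
    exact hq ▸ c.yg_mem_N q
  have htE : t ∉ E := fun ht => by
    obtain ⟨q, hq⟩ := closure_yg hS ht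
    exact absurd (congrArg TC.a (c.inj hq)) (by simp [e₁, zc, q0, q1])
  rcases exists_mid (hnorm xc xsq) (hnorm tc tsq) (xsq ▸ E.one_mem) (tsq ▸ E.one_mem) hxE htE with
    ⟨d, -, hdE⟩ | ⟨s, hs, -, hsE, hs2, hsx, hst⟩
  · exfalso
    obtain ⟨q, hq⟩ := closure_yg hS hdE
    have e : d * h * r * (d * h)⁻¹ = c.ι (e₁ * zc q q0) := by
      rw [map_mul, show c.ι (zc q q0) = c.yg q from rfl, ← hq,
        show c.ι e₁ = t from rfl, mul_inv_cancel_left]
      show d * h * r * (d * h)⁻¹ = d * (h * r * h⁻¹) * d⁻¹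
      group
    have hK := hb _ (e ▸ c.ι_mem_N _) ⟨d * h, r, hrK, hr2, rfl⟩
    rw [e] at hK
    have := c.ι_mem_K_iff.mp hK
    rw [e₁_zc] at this
    exact absurd this (by simp)
  have hsc : ∀ e ∈ S, s * e = e * s := fun e he => by
    have hle : Subgroup.closure ({x, t} : Set G) ≤ Subgroup.centralizer ({e} : Set G) := by
      rw [Subgroup.closure_le]
      rintro g (rfl | rfl)
      · exact Subgroup.mem_centralizer_singleton_iff.mpr (xc e he)
      · exact Subgroup.mem_centralizer_singleton_iff.mpr (tc e he)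
    exact Subgroup.mem_centralizer_singleton_iff.mp (hle hs)
  have hgood_t : c.Good (insert t S) :=
    good_yt hb hp (Set.mem_insert_of_mem _ hpS) (u := e₁) (by decide) c.K.one_mem
      (by rw [mul_one]; exact Set.mem_insert _ _) (by
        rintro e (rfl | he)
        · exact fun v => c.vg_comm_ι v _
        · exact hV e he)
  have hsN : s ∈ c.N := by
    refine hgood_t.normalizes hb (c.vg_mem_K q1) (vg_invol (by decide)) ?_ ?_
    · rintro e (rfl | he)
      · exact (c.vg_comm_ι _ _).symm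
      · exact (hV e he _).symm
    · rintro e (rfl | he)
      · have e0 : s⁻¹ * t * s = t * (t⁻¹ * s⁻¹ * t * s) := by group
        rw [e0]
        exact mul_mem (Subgroup.subset_closure (Set.mem_insert _ _))
          (Subgroup.closure_mono (Set.subset_insert _ _) hst)
      · rw [mul_assoc, ← hsc e he, inv_mul_cancel_left]
        exact Subgroup.subset_closure (Set.mem_insert_of_mem _ he)
  have hsNT : s ∈ c.NT := mem_NT_of_comm hsN hp (hsc _ hpS)
  have h4 : s ^ 2 ^ 2 = 1 := fourth_root hS hs2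
  obtain ⟨k, hk⟩ := c.exists_code hsNT
  obtain ⟨hkp, hkq, u, hu⟩ := hk
  -- the first coordinate is fixed
  obtain ⟨q, hq⟩ := closure_yg hS hst
  have et : s * t * s⁻¹ = t * c.yg q := by
    have e1 : s⁻¹ * t * s = t * c.yg q := by rw [← hq]; group
    have hsq : s * c.yg q = c.yg q * s := comm_closure hsc (hq ▸ hst)
    have e2 : t = s * t * s⁻¹ * c.yg q := by
      calc t = s * (s⁻¹ * t * s) * s⁻¹ := by group
        _ = s * t * (c.yg q * s⁻¹) := by rw [e1]; group
        _ = s * t * (s⁻¹ * c.yg q) := by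
            congr 1
            calc c.yg q * s⁻¹ = s⁻¹ * (s * c.yg q) * s⁻¹ := by group
              _ = _ := by rw [hsq]; group
        _ = _ := by group
    calc s * t * s⁻¹ = s * t * s⁻¹ * c.yg q * c.yg q := by rw [mul_assoc (s * t * s⁻¹), yg_sq, mul_one]
      _ = t * c.yg q := by rw [← e2]
  have hab := conj_ab u (act k e₁)
  have h3 : u * act k e₁ * u⁻¹ = e₁ * zc q q0 := c.inj (by rw [← hu, map_mul]; exact et)
  rw [h3] at hab
  have hq1 : ∀ q : Q4, (e₁ * zc q q0).a = q1 ∧ (e₁ * zc q q0).b = q0 := by decide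
  obtain ⟨hp1, hs0⟩ := fix_e₁ k hkp hkq (hab.1.symm.trans (hq1 q).1) (hab.2.symm.trans (hq1 q).2)
  have hcode : c.IsCode s k := ⟨hkp, hkq, u, hu⟩
  suffices hfin : c.Good (insert s S) ∧ ∃ w : Q4, w ≠ q0 ∧ s * c.vg w = c.vg w * s by
    obtain ⟨hfin, w, hw0, hw⟩ := hfin
    refine hb.mem_N hrK hr2 ?_
    show x ∈ c.N
    refine hfin.normalizes hb (c.vg_mem_K w) (vg_invol hw0) ?_ ?_
    · rintro e (rfl | he)
      · exact hw.symm
      · exact (hV e he w).symm
    · rintro e (rfl | he)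
      · have e0 : x⁻¹ * e * x = e * (x⁻¹ * e⁻¹ * x * e)⁻¹ := by
          group
        rw [e0]
        exact mul_mem (Subgroup.subset_closure (Set.mem_insert _ _))
          (inv_mem (Subgroup.closure_mono (Set.subset_insert _ _) hsx))
      · rw [mul_assoc, ← xc e he, inv_mul_cancel_left]
        exact Subgroup.subset_closure (Set.mem_insert_of_mem _ he)
  cases hke : k.e
  · -- inner
    obtain ⟨z, hz⟩ := c.mem_TK (n := ⟨s, hsNT⟩) h4 (by
      rw [c.code_eq (n := ⟨s, hsNT⟩) hcode]; simp [AK.out, hke, hs0])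
    set k' := (c.ι z)⁻¹ * s with hk'def
    have hzk : c.ι z * k' = s := mul_inv_cancel_left _ _
    have hcv : ∀ v, s * c.vg v = c.vg v * s := fun v => hzk ▸ c.vg_comm_ιK v z hz
    refine ⟨?_, q1, by decide, hcv q1⟩
    by_cases hzab : z.a = q0 ∧ z.b = q0
    swap
    · exact good_yt hb hp (Set.mem_insert_of_mem _ hpS) hzab hz (hzk ▸ Set.mem_insert _ _) (by
        rintro e (rfl | he)
        · exact hcv
        · exact hV e he)
    have ez : z = zc z.c q0 * zc q0 z.v := by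
      rw [zc_mul, (qadd_zero _).1, (qadd_zero _).2]
      exact TC.ext hzab.1 hzab.2 rfl rfl
    set k'' := c.vg z.v * k' with hk''def
    have hk''K : k'' ∈ c.K := c.K.mul_mem (c.vg_mem_K _) hz
    have hs' : s = c.yg z.c * k'' := by
      rw [hk''def, ← mul_assoc, yg, vg, ← map_mul, ← ez, hzk]
    have hk''2 : k'' * k'' = 1 := by
      obtain ⟨q', hq'⟩ := closure_yg hS hs2
      have key : ∀ k ∈ c.K, c.yg z.c * k * (c.yg z.c * k) = k * k := fun k hk => by
        rw [mul_assoc, ← mul_assoc k, show k * c.yg z.c = c.yg z.c * k from (c.comm_K hk _).symm,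
          ← mul_assoc, ← mul_assoc, yg_sq, one_mul]
      have e : s * s = k'' * k'' := by rw [← key k'' hk''K, ← hs']
      have hK : c.ι (zc q' q0) ∈ c.K := by
        show c.yg q' ∈ c.K
        rw [← hq', e]; exact c.K.mul_mem hk''K hk''K
      have hq0 := c.ι_mem_K_iff.mp hK
      simp only [inV, zc, Bool.and_eq_true, decide_eq_true_eq] at hq0
      have hq00 : q' = q0 := of_decide_eq_true hq0.2
      subst hq00
      rw [← e, hq']; exact map_one c.ι
    by_cases hk1 : k'' = 1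
    · rw [hk1, mul_one] at hs'
      have hne : c.yg z.c ∉ Subgroup.closure S := hs' ▸ hsE
      exact hs' ▸ hnext _ hne
    have ho : orderOf k'' = 2 := orderOf_eq_prime (by rw [pow_two]; exact hk''2) hk1
    by_cases hc0 : z.c = q0
    · rw [hc0, show c.yg q0 = 1 from map_one c.ι, one_mul] at hs'
      exact Good.of_mem_K (Set.mem_insert _ _) (hs' ▸ hk''K) (hs' ▸ ho)
    exact Good.mono (good_ztype hb hc0 hk''K ho) (by
      rw [Set.singleton_subset_iff, ← hs']; exact Set.mem_insert _ _)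
  · -- semilinear
    obtain ⟨r', hr0, hrfix, honly⟩ := semilinear_fixed k hkp hkq (by rw [hke, hs0]; rfl)
    have hsr : s * c.vg r' = c.vg r' * s := mul_inv_eq_iff_eq_mul.mp (by rw [c.code_vg hcode, hrfix])
    refine ⟨?_, r', hr0, hsr⟩
    obtain ⟨a, cc, vv, ha0, hafix⟩ := frob_fixed k (u.a, u.b) hkp hkq hs0 hke (by
      intro g _
      show (⟨u.a, u.b, q0, q0⟩ : TC) * act k (⟨u.a, u.b, q0, q0⟩ * act k _ * (⟨u.a, u.b, q0, q0⟩ : TC)⁻¹) *
        (⟨u.a, u.b, q0, q0⟩ : TC)⁻¹ = _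
      rw [← conj_twist, ← conj_twist]
      obtain ⟨q', hq'⟩ := closure_yg hS hs2
      refine c.inj ?_
      rw [← hu, ← hu, show s * (s * c.ι g * s⁻¹) * s⁻¹ = (s * s) * c.ι g * (s * s)⁻¹ by group, hq', yg,
        ← map_mul, ← zc_comm, map_mul, mul_inv_cancel_right])
    set z : TC := ⟨a, q0, cc, vv⟩
    have hsz : s * c.ι z = c.ι z * s := mul_inv_eq_iff_eq_mul.mp (by
      rw [hu, conj_twist, hafix])
    have hzab : ∀ w, ¬ ((z * zc q0 w).a = q0 ∧ (z * zc q0 w).b = q0) := fun w hw =>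
      ha0 ((qadd_zero a).1 ▸ hw.1)
    have hgz : ∀ w, c.Good (insert (c.ι (z * zc q0 w)) (insert s S)) := fun w =>
      Good.mono (good_yt hb (S := insert (c.ι (z * zc q0 w)) S) hp (Set.mem_insert_of_mem _ hpS)
        (hzab w) c.K.one_mem (by rw [mul_one]; exact Set.mem_insert _ _) (by
          rintro e (rfl | he)
          · exact fun v => c.vg_comm_ι v _
          · exact hV e he)) (Set.insert_subset_insert (Set.subset_insert _ _))
    refine good_move hb (Set.mem_insert _ _) hsN hr0 ?_ ?_ (a := c.ι z) ?_ ?_ ?_ ?_ (c.vg_comm_ι _ _) ?_ ?_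
    · rintro e (rfl | he)
      · exact hsr.symm
      · exact (hV e he _).symm
    · intro v hv
      refine honly v ?_
      have e := c.code_vg hcode v
      rw [hv, mul_inv_cancel_right] at e
      exact (congrArg TC.v (c.inj e)).symm
    · rintro e (rfl | he)
      · exact hsz.symm
      · obtain ⟨q', rfl⟩ := hS e he
        rw [yg, ← map_mul, ← map_mul, zc_comm]
    · rw [← map_mul, invol_shape _ rfl, map_one]
    · exact fun e => ha0 (congrArg TC.a (c.inj (e.trans (map_one c.ι).symm)))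
    · exact fun e => ha0 (congrArg TC.a (c.inj e))
    · have := hgz q0
      rwa [show zc q0 q0 = (1 : TC) from rfl, mul_one] at this
    · have := hgz r'
      rwa [map_mul] at this

end Ctx

end CfsgLib.HeStd
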