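import Mathlib
import Cfsg.Agent.Lib.Classical.PSLThreeFour

/-!
# Coordinates for the Sylow 2-subgroup of the fourfold cover of `PSL(3, 4)`

An element is a quadruple `(a, b, c, v)` of codes of field elements, multiplied by
`(a, b, c, v) (a', b', c', v') = (a + a', b + b', c + c' + a b', v + v' + a b'²)`.
-/

set_option autoImplicit false

namespace CfsgLib.HeStd

open CfsgLib.Classical.PSLThreeFour (emul eadd val val_add val_mul val_surjective)

/-- Codes of the field with four elements. -/
abbrev Q4 : Type := Bool × Bool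

/-- The code of zero. -/
def q0 : Q4 := (false, false)

/-- The code of one. -/
def q1 : Q4 := (true, false)

/-- The code of a primitive element. -/
def qw : Q4 := (false, true)

/-- The code of its square. -/
def qv : Q4 := (true, true)

/-- Addition of codes. -/
def qadd (x y : Q4) : Q4 := eadd x y

/-- Multiplication of codes. -/
def qmul (x y : Q4) : Q4 := emul x y

/-- The square of a code. -/
def qsq (x : Q4) : Q4 := emul x x

theorem qadd_self : ∀ x, qadd x x = q0 := by decide

theorem qadd_zero : ∀ x, qadd x q0 = x ∧ qadd q0 x = x := by decide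

theorem qadd_comm : ∀ x y, qadd x y = qadd y x := by decide

theorem qadd_assoc : ∀ x y z, qadd (qadd x y) z = qadd x (qadd y z) := by decide

theorem qmul_zero : ∀ x, qmul x q0 = q0 ∧ qmul q0 x = q0 := by decide

theorem qmul_one : ∀ x, qmul x q1 = x ∧ qmul q1 x = x := by decide

theorem qmul_comm : ∀ x y, qmul x y = qmul y x := by decide

theorem qmul_add : ∀ x y z, qmul x (qadd y z) = qadd (qmul x y) (qmul x z) := by decide

theorem add_qmul : ∀ x y z, qmul (qadd x y) z = qadd (qmul x z) (qmul y z) := by decide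

theorem qsq_add : ∀ x y, qsq (qadd x y) = qadd (qsq x) (qsq y) := by decide

theorem qsq_mul : ∀ x y, qsq (qmul x y) = qmul (qsq x) (qsq y) := by decide

theorem qsq_qsq : ∀ x, qsq (qsq x) = x := by decide

/-- An element of the group of coordinates. -/
@[ext] structure TC where
  /-- the first coordinate -/
  a : Q4
  /-- the second coordinate -/
  b : Q4
  /-- the coordinate of the root group in the middle -/
  c : Q4
  /-- the central coordinate -/
  v : Q4
deriving DecidableEq

instance : Fintype TC :=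
  Fintype.ofEquiv (Q4 × Q4 × Q4 × Q4)
    { toFun := fun p => ⟨p.1, p.2.1, p.2.2.1, p.2.2.2⟩
      invFun := fun t => (t.a, t.b, t.c, t.v)
      left_inv := fun _ => rfl
      right_inv := fun _ => rfl }

/-- Product of coordinates. -/
def tmul (x y : TC) : TC :=
  ⟨qadd x.a y.a, qadd x.b y.b, qadd (qadd x.c y.c) (qmul x.a y.b),
    qadd (qadd x.v y.v) (qmul x.a (qsq y.b))⟩

/-- Inverse of coordinates. -/
def tinv (x : TC) : TC :=
  ⟨x.a, x.b, qadd x.c (qmul x.a x.b), qadd x.v (qmul x.a (qsq x.b))⟩

theorem cross : ∀ p q a₁ a₂ : Q4, ∀ b₂ b₃ : Q4,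
    qadd (qadd p (qmul a₁ b₂)) (qadd q (qmul (qadd a₁ a₂) b₃)) =
      qadd (qadd p (qmul a₂ b₃)) (qadd q (qmul a₁ (qadd b₂ b₃))) := by
  intro p q a₁ a₂ b₂ b₃
  rw [qmul_add, add_qmul]
  revert p q
  generalize qmul a₁ b₂ = r
  generalize qmul a₁ b₃ = s
  generalize qmul a₂ b₃ = t
  revert r s t
  decide

theorem tmul_assoc (x y z : TC) : tmul (tmul x y) z = tmul x (tmul y z) := by
  obtain ⟨a₁, b₁, c₁, v₁⟩ := x
  obtain ⟨a₂, b₂, c₂, v₂⟩ := y
  obtain ⟨a₃, b₃, c₃, v₃⟩ := z
  simp only [tmul, qadd_assoc, TC.mk.injEq, qmul_add, add_qmul, qsq_add, true_and]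
  constructor
  · generalize qmul a₁ b₂ = r
    generalize qmul a₁ b₃ = s
    generalize qmul a₂ b₃ = t
    revert c₁ c₂ c₃ r s t
    decide
  · generalize qmul a₁ (qsq b₂) = r
    generalize qmul a₁ (qsq b₃) = s
    generalize qmul a₂ (qsq b₃) = t
    revert v₁ v₂ v₃ r s t
    decide

instance : Group TC where
  mul := tmul
  one := ⟨q0, q0, q0, q0⟩
  inv := tinv
  mul_assoc := tmul_assoc
  one_mul x := by
    show tmul ⟨q0, q0, q0, q0⟩ x = x
    simp only [tmul, (qadd_zero _).2, (qmul_zero _).2, (qadd_zero _).1]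
  mul_one x := by
    show tmul x ⟨q0, q0, q0, q0⟩ = x
    simp only [tmul, show qsq q0 = q0 from by decide, (qmul_zero _).1, (qadd_zero _).1]
  inv_mul_cancel x := by
    show tmul (tinv x) x = ⟨q0, q0, q0, q0⟩
    obtain ⟨a, b, c, v⟩ := x
    simp only [tmul, tinv, qadd_self, TC.mk.injEq, true_and]
    constructor
    · generalize qmul a b = r
      revert c r
      decide
    · generalize qmul a (qsq b) = r
      revert v r
      decide

theorem mul_def (x y : TC) : x * y = tmul x y := rfl

theorem one_def : (1 : TC) = ⟨q0, q0, q0, q0⟩ := rfl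

theorem inv_def (x : TC) : x⁻¹ = tinv x := rfl

theorem mk_mul (a b c v a' b' c' v' : Q4) :
    (⟨a, b, c, v⟩ : TC) * ⟨a', b', c', v'⟩ =
      ⟨qadd a a', qadd b b', qadd (qadd c c') (qmul a b'), qadd (qadd v v') (qmul a (qsq b'))⟩ := rfl

theorem card_TC : Nat.card TC = 256 := by
  rw [Nat.card_congr ({ toFun := fun t => (t.a, t.b, t.c, t.v)
                        invFun := fun p => ⟨p.1, p.2.1, p.2.2.1, p.2.2.2⟩
                        left_inv := fun _ => rfl
                        right_inv := fun _ => rfl } : TC ≃ Q4 × Q4 × Q4 × Q4)]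
  simp

/-- The central element with the given coordinates. -/
def zc (c v : Q4) : TC := ⟨q0, q0, c, v⟩

theorem zc_mul (c v c' v' : Q4) : zc c v * zc c' v' = zc (qadd c c') (qadd v v') := by
  simp only [zc, mk_mul, (qmul_zero _).2, (qadd_zero _).1]

theorem zc_comm (c v : Q4) (x : TC) : x * zc c v = zc c v * x := by
  obtain ⟨a, b, c', v'⟩ := x
  simp only [zc, mk_mul, (qmul_zero _).1, (qmul_zero _).2, (qadd_zero _).1, (qadd_zero _).2,
    show qsq q0 = q0 from by decide, qadd_comm c c', qadd_comm v v']

/-- The torus: multiplication by `qv` on the first two coordinates. -/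
def tor (x : TC) : TC := ⟨qmul qv x.a, qmul qv x.b, qmul qw x.c, x.v⟩

/-- The reflection fixing `b = 0`. -/
def swapA (x : TC) : TC := ⟨x.c, x.b, x.a, x.v⟩

/-- The reflection fixing `a = 0`. -/
def swapB (x : TC) : TC := ⟨x.a, x.c, x.b, x.v⟩

section Val

variable {F : Type*} [Field F] [Fintype F] {w : F}

theorem val_q0 : val w q0 = 0 := by simp [val, q0]

theorem val_q1 : val w q1 = 1 := by simp [val, q1]

theorem val_qw : val w qw = w := by simp [val, qw]

theorem val_qadd (h2 : (2 : F) = 0) (x y : Q4) : val w (qadd x y) = val w x + val w y := val_add h2 x y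

theorem val_qmul (h2 : (2 : F) = 0) (hw : w * w = w + 1) (x y : Q4) :
    val w (qmul x y) = val w x * val w y := val_mul h2 hw x y

theorem val_qsq (h2 : (2 : F) = 0) (hw : w * w = w + 1) (x : Q4) :
    val w (qsq x) = val w x * val w x := val_mul h2 hw x x

theorem val_qv (h2 : (2 : F) = 0) (hw : w * w = w + 1) : val w qv = w * w := by
  rw [show qv = qsq qw from by decide, val_qsq h2 hw, val_qw]

theorem val_bijective (hF : Fintype.card F = 4) (hw : w * w = w + 1) : Function.Bijective (val w) :=
  (Fintype.bijective_iff_surjective_and_card _).2 ⟨val_surjective hF hw, by simp [hF]⟩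

end Val

end CfsgLib.HeStd
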