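import Cfsg.Agent.Lib.HeStd.Moves

/-!
# Finite facts for the connectivity of the fused involutions commuting with `z`
-/

set_option autoImplicit false
set_option maxHeartbeats 2000000
set_option synthInstance.maxHeartbeats 400000
set_option synthInstance.maxSize 1024

namespace CfsgLib.HeStd

/-- Membership of the pattern of `y`. -/
def pat (y e : TC) : Bool := fusT (y * e) || decide (e = 1)

/-- The group generated by `z`, `f`, `g`. -/
def span8 (f g : TC) : List TC := [1, f, g, f * g, zz, zz * f, zz * g, zz * (f * g)]

/-- The group generated by `z`, `f`, `g`, `s`. -/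
def span16 (f g s : TC) : List TC := span8 f g ++ (span8 f g).map fun e => e * s

/-- A list of pairwise different involutions, none fused, apart from the identity. -/
def pureL (l : List TC) : Bool := decide l.Nodup && l.all fun e => decide (e * e = 1) && !fusT e

/-- `h` is a period of the pattern of `y` on the list. -/
def perL (y h : TC) (l : List TC) : Bool := l.all fun e => pat y e == pat y (e * h)

/-- All elements. -/
def allTC : List TC :=
  let l := [q0, q1, qw, qv]
  l.flatMap fun a => l.flatMap fun b => l.flatMap fun cc => l.map fun v => (⟨a, b, cc, v⟩ : TC)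

theorem mem_allTC : ∀ x : TC, x ∈ allTC := by decide +kernel

/-- The involutions which are not fused. -/
def pureInv : List TC := allTC.filter fun e => decide (e * e = 1) && !fusT e && !decide (e = 1)

/-- The elements with a pattern on `vg j` off the identity. -/
def patInv (j : Q4) : List TC := pureInv.filter fun e => pat (zc q0 j) e

theorem mem_patInv {j : Q4} {e : TC} (h2 : e * e = 1) (hF : fusT e = false) (h1 : e ≠ 1)
    (hp : pat (zc q0 j) e = true) : e ∈ patInv j := by
  simp [patInv, pureInv, List.mem_filter, mem_allTC, h2, hF, h1, hp]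

theorem mem_pureInv {e : TC} (h2 : e * e = 1) (hF : fusT e = false) (h1 : e ≠ 1) : e ∈ pureInv := by
  simp [pureInv, List.mem_filter, mem_allTC, h2, hF, h1]

theorem period_one : ([q1, qw, qv].all fun j => (patInv j).all fun f => (patInv j).all fun g =>
    !(decide (f * g = g * f) && pureL (span8 f g) && perL (zc q0 j) f (span8 f g) &&
      perL (zc q0 j) g (span8 f g))) = true := by decide +kernel

theorem period_max : ((patInv qw).all fun f => (patInv qv).all fun g =>
    bif decide (f * g = g * f) && pureL (span8 f g) && perL (zc q0 qw) f (span8 f g) &&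
        perL (zc q0 qv) g (span8 f g) then
      pureInv.all fun s => !(decide (f * s = s * f) && decide (g * s = s * g) && pureL (span16 f g s) &&
        perL (zc q0 qw) f (span16 f g s) && perL (zc q0 qv) g (span16 f g s))
    else true) = true := by decide +kernel

theorem period_witness : ((patInv qw).all fun f => (patInv qv).all fun g =>
    bif decide (f * g = g * f) && pureL (span8 f g) && perL (zc q0 qw) f (span8 f g) &&
        perL (zc q0 qv) g (span8 f g) then
      allTC.any fun y => fusT y && !fusT (y * zz) && decide (y * f = f * y) && decide (y * g = g * y) &&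
        [f, g, f * g].all fun h => !pat y h || !perL y h (span8 f g)
    else true) = true := by decide +kernel

theorem pat_disjoint : ∀ u : TC, u * u = 1 → u ≠ 1 → fusT u = false → ∀ i k : Q4,
    fusT (zc q0 i * u) = true → fusT (zc q0 k * u) = true → i = k := by decide +kernel

theorem outer_inner : ∀ t ∈ twists, ∀ f : TC,
    cjt t (act ⟨q1, q1, true, true⟩ f) = f → f * f = 1 → fusT f = false → fusT (f * zz) = false →
    (∀ e ∈ [e₁, e₂, e₃, e₄], cjt t (act ⟨q1, q1, true, true⟩ (cjt t (act ⟨q1, q1, true, true⟩ e))) = e) →
    f = 1 ∨ f = zz := by decide +kernel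

theorem fix_z_code : ∀ k : AK, k.p ≠ q0 → k.q ≠ q0 → act k zz = zz → ∀ j : Q4, j ≠ q0 →
    act k (zc q0 j) = zc q0 j →
    k.p = q1 ∧ k.q = q1 ∧ (k.out = (false, false) ∨ k.out = (true, true) ∨
      (j = q1 ∧ (k.out = (true, false) ∨ k.out = (false, true)))) := by decide +kernel

theorem sgam_fix_V : ∀ j : Q4, act ⟨q1, q1, true, true⟩ (zc q0 j) = zc q0 j := by decide +kernel

theorem sig_split : ∀ t ∈ twists,
    (∀ e ∈ [e₁, e₂, e₃, e₄], cjt t (act ⟨q1, q1, true, false⟩ (cjt t (act ⟨q1, q1, true, false⟩ e))) = e) →
    ∃ s ∈ twists, ∀ e ∈ [e₁, e₂, e₃, e₄],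
      cjt s (cjt t (act ⟨q1, q1, true, false⟩ (cjt s⁻¹ e))) = act ⟨q1, q1, true, false⟩ e := by decide +kernel

theorem sig_comm : act ⟨q1, q1, true, false⟩ e₁ = e₁ ∧ act ⟨q1, q1, true, false⟩ e₃ = e₃ ∧
    e₁ * e₃ * e₁⁻¹ * e₃⁻¹ = zz ∧ fusT e₁ = true ∧ fusT e₃ = true := by decide +kernel

theorem semilinear_hit : ∀ k : AK, k.p ≠ q0 → k.q ≠ q0 → k.out = (true, false) → ∀ i : Q4, fV k i = i →
    ∃ l : Q4, qadd (fV k l) l = i := by decide +kernel

theorem span8_nodup : (pureInv.all fun f => pureInv.all fun g =>
    bif decide (f * g = g * f) && !decide (f = g) && !decide (f = zz) && !decide (g = zz) && !decide (f * g = zz)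
    then decide (span8 f g).Nodup else true) = true := by decide +kernel

theorem span8_closed : ((patInv qw).all fun f => (patInv qv).all fun g =>
    bif decide (f * g = g * f) then
      (span8 f g).all fun a => (span8 f g).all fun b => decide (a * b ∈ span8 f g)
    else true) = true := by decide +kernel

/-- An anchor for the case where two periods differ by `z`. -/
theorem deg_witness : ((patInv qw).all fun f =>
    bif decide (f * zz ∈ patInv qv) then
      allTC.any fun y => fusT y && !fusT (y * zz) && decide (y * f = f * y) && !pat y f && !pat y (f * zz) &&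
        pureInv.all fun s => !(decide (f * s = s * f) && pureL (span8 f s) && perL (zc q0 qw) f (span8 f s) &&
          perL (zc q0 qv) (f * zz) (span8 f s)) || decide (y * s = s * y)
    else true) = true := by decide +kernel

end CfsgLib.HeStd
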