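import Cfsg.Agent.Lib.HeStd.Frame
import Cfsg.Agent.Lib.HeStd.ConnDec
import Cfsg.Agent.Lib.HeUnique.End.Abstract

/-!
# The fused involutions commuting with `z` are connected
-/

set_option autoImplicit false
set_option linter.style.haveILetI false
set_option linter.unusedSectionVars false

namespace CfsgLib.HeStd

universe u

theorem zz_comm (a : TC) : zz * a = a * zz := (zc_comm q1 q1 a).symm

theorem fusT_vg : fusT (zc q0 qw * zz) = false ∧ fusT (zc q0 qv * zz) = false ∧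
    fusT (zc q0 q1 * zz) = true := by decide +kernel

theorem q_cases : ∀ j : Q4, j ≠ q0 → j = q1 ∨ j = qw ∨ j = qv := by decide

/-- `y` centralises `E`. -/
def Ctr {G : Type u} [Group G] (E : Subgroup G) (y : G) : Prop := ∀ e ∈ E, y * e = e * y

namespace Ctx

variable {G : Type u} [Group G]

/-- An elementary subgroup through `z`. -/
def Elem (c : Ctx G) (E : Subgroup G) : Prop := c.zg ∈ E ∧ ∀ e ∈ E, e * e = 1

/-- Translation by `f` preserves the fused elements of the coset of `y`. -/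
def Per (c : Ctx G) (E : Subgroup G) (y f : G) : Prop := ∀ e ∈ E, c.Fus (y * e) ↔ c.Fus (y * (f * e))

/-- The commuting graph. -/
def Adj (c : Ctx G) (a b : G) : Prop := c.InX a ∧ c.InX b ∧ a * b = b * a

/-- Connectedness. -/
def Conn (c : Ctx G) (a b : G) : Prop := Relation.ReflTransGen c.Adj a b

/-- A configuration. -/
def Cfg (c : Ctx G) (P : G → G → Prop) (E : Subgroup G) : Prop :=
  c.Elem E ∧ ∃ x r, c.Gz x ∧ ¬ c.Fus (x * c.zg) ∧ c.InX r ∧ P x r ∧ Ctr E x ∧ Ctr E r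

/-- The coordinates in a frame. -/
def pb (c : Ctx G) (n : G) (a : TC) : G := n⁻¹ * c.ι a * n

/-- Inner in the frame given by `g`. -/
def InR (c : Ctx G) [Finite G] (g e : G) : Prop :=
  ∃ h : g⁻¹ * e * g ∈ c.N, c.eps ⟨_, h⟩ = (false, false)

variable {c : Ctx G} {E : Subgroup G}

theorem Elem.comm (hE : c.Elem E) {a b : G} (ha : a ∈ E) (hb : b ∈ E) : a * b = b * a := by
  have h := hE.2 _ (E.mul_mem ha hb)
  calc a * b = a * (a * b * (a * b)) * b := by rw [h, mul_one]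
    _ = (a * a) * b * a * (b * b) := by group
    _ = _ := by rw [hE.2 a ha, hE.2 b hb, one_mul, mul_one]

theorem Adj.symm {a b : G} (h : c.Adj a b) : c.Adj b a := ⟨h.2.1, h.1, h.2.2.symm⟩

theorem Conn.symm {a b : G} (h : c.Conn a b) : c.Conn b a := by
  induction h with
  | refl => exact Relation.ReflTransGen.refl
  | tail _ h ih => exact Relation.ReflTransGen.head h.symm ih

theorem Conn.trans {a b d : G} (h : c.Conn a b) (h' : c.Conn b d) : c.Conn a d :=
  Relation.ReflTransGen.trans h h'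

theorem Adj.conn {a b : G} (h : c.Adj a b) : c.Conn a b := Relation.ReflTransGen.single h

theorem Per.mul {y f g : G} (hg : g ∈ E) (hf : c.Per E y f) (hg' : c.Per E y g) : c.Per E y (f * g) := by
  intro e he
  rw [hg' e he, hf _ (E.mul_mem hg he), mul_assoc f g e]

variable [Finite G]

theorem zg_conj_inv {n : G} (hn : n * c.zg * n⁻¹ = c.zg) : n⁻¹ * c.zg * n⁻¹⁻¹ = c.zg := by
  conv_lhs => rw [← hn]
  group

theorem Fus.conj_iff {x : G} (a : G) : c.Fus (a * x * a⁻¹) ↔ c.Fus x :=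
  ⟨fun h => by
    have := h.conj a⁻¹
    rwa [show a⁻¹ * (a * x * a⁻¹) * a⁻¹⁻¹ = x by group] at this, fun h => h.conj a⟩

theorem InX.conj {x : G} (h : c.InX x) {n : G} (hn : n * c.zg * n⁻¹ = c.zg) : c.InX (n * x * n⁻¹) := by
  refine ⟨h.1.conj n, ?_⟩
  calc n * x * n⁻¹ * c.zg = n * x * n⁻¹ * (n * c.zg * n⁻¹) := by rw [hn]
    _ = n * (x * c.zg) * n⁻¹ := by group
    _ = n * c.zg * n⁻¹ * (n * x * n⁻¹) := by rw [h.2]; group
    _ = _ := by rw [hn]

theorem Gz.conj {x : G} (h : c.Gz x) {n : G} (hn : n * c.zg * n⁻¹ = c.zg) : c.Gz (n * x * n⁻¹) := by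
  obtain ⟨m, hm, j, hj, e⟩ := h
  refine ⟨m * n⁻¹, ?_, j, hj, by rw [← e]; group⟩
  rw [show m * n⁻¹ * c.zg * (m * n⁻¹)⁻¹ = m * (n⁻¹ * c.zg * n⁻¹⁻¹) * m⁻¹ by group, zg_conj_inv hn, hm]

theorem Adj.conj {a b : G} (h : c.Adj a b) {n : G} (hn : n * c.zg * n⁻¹ = c.zg) :
    c.Adj (n * a * n⁻¹) (n * b * n⁻¹) :=
  ⟨h.1.conj hn, h.2.1.conj hn, by
    rw [show n * a * n⁻¹ * (n * b * n⁻¹) = n * (a * b) * n⁻¹ by group, h.2.2]; group⟩

theorem Conn.conj {a b : G} (h : c.Conn a b) {n : G} (hn : n * c.zg * n⁻¹ = c.zg) :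
    c.Conn (n * a * n⁻¹) (n * b * n⁻¹) := by
  induction h with
  | refl => exact Relation.ReflTransGen.refl
  | tail _ h ih => exact Relation.ReflTransGen.tail ih (h.conj hn)

variable [IsSimpleGroup G]

theorem vg_inX {i : Q4} (hi : i ≠ q0) : c.InX (c.vg i) := ⟨fus_vg hi, zg_vg i⟩

theorem vg_gz {i : Q4} (hi : i ≠ q0) : c.Gz (c.vg i) := ⟨1, by group, i, hi, by group⟩

theorem vg_adj {i k : Q4} (hi : i ≠ q0) (hk : k ≠ q0) : c.Adj (c.vg i) (c.vg k) :=
  ⟨vg_inX hi, vg_inX hk, (c.vg_comm_ι k (zc q0 i))⟩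

theorem Gz.inX {x : G} (h : c.Gz x) : c.InX x := by
  obtain ⟨n, hn, j, hj, e⟩ := h
  have h2 := (vg_inX (c := c) hj).conj (zg_conj_inv hn)
  rwa [← e, show n⁻¹ * (n * x * n⁻¹) * n⁻¹⁻¹ = x by group] at h2

theorem Conn.gz {a b : G} (h : c.Conn a b) (ha : c.Gz a) : c.Gz b := by
  induction h with
  | refl => exact ha
  | tail _ h ih => exact ih.adj h.2.1 h.2.2

theorem pb_mul (n : G) (a b : TC) : c.pb n a * c.pb n b = c.pb n (a * b) := by
  rw [pb, pb, pb, map_mul]; group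

theorem pb_inj {n : G} {a b : TC} (h : c.pb n a = c.pb n b) : a = b :=
  c.inj (mul_left_cancel (mul_right_cancel h))

theorem pb_one_elt (n : G) : c.pb n 1 = 1 := by rw [pb, map_one]; group

theorem pb_one (a : TC) : c.pb 1 a = c.ι a := by rw [pb]; group

theorem pb_zz {n : G} (hn : n * c.zg * n⁻¹ = c.zg) : c.pb n zz = c.zg := by
  have := zg_conj_inv hn
  rwa [inv_inv] at this

theorem fus_pb {n : G} {a : TC} : c.Fus (c.pb n a) ↔ fusT a = true := by
  rw [← fus_iff (c := c), pb, show n⁻¹ * c.ι a * n = n⁻¹ * c.ι a * n⁻¹⁻¹ by group, Fus.conj_iff]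

/-- An element of an elementary subgroup centralised by a nonpair in `V`. -/
theorem vcent {e : G} {j : Q4} (hj : j = qw ∨ j = qv) (hz : e * c.zg = c.zg * e) (h2 : e * e = 1)
    (hv : e * c.vg j = c.vg j * e) :
    (∀ i, e * c.vg i = c.vg i * e) ∧ ((∃ u, e = c.ι u) ∨ ∃ h : e ∈ c.NT, c.code ⟨e, h⟩ = ⟨q1, q1, true, true⟩) := by
  obtain ⟨hj0, hj1⟩ : j ≠ q0 ∧ j ≠ q1 := by rcases hj with rfl | rfl <;> decide
  obtain ⟨h, hp, hq, ho | ho | ⟨hjq, -⟩⟩ := frame_code hj0 hz hv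
  · obtain ⟨u, rfl⟩ := invol_inner h h2 ho
    exact ⟨fun i => c.vg_comm_ι i u, Or.inl ⟨u, rfl⟩⟩
  · have hk : c.code ⟨e, h⟩ = ⟨q1, q1, true, true⟩ :=
      AK.ext hp hq (congrArg Prod.fst ho) (congrArg Prod.snd ho)
    refine ⟨fun i => ?_, Or.inr ⟨h, hk⟩⟩
    have hv' := c.code_vg (n := e) (c.code_spec ⟨e, h⟩) i
    rw [hk] at hv'
    have hfix : ∀ i, fV ⟨q1, q1, true, true⟩ i = i := by decide +kernel
    rw [hfix] at hv'
    exact mul_inv_eq_iff_eq_mul.mp hv'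
  · exact absurd hjq hj1

theorem inner_of_fus {e : G} {i : Q4} (hi : i ≠ q0) (hz : e * c.zg = c.zg * e)
    (hv : e * c.vg i = c.vg i * e) (h2 : e * e = 1) (hne : ¬ c.Fus e) (hp : c.Fus (c.vg i * e)) :
    ∃ u, e = c.ι u := by
  obtain ⟨h, -⟩ := frame_code hi hz hv
  have he : (1 : G)⁻¹ * e * 1 = e := by group
  have hv1 : (1 : G) * c.vg i * 1⁻¹ = c.vg i := by group
  have := inner_of_prod (c := c) (g := 1) (e := e) hi (by rw [he]; exact h.1) h2 hne
    (by rw [hv1]; exact hv.symm) (by rw [hv1]; exact hp)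
  refine invol_inner h h2 ?_
  rw [← c.eps_NT h, ← this]
  congr 1
  exact Subtype.ext he.symm

theorem per_fus {y f : G} (hy : c.Fus y) (h : c.Per E y f) : c.Fus (y * f) := by
  have := (h 1 E.one_mem).mp (by rwa [mul_one])
  rwa [mul_one] at this

theorem per_ne_zg {y f : G} (hy : c.Fus y) (hnp : ¬ c.Fus (y * c.zg)) (h : c.Per E y f) : f ≠ c.zg :=
  fun e => hnp (e ▸ per_fus hy h)

/-- An element of the pattern of a member of `V`, in a frame. -/
theorem pull_inner (hE : c.Elem E) (hpure : ∀ e ∈ E, e ≠ 1 → ¬ c.Fus e) {n : G}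
    (hn : n * c.zg * n⁻¹ = c.zg) {i : Q4} (hi : i ≠ q0) {y : G} (hy : n * y * n⁻¹ = c.vg i)
    (hc : Ctr E y) {e : G} (he : e ∈ E) (h1 : e ≠ 1) (hF : c.Fus (y * e)) :
    ∃ u, e = c.pb n u ∧ u ∈ patInv i := by
  obtain ⟨u, hu⟩ := inner_of_fus (c := c) (e := n * e * n⁻¹) hi (by
      calc n * e * n⁻¹ * c.zg = n * e * n⁻¹ * (n * c.zg * n⁻¹) := by rw [hn]
        _ = n * (e * c.zg) * n⁻¹ := by group
        _ = n * c.zg * n⁻¹ * (n * e * n⁻¹) := by rw [hE.comm he hE.1]; group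
        _ = _ := by rw [hn]) (by
      rw [← hy, show n * e * n⁻¹ * (n * y * n⁻¹) = n * (e * y) * n⁻¹ by group, ← hc e he]; group) (by
      rw [show n * e * n⁻¹ * (n * e * n⁻¹) = n * (e * e) * n⁻¹ by group, hE.2 e he]; group)
    (fun h => hpure e he h1 ((Fus.conj_iff n).mp h)) (by
      rw [← hy, show n * y * n⁻¹ * (n * e * n⁻¹) = n * (y * e) * n⁻¹ by group]; exact hF.conj n)
  have heu : e = c.pb n u := by rw [pb, ← hu]; group
  have hy' : y = c.pb n (zc q0 i) := by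
    rw [pb, show c.ι (zc q0 i) = c.vg i from rfl, ← hy]; group
  refine ⟨u, heu, mem_patInv (pb_inj (c := c) (n := n) ?_) ?_ (fun h => h1 ?_) ?_⟩
  · rw [← pb_mul, ← heu, hE.2 e he, pb_one_elt]
  · cases h : fusT u
    · rfl
    · exact absurd (heu ▸ fus_pb.mpr h) (hpure e he h1)
  · rw [heu, h, pb_one_elt]
  · rw [heu, hy', pb_mul, fus_pb] at hF
    simp [pat, hF]

theorem pat_disjoint' (hE : c.Elem E) (hpure : ∀ e ∈ E, e ≠ 1 → ¬ c.Fus e) {n : G}
    (hn : n * c.zg * n⁻¹ = c.zg) {i k : Q4} (hi : i ≠ q0)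
    (hc : Ctr E (n⁻¹ * c.vg i * n)) {e : G} (he : e ∈ E) (h1 : e ≠ 1)
    (hF : c.Fus (n⁻¹ * c.vg i * n * e)) (hF' : c.Fus (n⁻¹ * c.vg k * n * e)) : i = k := by
  obtain ⟨u, rfl, hu⟩ := pull_inner hE hpure hn hi (y := n⁻¹ * c.vg i * n) (by group) hc he h1 hF
  rw [show n⁻¹ * c.vg i * n = c.pb n (zc q0 i) from rfl, pb_mul, fus_pb] at hF
  rw [show n⁻¹ * c.vg k * n = c.pb n (zc q0 k) from rfl, pb_mul, fus_pb] at hF'
  simp only [patInv, pureInv, List.mem_filter, Bool.and_eq_true, decide_eq_true_eq, Bool.not_eq_true',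
    decide_eq_false_iff_not] at hu
  exact pat_disjoint u hu.1.2.1.1 hu.1.2.2 hu.1.2.1.2 i k hF hF'

theorem pureL_of_mem (hE : c.Elem E) (hpure : ∀ e ∈ E, e ≠ 1 → ¬ c.Fus e) {n : G} {l : List TC}
    (hd : l.Nodup) (hl : ∀ a ∈ l, c.pb n a ∈ E) : pureL l = true := by
  simp only [pureL, Bool.and_eq_true, decide_eq_true_eq, List.all_eq_true, Bool.not_eq_true']
  refine ⟨hd, fun a ha => ⟨pb_inj (c := c) (n := n) (by rw [← pb_mul, hE.2 _ (hl a ha), pb_one_elt]), ?_⟩⟩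
  cases h : fusT a
  · rfl
  · exfalso
    by_cases h1 : a = 1
    · subst h1; exact absurd h (by decide +kernel)
    · exact hpure _ (hl a ha) (fun e => h1 (pb_inj (e.trans (pb_one_elt n).symm))) (fus_pb.mpr h)

theorem perL_of_per (hE : c.Elem E) {n : G} {y h : TC} {l : List TC} (hy : fusT y = true)
    (hl : ∀ a ∈ l, c.pb n a ∈ E) (hh : c.pb n h ∈ E) (hper : c.Per E (c.pb n y) (c.pb n h)) :
    perL y h l = true := by
  simp only [perL, List.all_eq_true, beq_iff_eq]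
  intro a ha
  have e : ∀ b, pat y b = fusT (y * b) := fun b => by
    by_cases hb : b = 1
    · subst hb; simp [pat, hy]
    · simp [pat, hb]
  have h1 := hper _ (hl a ha)
  rw [hE.comm hh (hl a ha), pb_mul, pb_mul, pb_mul, fus_pb, fus_pb] at h1
  rw [e, e, Bool.eq_iff_iff]
  exact h1

theorem span8_mem {n : G} (hE : c.Elem E) (hn : n * c.zg * n⁻¹ = c.zg) {f g : TC} (hf : c.pb n f ∈ E)
    (hg : c.pb n g ∈ E) : ∀ a ∈ span8 f g, c.pb n a ∈ E := by
  have hz : c.pb n zz ∈ E := (pb_zz hn).symm ▸ hE.1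
  intro a ha
  simp only [span8, List.mem_cons, List.not_mem_nil, or_false] at ha
  rcases ha with rfl | rfl | rfl | rfl | rfl | rfl | rfl | rfl
  · rw [pb_one_elt]; exact E.one_mem
  · exact hf
  · exact hg
  · rw [← pb_mul]; exact E.mul_mem hf hg
  · exact hz
  · rw [← pb_mul]; exact E.mul_mem hz hf
  · rw [← pb_mul]; exact E.mul_mem hz hg
  · rw [← pb_mul, ← pb_mul]; exact E.mul_mem hz (E.mul_mem hf hg)

theorem pb_pair (hE : c.Elem E) {n : G} (hn : n * c.zg * n⁻¹ = c.zg) {f g : TC} (hf : c.pb n f ∈ E)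
    (hg : c.pb n g ∈ E) (hfP : f ∈ pureInv) (hgP : g ∈ pureInv) (hne : c.pb n f ≠ c.pb n g)
    (hfz : c.pb n f ≠ c.zg) (hgz : c.pb n g ≠ c.zg) (hfgz : c.pb n f * c.pb n g ≠ c.zg) :
    f * g = g * f ∧ (span8 f g).Nodup := by
  have hc : f * g = g * f := pb_inj (c := c) (n := n) (by rw [← pb_mul, ← pb_mul]; exact hE.comm hf hg)
  refine ⟨hc, ?_⟩
  have h := span8_nodup
  simp only [List.all_eq_true] at h
  have h2 := h f hfP g hgP
  rw [pb_mul] at hfgz
  rw [← pb_zz (c := c) hn] at hfz hgz hfgz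
  simpa [hc, show f ≠ g from fun e => hne (e ▸ rfl), show f ≠ zz from fun e => hfz (e ▸ rfl),
    show g ≠ zz from fun e => hgz (e ▸ rfl), show g * f ≠ zz from fun e => hfgz (by rw [hc, e])] using h2

theorem mem_pureInv_of_patInv {j : Q4} {f : TC} (h : f ∈ patInv j) : f ∈ pureInv :=
  (List.mem_filter.mp h).1

/-- Two periods of one element of `V`. -/
theorem periods_contra (hE : c.Elem E) (hpure : ∀ e ∈ E, e ≠ 1 → ¬ c.Fus e) {n : G}
    (hn : n * c.zg * n⁻¹ = c.zg) {j : Q4} (hj : j ≠ q0) {y : G} (hy : n * y * n⁻¹ = c.vg j) (hc : Ctr E y)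
    {f g : G} (hf : f ∈ E) (hg : g ∈ E) (hf1 : f ≠ 1) (hg1 : g ≠ 1) (hne : f ≠ g) (hfz : f ≠ c.zg)
    (hgz : g ≠ c.zg) (hfgz : f * g ≠ c.zg) (pf : c.Per E y f) (pg : c.Per E y g) : False := by
  have hyF : c.Fus y := (Fus.conj_iff n).mp (hy.symm ▸ fus_vg hj)
  obtain ⟨f, rfl, hfP⟩ := pull_inner hE hpure hn hj hy hc hf hf1 (per_fus hyF pf)
  obtain ⟨g, rfl, hgP⟩ := pull_inner hE hpure hn hj hy hc hg hg1 (per_fus hyF pg)
  obtain ⟨hcm, hd⟩ := pb_pair hE hn hf hg (mem_pureInv_of_patInv hfP) (mem_pureInv_of_patInv hgP) hne hfz hgz hfgz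
  have hy' : y = c.pb n (zc q0 j) := by rw [pb, show c.ι (zc q0 j) = c.vg j from rfl, ← hy]; group
  rw [hy'] at pf pg
  have hyT : fusT (zc q0 j) = true := fus_iff.mp (fus_vg (c := c) hj)
  have hm := span8_mem hE hn hf hg
  have h := period_one
  simp only [List.all_eq_true] at h
  have h2 := h j (by rcases q_cases j hj with rfl | rfl | rfl <;> simp) f hfP g hgP
  simp [hcm, pureL_of_mem hE hpure hd hm, perL_of_per hE hyT hm hf pf, perL_of_per hE hyT hm hg pg] at h2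

/-- A frame for a nonpair. -/
theorem exists_frame {x : G} (hx : c.Gz x) (hnp : ¬ c.Fus (x * c.zg)) :
    ∃ n j, n * c.zg * n⁻¹ = c.zg ∧ (j = qw ∨ j = qv) ∧ n * x * n⁻¹ = c.vg j := by
  obtain ⟨n, hn, j, hj, e⟩ := hx
  refine ⟨n, j, hn, ?_, e⟩
  rcases q_cases j hj with rfl | h | h
  · refine absurd ?_ hnp
    refine (Fus.conj_iff n).mp ?_
    rw [show n * (x * c.zg) * n⁻¹ = (n * x * n⁻¹) * (n * c.zg * n⁻¹) by group, e, hn, vg, zg, ← map_mul]
    exact fus_iff.mpr fusT_vg.2.2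
  · exact Or.inl h
  · exact Or.inr h

theorem vg_np {j : Q4} (hj : j = qw ∨ j = qv) : ¬ c.Fus (c.vg j * c.zg) := by
  rw [vg, zg, ← map_mul, fus_iff]
  rcases hj with rfl | rfl
  · rw [fusT_vg.1]; decide
  · rw [fusT_vg.2.1]; decide

theorem exists_max {P : G → G → Prop}
    (hP : ∀ n, n * c.zg * n⁻¹ = c.zg → ∀ x r, P x r → P (n * x * n⁻¹) (n * r * n⁻¹))
    (h : ∃ E, c.Cfg P E) :
    ∃ E j r, c.Elem E ∧ (j = qw ∨ j = qv) ∧ c.InX r ∧ P (c.vg j) r ∧ Ctr E (c.vg j) ∧ Ctr E r ∧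
      ∀ E', c.Cfg P E' → Nat.card E' ≤ Nat.card E := by
  obtain ⟨E₁, hE₁⟩ := h
  haveI : Nonempty {E // c.Cfg P E} := ⟨⟨E₁, hE₁⟩⟩
  obtain ⟨⟨E, hE, x, r, hx, hnp, hr, hxr, cx, cr⟩, hmax⟩ :=
    Finite.exists_max fun E : {E // c.Cfg P E} => Nat.card E.1
  obtain ⟨n, j, hn, hj, e⟩ := exists_frame hx hnp
  have hinj : Function.Injective (MulAut.conj n).toMonoidHom := (MulAut.conj n).injective
  refine ⟨E.map (MulAut.conj n).toMonoidHom, j, n * r * n⁻¹, ⟨⟨c.zg, hE.1, hn⟩, ?_⟩, hj, hr.conj hn,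
    e ▸ hP n hn x r hxr, e ▸ ?_, ?_, fun E' hE' => ?_⟩
  · rintro _ ⟨a, ha, rfl⟩
    rw [← map_mul, hE.2 a ha, map_one]
  · rintro _ ⟨a, ha, rfl⟩
    show n * x * n⁻¹ * (n * a * n⁻¹) = n * a * n⁻¹ * (n * x * n⁻¹)
    rw [show n * x * n⁻¹ * (n * a * n⁻¹) = n * (x * a) * n⁻¹ by group, cx a ha]; group
  · rintro _ ⟨a, ha, rfl⟩
    show n * r * n⁻¹ * (n * a * n⁻¹) = n * a * n⁻¹ * (n * r * n⁻¹)
    rw [show n * r * n⁻¹ * (n * a * n⁻¹) = n * (r * a) * n⁻¹ by group, cr a ha]; group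
  · rw [Subgroup.card_map_of_injective hinj]
    exact hmax ⟨E', hE'⟩

/-- The dihedral step. -/
theorem step {P : G → G → Prop} (hmax : ∀ E', c.Cfg P E' → Nat.card E' ≤ Nat.card E) (hE : c.Elem E)
    {x r : G} (hx : c.Gz x) (hnp : ¬ c.Fus (x * c.zg)) (hr : c.InX r) (hP : P x r) (cx : Ctr E x)
    (cr : Ctr E r) :
    (∃ f ∈ E, ∃ d, Ctr E d ∧ d * x * d⁻¹ = r * f) ∨
      ∃ f ∈ E, f ≠ 1 ∧ c.Per E x f ∧ c.Per E r f := by
  let C : Subgroup G := Subgroup.centralizer (E : Set G)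
  have hC : ∀ {y}, y ∈ C ↔ Ctr E y := fun {y} =>
    ⟨fun h e he => (Subgroup.mem_centralizer_iff.mp h e he).symm,
      fun h => Subgroup.mem_centralizer_iff.mpr fun e he => (h e he).symm⟩
  rcases HeUnique.dihedral_pair hx.inX.1.sq.1 hr.1.sq.1 C (hC.mpr cx) (hC.mpr cr) with
    ⟨-, g, hg, hgr⟩ | ⟨w, hwC, -, hw1, hww, hwx, hwr, hor⟩
  · refine Or.inl ⟨1, E.one_mem, g⁻¹, hC.mp (C.inv_mem hg), ?_⟩
    rw [← hgr, mul_one]; group
  by_cases hwE : w ∈ E
  · rcases hor with ⟨⟨g, hg, hgx⟩, g', hg', hgr⟩ | ⟨g, hg, hgr⟩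
    · have key : ∀ (g y : G), g ∈ C → g * y * g⁻¹ = y * w → c.Per E y w := by
        intro g y hg hgy e he
        rw [← Fus.conj_iff (x := y * e) g, show g * (y * e) * g⁻¹ = (g * y * g⁻¹) * (g * e * g⁻¹) by group,
          hgy, mul_inv_eq_iff_eq_mul.mpr (hC.mp hg e he), mul_assoc]
      exact Or.inr ⟨w, hwE, hw1, key g x hg hgx, key g' r hg' hgr⟩
    · refine Or.inl ⟨w, hwE, g⁻¹, hC.mp (C.inv_mem hg), ?_⟩
      have e1 : g⁻¹ * w * g = w := by
        rw [mul_assoc, ← hC.mp hg w hwE, inv_mul_cancel_left]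
      calc g⁻¹ * x * g⁻¹⁻¹ = g⁻¹ * (x * w) * g * (g⁻¹ * w * g) := by
            rw [show g⁻¹ * (x * w) * g * (g⁻¹ * w * g) = g⁻¹ * (x * (w * w)) * g by group, hww]; group
        _ = r * w := by rw [← hgr, e1]; group
  · exfalso
    have hwc : Ctr E w := hC.mp hwC
    let E' : Subgroup G :=
      { carrier := {g | g ∈ E ∨ g * w ∈ E}
        one_mem' := Or.inl E.one_mem
        mul_mem' := by
          rintro a b (ha | ha) (hb | hb)
          · exact Or.inl (E.mul_mem ha hb)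
          · exact Or.inr (by rw [mul_assoc]; exact E.mul_mem ha hb)
          · refine Or.inr ?_
            rw [mul_assoc, ← hwc b hb, ← mul_assoc]
            exact E.mul_mem ha hb
          · refine Or.inl ?_
            have hb' := hwc _ hb
            have : a * b = a * w * (b * w) := by
              calc a * b = a * (w * w) * b * (w * w) := by rw [hww]; group
                _ = a * w * (w * (b * w)) * w := by group
                _ = a * w * (b * w * w) * w := by rw [hb']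
                _ = a * w * (b * (w * w)) * w := by group
                _ = _ := by rw [hww]; group
            rw [this]
            exact E.mul_mem ha hb
        inv_mem' := by
          rintro a (ha | ha)
          · exact Or.inl (E.inv_mem ha)
          · refine Or.inr ?_
            have : a⁻¹ * w = (a * w)⁻¹ := by
              have h1 := hwc _ ha
              have h2 : w * a = a * w := by
                calc w * a = w * (a * w) * w⁻¹ := by group
                  _ = _ := by rw [h1]; group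
              rw [mul_inv_rev, inv_eq_of_mul_eq_one_right hww]
              calc a⁻¹ * w = a⁻¹ * (w * a) * a⁻¹ := by group
                _ = w * a⁻¹ := by rw [h2]; group
            rw [this]
            exact E.inv_mem ha }
    have hle : E ≤ E' := fun a ha => Or.inl ha
    have hwE' : w ∈ E' := Or.inr (by rw [hww]; exact E.one_mem)
    have hmem : ∀ a ∈ E', ∃ b ∈ E, a = b ∨ a = b * w := by
      rintro a (ha | ha)
      · exact ⟨a, ha, Or.inl rfl⟩
      · exact ⟨a * w, ha, Or.inr (by rw [mul_assoc, hww, mul_one])⟩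
    have hEl : c.Elem E' := by
      refine ⟨hle hE.1, fun a ha => ?_⟩
      obtain ⟨b, hb, rfl | rfl⟩ := hmem a ha
      · exact hE.2 _ hb
      · calc b * w * (b * w) = b * (w * b) * w := by group
          _ = (b * b) * (w * w) := by rw [hwc b hb]; group
          _ = 1 := by rw [hE.2 b hb, hww, mul_one]
    have hctr : ∀ {y}, Ctr E y → w * y = y * w → Ctr E' y := by
      intro y hy hyw a ha
      obtain ⟨b, hb, rfl | rfl⟩ := hmem a ha
      · exact hy _ hb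
      · rw [← mul_assoc, hy b hb, mul_assoc, ← hyw, mul_assoc]
    have h := hmax E' ⟨hEl, x, r, hx, hnp, hr, hP, hctr cx hwx, hctr cr hwr⟩
    exact hwE (by rw [Subgroup.eq_of_le_of_card_ge hle h]; exact hwE')

theorem pure_of_not_conn (hE : c.Elem E) {x r : G} (hx : c.InX x) (hr : c.InX r) (cx : Ctr E x)
    (cr : Ctr E r) (h : ¬ c.Conn x r) : ∀ e ∈ E, e ≠ 1 → ¬ c.Fus e := fun e he _ hF =>
  h ((Adj.conn ⟨hx, ⟨hF, hE.comm he hE.1⟩, cx e he⟩).trans
    (Adj.conn ⟨⟨hF, hE.comm he hE.1⟩, hr, (cr e he).symm⟩))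

theorem ctr_vg_frame (hE : c.Elem E) {n : G} (hn : n * c.zg * n⁻¹ = c.zg) {j : Q4} (hj : j = qw ∨ j = qv)
    {y : G} (hy : n * y * n⁻¹ = c.vg j) (hc : Ctr E y) (i : Q4) : Ctr E (n⁻¹ * c.vg i * n) := by
  intro e he
  have h := (vcent (c := c) (e := n * e * n⁻¹) hj (by
      calc n * e * n⁻¹ * c.zg = n * e * n⁻¹ * (n * c.zg * n⁻¹) := by rw [hn]
        _ = n * (e * c.zg) * n⁻¹ := by group
        _ = n * c.zg * n⁻¹ * (n * e * n⁻¹) := by rw [hE.comm he hE.1]; group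
        _ = _ := by rw [hn]) (by
      rw [show n * e * n⁻¹ * (n * e * n⁻¹) = n * (e * e) * n⁻¹ by group, hE.2 e he]; group) (by
      rw [← hy, show n * e * n⁻¹ * (n * y * n⁻¹) = n * (e * y) * n⁻¹ by group, ← hc e he]; group)).1 i
  calc n⁻¹ * c.vg i * n * e = n⁻¹ * (c.vg i * (n * e * n⁻¹)) * n := by group
    _ = n⁻¹ * (n * e * n⁻¹ * c.vg i) * n := by rw [h]
    _ = _ := by group

theorem ctr_vg (hE : c.Elem E) {j : Q4} (hj : j = qw ∨ j = qv) (hc : Ctr E (c.vg j)) (i : Q4) :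
    Ctr E (c.vg i) := by
  have := ctr_vg_frame hE (n := 1) (by group) hj (y := c.vg j) (by group) hc i
  rwa [show (1 : G)⁻¹ * c.vg i * 1 = c.vg i by group] at this

/-- All elements are inner when an inner element is not `z`. -/
theorem all_inner (hE : c.Elem E) (hpure : ∀ e ∈ E, e ≠ 1 → ¬ c.Fus e) {j : Q4} (hj : j = qw ∨ j = qv)
    (hc : Ctr E (c.vg j)) {f : TC} (hf : c.ι f ∈ E) (hf1 : f ≠ 1) (hfz : f ≠ zz) :
    ∀ e ∈ E, ∃ a, e = c.ι a := by
  intro e he
  rcases (vcent hj (hE.comm he hE.1) (hE.2 e he) (hc e he).symm).2 with h | ⟨h, hk⟩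
  · exact h
  exfalso
  obtain ⟨-, -, t, ht⟩ := c.code_spec ⟨e, h⟩
  rw [hk] at ht
  have hy' : ∀ w, e * c.ι w * e⁻¹ = c.ι (cjt ⟨t.a, t.b, q0, q0⟩ (act ⟨q1, q1, true, true⟩ w)) := fun w => by
    rw [ht, conj_twist]; rfl
  have hff : f * f = 1 := c.inj (by rw [map_mul, hE.2 _ hf, map_one])
  have hfF : fusT f = false := by
    cases hb : fusT f
    · rfl
    · exact absurd (fus_iff.mpr hb) (hpure _ hf fun e => hf1 (c.inj (e.trans (map_one c.ι).symm)))
  have hfzF : fusT (f * zz) = false := by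
    cases hb : fusT (f * zz)
    · rfl
    · refine absurd (fus_iff.mpr hb) (hpure _ (by rw [map_mul]; exact E.mul_mem hf hE.1) fun e => hfz ?_)
      have e' : f * zz = 1 := c.inj (e.trans (map_one c.ι).symm)
      calc f = f * zz * zz := by rw [mul_assoc, show zz * zz = (1 : TC) by decide +kernel, mul_one]
        _ = zz := by rw [e', one_mul]
  rcases outer_inner ⟨t.a, t.b, q0, q0⟩ (mem_twists _ _) f (c.inj (by
      rw [← hy', hE.comm he hf, mul_inv_cancel_right])) hff hfF hfzF (fun a _ => c.inj (by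
      rw [← hy', ← hy', show e * (e * c.ι a * e⁻¹) * e⁻¹ = (e * e) * c.ι a * (e * e)⁻¹ by group, hE.2 e he]
      group)) with h | h
  · exact hf1 h
  · exact hfz h

theorem r_frame {r : G} (hr : c.Fus r) : ∃ g i, i ≠ q0 ∧ r = g * c.vg i * g⁻¹ := by
  obtain ⟨g, k, hk, hk2, rfl⟩ := hr
  obtain ⟨i, rfl⟩ := K_two hk (j := 1) (by rw [pow_one, ← hk2, pow_orderOf_eq_one])
  refine ⟨g, i, fun h => ?_, rfl⟩
  rw [h, show c.vg q0 = 1 from map_one c.ι, orderOf_one] at hk2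
  omega

theorem InR.mul {g a b : G} (ha : c.InR g a) (hb : c.InR g b) : c.InR g (a * b) := by
  obtain ⟨ha, ea⟩ := ha
  obtain ⟨hb, eb⟩ := hb
  have e : g⁻¹ * (a * b) * g = g⁻¹ * a * g * (g⁻¹ * b * g) := by group
  refine ⟨e ▸ c.N.mul_mem ha hb, ?_⟩
  rw [show (⟨g⁻¹ * (a * b) * g, _⟩ : c.N) = ⟨_, ha⟩ * ⟨_, hb⟩ from Subtype.ext e, c.eps_mul, ea, eb]
  rfl

/-- Every fused involution commuting with `z` is moved into `V` fixing `z`. -/
theorem gz_of_inX {r₀ : G} (hr₀ : c.InX r₀) : c.Gz r₀ := by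
  by_contra hng
  obtain ⟨E, j, r, hE, hj, hr, hrP, cxj, cr, hmax⟩ := exists_max (c := c) (P := fun _ r => ¬ c.Gz r)
    (fun n hn x r h h' => h (by
      have := h'.conj (zg_conj_inv hn)
      rwa [show n⁻¹ * (n * r * n⁻¹) * n⁻¹⁻¹ = r by group] at this))
    ⟨Subgroup.zpowers c.zg, ⟨Subgroup.mem_zpowers _, fun e he => by
        obtain ⟨k, rfl⟩ := Subgroup.mem_zpowers_iff.mp he
        rw [← (Commute.refl c.zg).mul_zpow, zg_sq, one_zpow]⟩,
      c.vg qw, r₀, vg_gz (by decide), vg_np (Or.inl rfl), hr₀, hng,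
      fun e he => by
        obtain ⟨k, rfl⟩ := Subgroup.mem_zpowers_iff.mp he
        exact (Commute.zpow_right (show Commute (c.vg qw) c.zg from zg_vg qw) k).eq,
      fun e he => by
        obtain ⟨k, rfl⟩ := Subgroup.mem_zpowers_iff.mp he
        exact (Commute.zpow_right (show Commute r₀ c.zg from hr₀.2) k).eq⟩
  have hj0 : j ≠ q0 := by rcases hj with rfl | rfl <;> decide
  have hpure : ∀ e ∈ E, e ≠ 1 → ¬ c.Fus e :=
    pure_of_not_conn hE (vg_inX hj0) hr cxj cr fun h => hrP (h.gz (vg_gz hj0))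
  have anchor : ∀ y, c.Gz y → ¬ c.Fus (y * c.zg) → Ctr E y → ∃ f ∈ E, f ≠ 1 ∧ c.Per E y f ∧ c.Per E r f := by
    intro y hy hnp hc
    refine (step hmax hE hy hnp hr hrP hc cr).resolve_left ?_
    rintro ⟨f, hf, d, hd, hdy⟩
    have hgz := hy.conj (n := d) (mul_inv_eq_iff_eq_mul.mpr (hd _ hE.1))
    rw [hdy] at hgz
    exact hrP (hgz.adj hr (by rw [mul_assoc, ← cr f hf]))
  have hV := ctr_vg hE hj cxj
  obtain ⟨F, hFE, hF1, pF, rF⟩ := anchor (c.vg qw) (vg_gz (by decide)) (vg_np (Or.inl rfl)) (hV qw)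
  obtain ⟨H, hHE, hH1, pH, rH⟩ := anchor (c.vg qv) (vg_gz (by decide)) (vg_np (Or.inr rfl)) (hV qv)
  have hFx : c.Fus (c.vg qw * F) := per_fus (fus_vg (by decide)) pF
  have hHx : c.Fus (c.vg qv * H) := per_fus (fus_vg (by decide)) pH
  obtain ⟨f, rfl, hfP⟩ := pull_inner hE hpure (n := 1) (by group) (i := qw) (by decide) (y := c.vg qw)
    (by group) (hV qw) hFE hF1 hFx
  obtain ⟨h, rfl, hhP⟩ := pull_inner hE hpure (n := 1) (by group) (i := qv) (by decide) (y := c.vg qv)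
    (by group) (hV qv) hHE hH1 hHx
  obtain ⟨g₀, i₀, hi₀, rfl⟩ := r_frame hr.1
  have inR : ∀ e ∈ E, e ≠ 1 → c.Per E (g₀ * c.vg i₀ * g₀⁻¹) e → c.InR g₀ e := by
    intro e he h1 hp
    have hN : g₀⁻¹ * e * g₀ ∈ c.N := c.centralizer_le (c.vg_mem_K i₀) (vg_invol hi₀) (by
      calc g₀⁻¹ * e * g₀ * c.vg i₀ = g₀⁻¹ * (e * (g₀ * c.vg i₀ * g₀⁻¹)) * g₀ := by group
        _ = g₀⁻¹ * ((g₀ * c.vg i₀ * g₀⁻¹) * e) * g₀ := by rw [cr e he]
        _ = _ := by group)
    exact ⟨hN, inner_of_prod hi₀ hN (hE.2 e he) (hpure e he h1) (cr e he) (per_fus hr.1 hp)⟩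
  have hzR : ¬ c.InR g₀ c.zg := fun ⟨hN, he⟩ => hrP (gz_of_inner (c.vg_mem_K i₀) (vg_invol hi₀) hN he)
  have fR := inR _ hFE hF1 rF
  have hR := inR _ hHE hH1 rH
  have hne : c.pb 1 f ≠ c.pb 1 h := fun e => by
    rw [← e] at hHx
    exact absurd (pat_disjoint' hE hpure (n := 1) (i := qw) (k := qv) (by group) (by decide)
      (by rw [show (1 : G)⁻¹ * c.vg qw * 1 = c.vg qw by group]; exact hV qw) hFE hF1
      (by rw [show (1 : G)⁻¹ * c.vg qw * 1 = c.vg qw by group]; exact hFx)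
      (by rw [show (1 : G)⁻¹ * c.vg qv * 1 = c.vg qv by group]; exact hHx)) (by decide)
  have hfz : c.pb 1 f ≠ c.zg := fun e => hzR (e ▸ fR)
  have hhz : c.pb 1 h ≠ c.zg := fun e => hzR (e ▸ hR)
  obtain ⟨hcm, hd⟩ := pb_pair hE (by group) hFE hHE (mem_pureInv_of_patInv hfP) (mem_pureInv_of_patInv hhP)
    hne hfz hhz fun e => hzR (e ▸ fR.mul hR)
  have hm := span8_mem hE (n := 1) (by group) hFE hHE
  have e1 : ∀ v, c.vg v = c.pb 1 (zc q0 v) := fun v => (pb_one _).symm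
  have hw' : fusT (zc q0 qw) = true := fus_iff.mp (fus_vg (c := c) (by decide))
  have hv' : fusT (zc q0 qv) = true := fus_iff.mp (fus_vg (c := c) (by decide))
  rw [e1] at pF pH
  have hcond : (decide (f * h = h * f) && pureL (span8 f h) && perL (zc q0 qw) f (span8 f h) &&
      perL (zc q0 qv) h (span8 f h)) = true := by
    simp [hcm, pureL_of_mem hE hpure hd hm, perL_of_per hE hw' hm hFE pF, perL_of_per hE hv' hm hHE pH]
  have hf1 : f ≠ 1 := fun e => hF1 (by rw [e, pb_one_elt])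
  have hinner := all_inner hE hpure hj cxj (f := f) (by rw [← pb_one]; exact hFE) hf1
    fun e => hfz (by rw [e, pb_one]; rfl)
  have h8 : ∀ e ∈ E, ∃ a ∈ span8 f h, e = c.ι a := by
    intro e he
    obtain ⟨a, rfl⟩ := hinner e he
    refine ⟨a, ?_, rfl⟩
    by_contra ha
    have ha1 : a ≠ 1 := fun e => ha (by simp [span8, e])
    rw [← pb_one] at he
    have hm16 : ∀ b ∈ span16 f h a, c.pb 1 b ∈ E := by
      intro b hb
      rcases List.mem_append.mp hb with hb | hb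
      · exact hm b hb
      · obtain ⟨b, hb', rfl⟩ := List.mem_map.mp hb
        rw [← pb_mul]; exact E.mul_mem (hm b hb') he
    have hcl := span8_closed
    simp only [List.all_eq_true] at hcl
    have hcl' := hcl f hfP h hhP
    simp only [hcm, decide_true, cond_true, List.all_eq_true, decide_eq_true_eq] at hcl'
    have hd16 : (span16 f h a).Nodup := by
      refine List.nodup_append.mpr ⟨hd, hd.map fun _ _ h => mul_right_cancel h, ?_⟩
      rintro x hx y hy rfl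
      obtain ⟨b, hb, rfl⟩ := List.mem_map.mp hy
      refine ha ?_
      have hb2 : b * b = 1 := pb_inj (c := c) (n := 1) (by rw [← pb_mul, hE.2 _ (hm b hb), pb_one_elt])
      have := hcl' b hb _ hx
      rwa [← mul_assoc, hb2, one_mul] at this
    have hP16 := pureL_of_mem hE hpure hd16 hm16
    have hca : f * a = a * f ∧ h * a = a * h :=
      ⟨pb_inj (c := c) (n := 1) (by rw [← pb_mul, ← pb_mul]; exact hE.comm hFE he),
       pb_inj (c := c) (n := 1) (by rw [← pb_mul, ← pb_mul]; exact hE.comm hHE he)⟩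
    have hmax' := period_max
    simp only [List.all_eq_true] at hmax'
    have h2 := hmax' f hfP h hhP
    rw [hcond, cond_true] at h2
    simp only [List.all_eq_true] at h2
    have h3 := h2 a (mem_pureInv (pb_inj (c := c) (n := 1) (by rw [← pb_mul, hE.2 _ he, pb_one_elt])) (by
      cases hb : fusT a
      · rfl
      · exact absurd (fus_pb.mpr hb) (hpure _ he fun e => ha1 (pb_inj (e.trans (pb_one_elt 1).symm)))) ha1)
    simp [hca.1, hca.2, hP16, perL_of_per hE hw' hm16 hFE pF, perL_of_per hE hv' hm16 hHE pH] at h3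
  have hwit := period_witness
  simp only [List.all_eq_true] at hwit
  have h2 := hwit f hfP h hhP
  rw [hcond, cond_true] at h2
  obtain ⟨y, -, hy⟩ := List.any_eq_true.mp h2
  simp only [Bool.and_eq_true, decide_eq_true_eq, Bool.not_eq_true', List.all_eq_true] at hy
  obtain ⟨⟨⟨⟨hyT, hyz⟩, hyf⟩, hyh⟩, hyall⟩ := hy
  have hcy : Ctr E (c.ι y) := by
    intro e he
    obtain ⟨a, ha, rfl⟩ := h8 e he
    have hyz' : Commute y zz := (zz_comm y).symm
    have : Commute y a := by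
      simp only [span8, List.mem_cons, List.not_mem_nil, or_false] at ha
      rcases ha with rfl | rfl | rfl | rfl | rfl | rfl | rfl | rfl
      exacts [Commute.one_right y, hyf, hyh, Commute.mul_right hyf hyh, hyz', hyz'.mul_right hyf,
        hyz'.mul_right hyh, hyz'.mul_right (Commute.mul_right hyf hyh)]
    rw [← map_mul, ← map_mul, this.eq]
  have hynp : ¬ c.Fus (c.ι y * c.zg) := by
    rw [zg, ← map_mul, fus_iff, hyz]; decide
  obtain ⟨Q, hQ, hQ1, pQ, rQ⟩ := anchor (c.ι y) (move_T hyT) hynp hcy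
  obtain ⟨q, hq, rfl⟩ := h8 Q hQ
  have qR := inR _ hQ hQ1 rQ
  simp only [← pb_one] at hQ pQ qR
  have zbad : ∀ b, c.InR g₀ (c.pb 1 b) → b * b = 1 → c.InR g₀ (c.pb 1 (zz * b)) → False := by
    intro b hb hb2 hzb
    have h := hzb.mul hb
    rw [pb_mul, mul_assoc, hb2, mul_one, pb_one] at h
    exact hzR h
  have good : ∀ b ∈ [f, h, f * h], q ≠ b := by
    rintro b hb rfl
    have h1 := hyall q hb
    have hpat : pat y q = true := by
      have h2 := per_fus (c := c) (fus_pb.mpr hyT) pQ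
      rw [pb_mul, fus_pb] at h2
      simp [pat, h2]
    rw [hpat, perL_of_per hE hyT hm hQ pQ] at h1
    simp at h1
  have hff : f * f = 1 := pb_inj (c := c) (n := 1) (by rw [← pb_mul, hE.2 _ hFE, pb_one_elt])
  have hhh : h * h = 1 := pb_inj (c := c) (n := 1) (by rw [← pb_mul, hE.2 _ hHE, pb_one_elt])
  simp only [span8, List.mem_cons, List.not_mem_nil, or_false] at hq
  rcases hq with rfl | rfl | rfl | rfl | rfl | rfl | rfl | rfl
  · exact hQ1 (map_one c.ι)
  · exact good q (by simp) rfl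
  · exact good q (by simp) rfl
  · exact good (f * h) (by simp) rfl
  · rw [pb_one] at qR; exact hzR qR
  · exact zbad f fR hff qR
  · exact zbad h hR hhh qR
  · refine zbad (f * h) (by rw [← pb_mul]; exact fR.mul hR) ?_ qR
    calc f * h * (f * h) = f * (h * f) * h := by group
      _ = (f * f) * (h * h) := by rw [← hcm]; group
      _ = 1 := by rw [hff, hhh, mul_one]

/-- Two nonpairs in different components are impossible. -/
theorem conn_np (hE : c.Elem E) (hmax : ∀ E', c.Cfg (fun x r => ¬ c.Conn x r) E' → Nat.card E' ≤ Nat.card E)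
    {j : Q4} (hj : j = qw ∨ j = qv) {r : G} (hr : c.InX r) (hnr : ¬ c.Fus (r * c.zg))
    (hP : ¬ c.Conn (c.vg j) r) (cxj : Ctr E (c.vg j)) (cr : Ctr E r) : False := by
  have hj0 : j ≠ q0 := by rcases hj with rfl | rfl <;> decide
  set x := c.vg j with hxdef
  have hx : c.Gz x := vg_gz hj0
  have hxn : ¬ c.Fus (x * c.zg) := vg_np hj
  have hpure := pure_of_not_conn hE (vg_inX hj0) hr cxj cr hP
  have hV := ctr_vg hE hj cxj
  obtain ⟨n, k, hn, hk, hnk⟩ := exists_frame (gz_of_inX hr) hnr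
  have hk0 : k ≠ q0 := by rcases hk with rfl | rfl <;> decide
  have hR : ∀ i, i ≠ q0 → c.InX (n⁻¹ * c.vg i * n) ∧ c.Conn r (n⁻¹ * c.vg i * n) := by
    intro i hi
    have h := (vg_adj (c := c) hk0 hi).conj (zg_conj_inv hn)
    rw [inv_inv, ← hnk, show n⁻¹ * (n * r * n⁻¹) * n = r by group] at h
    exact ⟨h.2.1, h.conn⟩
  have hRc := ctr_vg_frame hE hn hk hnk cr
  have hRP : ∀ i, i ≠ q0 → ¬ c.Conn x (n⁻¹ * c.vg i * n) := fun i hi h => hP (h.trans (hR i hi).2.symm)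
  -- some conjugate of the anchor is connected to `r`
  obtain ⟨d, hd, hdr⟩ : ∃ d, Ctr E d ∧ c.Conn (d * x * d⁻¹) r := by
    by_contra hcon
    push Not at hcon
    have B : ∀ i, i ≠ q0 → ∃ f ∈ E, f ≠ 1 ∧ c.Per E x f ∧ c.Per E (n⁻¹ * c.vg i * n) f := by
      intro i hi
      refine (step hmax hE hx hxn (hR i hi).1 (hRP i hi) cxj (hRc i)).resolve_left ?_
      rintro ⟨f, hf, d, hd, hdx⟩
      refine hcon d hd (Conn.trans (Adj.conn ?_) (hR i hi).2.symm)
      exact ⟨hx.inX.conj (mul_inv_eq_iff_eq_mul.mpr (hd _ hE.1)), (hR i hi).1, by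
        rw [hdx, mul_assoc, ← hRc i f hf]⟩
    obtain ⟨f, hf, hf1, pf, qf⟩ := B qw (by decide)
    obtain ⟨g, hg, hg1, pg, qg⟩ := B qv (by decide)
    have hF : ∀ i, i ≠ q0 → c.Fus (n⁻¹ * c.vg i * n) := fun i hi => (hR i hi).1.1
    have hxF : c.Fus x := fus_vg hj0
    refine periods_contra hE hpure (n := 1) (by group) hj0 (y := x) (by rw [hxdef]; group) cxj hf hg hf1 hg1
      ?_ (per_ne_zg hxF hxn pf) (per_ne_zg hxF hxn pg) (per_ne_zg hxF hxn (pf.mul hg pg)) pf pg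
    rintro rfl
    exact absurd (pat_disjoint' hE hpure hn (k := qv) (by decide) (hRc qw) hf hf1
      (per_fus (hF qw (by decide)) qf) (per_fus (hF qv (by decide)) qg)) (by decide)
  have hdz : d * c.zg * d⁻¹ = c.zg := mul_inv_eq_iff_eq_mul.mpr (hd _ hE.1)
  have hde : ∀ y, ∀ e ∈ E, c.Fus (d * y * d⁻¹ * e) ↔ c.Fus (y * e) := fun y e he => by
    rw [← Fus.conj_iff (x := y * e) d, show d * (y * e) * d⁻¹ = d * y * d⁻¹ * (d * e * d⁻¹) by group,
      mul_inv_eq_iff_eq_mul.mpr (hd e he)]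
  have hdc : ∀ {y}, Ctr E y → Ctr E (d * y * d⁻¹) := fun {y} hy e he => by
    calc d * y * d⁻¹ * e = d * y * d⁻¹ * (d * e * d⁻¹) := by rw [mul_inv_eq_iff_eq_mul.mpr (hd e he)]
      _ = d * (y * e) * d⁻¹ := by group
      _ = d * (e * y) * d⁻¹ := by rw [hy e he]
      _ = d * e * d⁻¹ * (d * y * d⁻¹) := by group
      _ = _ := by rw [mul_inv_eq_iff_eq_mul.mpr (hd e he)]
  -- translated patterns
  have pattern : ∀ {y z f : G}, f ∈ E → ∀ {d'}, Ctr E d' → d' * y * d'⁻¹ = d * z * d⁻¹ * f →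
      ∀ e ∈ E, c.Fus (y * e) ↔ c.Fus (z * (f * e)) := by
    intro y z f hf d' hd' h e he
    rw [← Fus.conj_iff (x := y * e) d', show d' * (y * e) * d'⁻¹ = d' * y * d'⁻¹ * (d' * e * d'⁻¹) by group,
      mul_inv_eq_iff_eq_mul.mpr (hd' e he), h, mul_assoc, hde z _ (E.mul_mem hf he)]
  obtain ⟨l, hl, hlj⟩ : ∃ l, (l = qw ∨ l = qv) ∧ j ≠ l := by
    rcases hj with rfl | rfl
    · exact ⟨qv, Or.inr rfl, by decide⟩
    · exact ⟨qw, Or.inl rfl, by decide⟩
  have hl0 : l ≠ q0 := by rcases hl with rfl | rfl <;> decide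
  have dis : ∀ e ∈ E, e ≠ 1 → c.Fus (x * e) → c.Fus (c.vg l * e) → False := by
    intro e he h1 h h'
    refine hlj (pat_disjoint' hE hpure (n := 1) (by group) hj0 ?_ he h1 ?_ ?_) <;>
      rw [show ∀ i, (1 : G)⁻¹ * c.vg i * 1 = c.vg i from fun i => by group]
    exacts [cxj, h, h']
  have hxF : c.Fus x := fus_vg hj0
  have hPl : ¬ c.Conn (c.vg l) (d * x * d⁻¹) := fun h =>
    hP (((vg_adj hj0 hl0).conn.trans h).trans hdr)
  have only : ∀ e ∈ E, c.Fus (x * e) → e = 1 := by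
    rcases step hmax hE (vg_gz hl0) (vg_np hl) (hx.inX.conj hdz) hPl (hV l) (hdc cxj) with
      ⟨f, hf, d', hd', hdl⟩ | ⟨f, hf, hf1, pf, qf⟩
    · have key := pattern hf hd' hdl
      have hf1 : f = 1 := by
        by_contra hf1
        refine dis f hf hf1 ?_ ((key f hf).mpr (by rw [hE.2 f hf, mul_one]; exact hxF))
        have := (key 1 E.one_mem).mp (by rw [mul_one]; exact fus_vg hl0)
        rwa [mul_one] at this
      intro e he h
      by_contra h1
      exact dis e he h1 h ((key e he).mpr (by rw [hf1, one_mul]; exact h))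
    · exact (dis f hf hf1 ((hde x f hf).mp (per_fus (hxF.conj d) qf)) (per_fus (fus_vg hl0) pf)).elim
  have hq1 : q1 ≠ q0 := by decide
  have hP1 : ¬ c.Conn x (d * c.vg q1 * d⁻¹) := fun h =>
    hP ((h.trans ((vg_adj hq1 hj0).conj hdz).conn).trans hdr)
  rcases step hmax hE hx hxn ((vg_inX hq1).conj hdz) hP1 cxj (hdc (hV q1)) with
    ⟨f, hf, d', hd', hdx⟩ | ⟨f, hf, hf1, pf, -⟩
  · have key := pattern hf hd' hdx
    have hf1 : f = 1 := only f hf ((key f hf).mpr (by rw [hE.2 f hf, mul_one]; exact fus_vg hq1))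
    refine hxn ((key c.zg hE.1).mpr ?_)
    rw [hf1, one_mul, vg, zg, ← map_mul]
    exact fus_iff.mpr fusT_vg.2.2
  · exact hf1 (only f hf (per_fus hxF pf))

theorem conn_np_of_gz {x : G} (hx : c.Gz x) : ∃ y, c.Gz y ∧ ¬ c.Fus (y * c.zg) ∧ c.Conn x y := by
  obtain ⟨n, hn, j, hj, e⟩ := hx
  refine ⟨n⁻¹ * c.vg qw * n⁻¹⁻¹, (vg_gz (by decide)).conj (zg_conj_inv hn), fun h => ?_, ?_⟩
  · refine vg_np (c := c) (j := qw) (Or.inl rfl) ((Fus.conj_iff n⁻¹).mp ?_)
    rwa [show n⁻¹ * (c.vg qw * c.zg) * n⁻¹⁻¹ = n⁻¹ * c.vg qw * n⁻¹⁻¹ * (n⁻¹ * c.zg * n⁻¹⁻¹) by group,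
      zg_conj_inv hn]
  · have h := ((vg_adj (c := c) hj (show qw ≠ q0 by decide)).conj (zg_conj_inv hn)).conn
    rwa [← e, show n⁻¹ * (n * x * n⁻¹) * n⁻¹⁻¹ = x by group] at h

/-- The graph is connected. -/
theorem conn_all {a b : G} (ha : c.InX a) (hb : c.InX b) : c.Conn a b := by
  by_contra hab
  obtain ⟨x₁, hx₁, hnp₁, hax⟩ := conn_np_of_gz (gz_of_inX ha)
  obtain ⟨E, j, r, hE, hj, hr, hP, cxj, cr, hmax⟩ := exists_max (c := c) (P := fun x r => ¬ c.Conn x r)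
    (fun n hn x r h h' => h (by
      have := h'.conj (zg_conj_inv hn)
      rwa [show n⁻¹ * (n * x * n⁻¹) * n⁻¹⁻¹ = x by group, show n⁻¹ * (n * r * n⁻¹) * n⁻¹⁻¹ = r by group] at this))
    ⟨Subgroup.zpowers c.zg, ⟨Subgroup.mem_zpowers _, fun e he => by
        obtain ⟨k, rfl⟩ := Subgroup.mem_zpowers_iff.mp he
        rw [← (Commute.refl c.zg).mul_zpow, zg_sq, one_zpow]⟩,
      x₁, b, hx₁, hnp₁, hb, fun h => hab (hax.trans h),
      fun e he => by
        obtain ⟨k, rfl⟩ := Subgroup.mem_zpowers_iff.mp he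
        exact (Commute.zpow_right (show Commute x₁ c.zg from hx₁.inX.2) k).eq,
      fun e he => by
        obtain ⟨k, rfl⟩ := Subgroup.mem_zpowers_iff.mp he
        exact (Commute.zpow_right (show Commute b c.zg from hb.2) k).eq⟩
  by_cases hnr : c.Fus (r * c.zg)
  swap
  · exact conn_np hE hmax hj hr hnr hP cxj cr
  have hj0 : j ≠ q0 := by rcases hj with rfl | rfl <;> decide
  have hpure := pure_of_not_conn hE (vg_inX hj0) hr cxj cr hP
  have hV := ctr_vg hE hj cxj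
  obtain ⟨n, hn, k, hk, hnk⟩ := gz_of_inX hr
  have anchor : ∀ y, c.Gz y → ¬ c.Fus (y * c.zg) → Ctr E y → c.Conn (c.vg j) y →
      ∃ f ∈ E, f ≠ 1 ∧ c.Per E y f ∧ c.Per E r f := by
    intro y hy hnp hc hxy
    refine (step hmax hE hy hnp hr (fun h => hP (hxy.trans h)) hc cr).resolve_left ?_
    rintro ⟨f, hf, d, hd, hdy⟩
    have hdz : d * c.zg * d⁻¹ = c.zg := mul_inv_eq_iff_eq_mul.mpr (hd _ hE.1)
    have hX : c.InX (r * f) := hdy ▸ hy.inX.conj hdz
    refine conn_np hE hmax hj hX (fun h => hnp ((Fus.conj_iff d).mp ?_)) (fun h => hP ?_) cxj (fun e he => ?_)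
    · rwa [show d * (y * c.zg) * d⁻¹ = d * y * d⁻¹ * (d * c.zg * d⁻¹) by group, hdz, hdy]
    · exact h.trans (Adj.conn ⟨hX, hr, by rw [mul_assoc, ← cr f hf]⟩)
    · rw [mul_assoc, hE.comm hf he, ← mul_assoc, cr e he, mul_assoc]
  have hxc : ∀ i, i ≠ q0 → c.Conn (c.vg j) (c.vg i) := fun i hi => (vg_adj hj0 hi).conn
  obtain ⟨F, hFE, hF1, pF, rF⟩ := anchor (c.vg qw) (vg_gz (by decide)) (vg_np (Or.inl rfl)) (hV qw)
    (hxc _ (by decide))
  obtain ⟨H, hHE, hH1, pH, rH⟩ := anchor (c.vg qv) (vg_gz (by decide)) (vg_np (Or.inr rfl)) (hV qv)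
    (hxc _ (by decide))
  have hwF : c.Fus (c.vg qw) := fus_vg (by decide)
  have hvF : c.Fus (c.vg qv) := fus_vg (by decide)
  have hFz := per_ne_zg hwF (vg_np (Or.inl rfl)) pF
  have hne : F ≠ H := by
    rintro rfl
    exact absurd (pat_disjoint' hE hpure (n := 1) (i := qw) (k := qv) (by group) (by decide)
      (by rw [show (1 : G)⁻¹ * c.vg qw * 1 = c.vg qw by group]; exact hV qw) hFE hF1
      (by rw [show (1 : G)⁻¹ * c.vg qw * 1 = c.vg qw by group]; exact per_fus hwF pF)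
      (by rw [show (1 : G)⁻¹ * c.vg qv * 1 = c.vg qv by group]; exact per_fus hvF pH)) (by decide)
  by_cases hFH : F * H = c.zg
  swap
  · exact periods_contra hE hpure hn hk hnk cr hFE hHE hF1 hH1 hne hFz
      (per_ne_zg hvF (vg_np (Or.inr rfl)) pH) hFH rF rH
  obtain ⟨f, rfl, hfP⟩ := pull_inner hE hpure (n := 1) (by group) (i := qw) (by decide) (y := c.vg qw)
    (by group) (hV qw) hFE hF1 (per_fus hwF pF)
  obtain ⟨h, rfl, hhP⟩ := pull_inner hE hpure (n := 1) (by group) (i := qv) (by decide) (y := c.vg qv)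
    (by group) (hV qv) hHE hH1 (per_fus hvF pH)
  have hff : f * f = 1 := pb_inj (c := c) (n := 1) (by rw [← pb_mul, hE.2 _ hFE, pb_one_elt])
  have hh : h = f * zz := pb_inj (c := c) (n := 1) (by
    rw [← pb_mul, pb_zz (show (1 : G) * c.zg * 1⁻¹ = c.zg by group), ← hFH, ← mul_assoc, hE.2 _ hFE, one_mul])
  subst hh
  have hf1 : f ≠ 1 := fun e => hF1 (by rw [e, pb_one_elt])
  have hfz : f ≠ zz := fun e => hFz (by rw [e, pb_one]; rfl)
  have hinner := all_inner hE hpure hj cxj (f := f) (by rw [← pb_one]; exact hFE) hf1 hfz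
  have e1 : ∀ v, c.vg v = c.pb 1 (zc q0 v) := fun v => (pb_one _).symm
  have hw' : fusT (zc q0 qw) = true := fus_iff.mp (fus_vg (c := c) (by decide))
  have hv' : fusT (zc q0 qv) = true := fus_iff.mp (fus_vg (c := c) (by decide))
  rw [e1] at pF pH
  have hwit := deg_witness
  simp only [List.all_eq_true] at hwit
  have h2 := hwit f hfP
  rw [decide_eq_true hhP, cond_true] at h2
  obtain ⟨y, -, hy⟩ := List.any_eq_true.mp h2
  simp only [Bool.and_eq_true, decide_eq_true_eq, Bool.not_eq_true', List.all_eq_true] at hy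
  obtain ⟨⟨⟨⟨⟨hyT, hyz⟩, hyf⟩, hpf⟩, hpfz⟩, hyall⟩ := hy
  have hyz' : Commute y zz := (zz_comm y).symm
  have hcy : Ctr E (c.ι y) := by
    intro e he
    obtain ⟨a, rfl⟩ := hinner e he
    rw [← map_mul, ← map_mul]
    congr 1
    by_cases ha : a = 1 ∨ a = zz ∨ a = f ∨ a = f * zz
    · rcases ha with rfl | rfl | rfl | rfl
      exacts [(Commute.one_right y).eq, hyz'.eq, hyf, (Commute.mul_right hyf hyz').eq]
    push Not at ha
    rw [← pb_one] at he
    have haP : a ∈ pureInv := mem_pureInv (pb_inj (c := c) (n := 1) (by rw [← pb_mul, hE.2 _ he, pb_one_elt])) (by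
      cases hb : fusT a
      · rfl
      · exact absurd (fus_pb.mpr hb) (hpure _ he fun e => ha.1 (pb_inj (e.trans (pb_one_elt 1).symm)))) ha.1
    have h11 : (1 : G) * c.zg * 1⁻¹ = c.zg := by group
    obtain ⟨hcm, hd⟩ := pb_pair hE h11 hFE he (mem_pureInv_of_patInv hfP) haP
      (fun e => ha.2.2.1 (pb_inj e).symm) hFz (by rw [← pb_zz h11]; exact fun e => ha.2.1 (pb_inj e))
      (by
        rw [pb_mul, ← pb_zz h11]
        exact fun e => ha.2.2.2 (by
          rw [show a = f * (f * a) by rw [← mul_assoc, hff, one_mul], pb_inj e]))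
    have hm := span8_mem hE h11 hFE he
    have h3 := hyall a haP
    simp only [hcm, decide_true, pureL_of_mem hE hpure hd hm, perL_of_per hE hw' hm hFE pF,
      perL_of_per hE hv' hm hHE pH, Bool.and_self, Bool.not_true, Bool.false_or, decide_eq_true_eq] at h3
    exact h3
  have hynp : ¬ c.Fus (c.ι y * c.zg) := by rw [zg, ← map_mul, fus_iff, hyz]; decide
  have hyX : c.InX (c.ι y) := Gz.inX (move_T (c := c) hyT)
  obtain ⟨Q, hQ, hQ1, pQ, rQ⟩ := anchor (c.ι y) (move_T hyT) hynp hcy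
    (Adj.conn ⟨vg_inX hj0, hyX, (c.vg_comm_ι j y).symm⟩)
  have hyF : c.Fus (c.ι y) := fus_iff.mpr hyT
  have hQy := per_fus hyF pQ
  have notpat : ∀ b, pat y b = false → Q ≠ c.pb 1 b := by
    rintro b hb rfl
    rw [pb_one, ← map_mul, fus_iff] at hQy
    simp [pat, hQy] at hb
  refine periods_contra hE hpure hn hk hnk cr hFE hQ hF1 hQ1 (fun e => notpat f hpf e.symm) hFz
    (per_ne_zg hyF hynp pQ) (fun e => notpat (f * zz) hpfz ?_) rF rQ
  rw [← pb_mul, pb_zz (show (1 : G) * c.zg * 1⁻¹ = c.zg by group), ← e, ← mul_assoc, hE.2 _ hFE, one_mul]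

end Ctx

end CfsgLib.HeStd
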