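import Cfsg.Agent.Lib.LFourElemCover.Model

/-!
# Torus, reflections and centraliser of a root element in `PSL(3, 4)`
-/

set_option autoImplicit false
set_option linter.style.haveILetI false
set_option linter.unusedSectionVars false

namespace CfsgLib.HeStd

open Matrix
open scoped MatrixGroups
open CfsgLib.AutPSL (mkP mkP_surjective)
open CfsgLib.LFourElemCover (um pm pm_mul exists_scalar rt01 rt02 rt12)
open CfsgLib.Schur.LThreeFour (rt)
open CfsgLib.Schur.SLFam (tv IsMono)

universe u

variable {F : Type u} [Field F] [Fintype F]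

theorem mkP_eq {g g' : SL(3, F)} {r : F} (hr : r ^ 3 = 1)
    (h : (g' : Matrix (Fin 3) (Fin 3) F) = r • (g : Matrix (Fin 3) (Fin 3) F)) : mkP g = mkP g' := by
  refine QuotientGroup.eq.mpr (Matrix.SpecialLinearGroup.mem_center_iff.mpr ⟨r, by simpa using hr, ?_⟩)
  have e : (g⁻¹ * g' : SL(3, F)).1 = r • (1 : Matrix (Fin 3) (Fin 3) F) := by
    rw [Matrix.SpecialLinearGroup.coe_mul, h, Matrix.mul_smul, ← Matrix.SpecialLinearGroup.coe_mul,
      inv_mul_cancel, Matrix.SpecialLinearGroup.coe_one]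
  rw [Matrix.scalar_apply, ← Matrix.smul_one_eq_diagonal]
  exact e.symm

/-- Existence of the torus and the two reflections. -/
theorem exists_torus (hF : Fintype.card F = 4) (w : F) (hw : w * w = w + 1) :
    ∃ D W₁ W₂ : PSL(3, F), D * D * D = 1 ∧
      (∀ a b c : F, D * pm a b c * D⁻¹ = pm (w * w * a) (w * w * b) (w * c)) ∧
      (∀ a c : F, W₁ * pm a 0 c * W₁⁻¹ = pm c 0 a) ∧ (∀ b c : F, W₂ * pm 0 b c * W₂⁻¹ = pm 0 c b) ∧
      W₁ * D * W₁⁻¹ = D⁻¹ ∧ W₂ * D * W₂⁻¹ = D⁻¹ ∧
      Subgroup.closure (Set.range (fun p : F × F × F => pm p.1 p.2.1 p.2.2) ∪ {W₁, W₂}) = ⊤ := by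
  have h2 := CfsgLib.Classical.PSLThreeFour.two_eq_zero hF
  have h3 : w * (w * w) = 1 := by linear_combination (w + 1) * hw + w * h2
  let d : SL(3, F) := ⟨!![1, 0, 0; 0, w, 0; 0, 0, w * w], by
    simp [Matrix.det_fin_three]; linear_combination h3⟩
  let m₁ : SL(3, F) := ⟨!![1, 0, 0; 0, 0, 1; 0, 1, 0], by
    simp [Matrix.det_fin_three]; linear_combination -h2⟩
  let m₂ : SL(3, F) := ⟨!![0, 1, 0; 1, 0, 0; 0, 0, 1], by
    simp [Matrix.det_fin_three]; linear_combination -h2⟩
  have hd3 : d * d * d = 1 := Subtype.ext (by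
    show (_ * _ * _ : Matrix (Fin 3) (Fin 3) F) = (1 : Matrix (Fin 3) (Fin 3) F)
    ext i j; fin_cases i <;> fin_cases j <;> simp [d, Matrix.mul_apply, Fin.sum_univ_three] <;>
      first
      | linear_combination h3
      | linear_combination (w * w * w + 1) * h3)
  have hm1 : m₁ * m₁ = 1 := Subtype.ext (by
    show (_ * _ : Matrix (Fin 3) (Fin 3) F) = (1 : Matrix (Fin 3) (Fin 3) F)
    ext i j; fin_cases i <;> fin_cases j <;> simp [m₁, Matrix.mul_apply, Fin.sum_univ_three])
  have hm2 : m₂ * m₂ = 1 := Subtype.ext (by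
    show (_ * _ : Matrix (Fin 3) (Fin 3) F) = (1 : Matrix (Fin 3) (Fin 3) F)
    ext i j; fin_cases i <;> fin_cases j <;> simp [m₂, Matrix.mul_apply, Fin.sum_univ_three])
  refine ⟨mkP d, mkP m₁, mkP m₂, by rw [← map_mul, ← map_mul, hd3, map_one], fun a b c => ?_,
    fun a c => ?_, fun b c => ?_, ?_, ?_, ?_⟩
  · rw [mul_inv_eq_iff_eq_mul, pm, pm, ← map_mul, ← map_mul]
    congr 1
    apply Subtype.ext
    show _ * _ = _ * _
    ext i j
    fin_cases i <;> fin_cases j <;>
      simp [d, um, Matrix.mul_apply, Fin.sum_univ_three]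
    · linear_combination -a * h3
    · linear_combination -c * h3
    · linear_combination -(b * w) * h3
  · rw [mul_inv_eq_iff_eq_mul, pm, pm, ← map_mul, ← map_mul]
    congr 1
    apply Subtype.ext
    show _ * _ = _ * _
    ext i j
    fin_cases i <;> fin_cases j <;>
      simp [m₁, um, Matrix.mul_apply, Fin.sum_univ_three]
  · rw [mul_inv_eq_iff_eq_mul, pm, pm, ← map_mul, ← map_mul]
    congr 1
    apply Subtype.ext
    show _ * _ = _ * _
    ext i j
    fin_cases i <;> fin_cases j <;>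
      simp [m₂, um, Matrix.mul_apply, Fin.sum_univ_three]
  · refine eq_inv_of_mul_eq_one_left ?_
    rw [← map_inv, ← map_mul, ← map_mul, ← map_mul, ← map_one mkP,
      inv_eq_of_mul_eq_one_right hm1]
    congr 1
    apply Subtype.ext
    show _ * _ * _ * _ = _
    ext i j
    fin_cases i <;> fin_cases j <;>
      simp [d, m₁, Matrix.mul_apply, Fin.sum_univ_three] <;>
      linear_combination h3
  · refine eq_inv_of_mul_eq_one_left ?_
    rw [← map_inv, ← map_mul, ← map_mul, ← map_mul, inv_eq_of_mul_eq_one_right hm2, ← map_one mkP]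
    refine (mkP_eq (r := w) (by linear_combination h3) ?_).symm
    show _ * _ * _ * _ = _
    ext i j
    fin_cases i <;> fin_cases j <;>
      simp [d, m₂, Matrix.mul_apply, Fin.sum_univ_three]
    · linear_combination w * h3
  · set M := Subgroup.closure (Set.range (fun p : F × F × F => pm p.1 p.2.1 p.2.2) ∪ {mkP m₁, mkP m₂})
      with hM
    have hp : ∀ a b c : F, pm a b c ∈ M := fun a b c => Subgroup.subset_closure (Or.inl ⟨(a, b, c), rfl⟩)
    have h1M : mkP m₁ ∈ M := Subgroup.subset_closure (Or.inr (Or.inl rfl))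
    have h2M : mkP m₂ ∈ M := Subgroup.subset_closure (Or.inr (Or.inr rfl))
    have mono₁ : IsMono (m₁ : Matrix (Fin 3) (Fin 3) F) (Equiv.swap 1 2) fun _ => 1 := by
      intro k a; fin_cases k <;> fin_cases a <;> simp [m₁, Equiv.swap_apply_def]
    have mono₂ : IsMono (m₂ : Matrix (Fin 3) (Fin 3) F) (Equiv.swap 0 1) fun _ => 1 := by
      intro k a; fin_cases k <;> fin_cases a <;> simp [m₂, Equiv.swap_apply_def]
    have conjM : ∀ (m : SL(3, F)) (π : Equiv.Perm (Fin 3)),
        IsMono (m : Matrix (Fin 3) (Fin 3) F) π (fun _ => 1) → mkP m ∈ M →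
        ∀ i j : Fin 3, i ≠ j → (∀ t, rt i j t ∈ M) → ∀ t : F, rt (π i) (π j) t ∈ M := by
      intro m π hm hmM i j hij h t
      have e := congrArg mkP (hm.tv_conj hij t)
      simp only [one_mul, div_one, map_mul, map_inv] at e
      show mkP (tv (π i) (π j) t) ∈ M
      rw [← e]
      exact mul_mem (mul_mem hmM (h t)) (inv_mem hmM)
    have r01 : ∀ t, rt (F := F) 0 1 t ∈ M := fun t => by rw [rt01]; exact hp _ _ _
    have r12 : ∀ t, rt (F := F) 1 2 t ∈ M := fun t => by rw [rt12]; exact hp _ _ _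
    have r02 : ∀ t, rt (F := F) 0 2 t ∈ M := fun t => by rw [rt02]; exact hp _ _ _
    have r21 : ∀ t, rt (F := F) 2 1 t ∈ M := fun t => by
      simpa using conjM m₁ _ mono₁ h1M 1 2 (by decide) r12 t
    have r10 : ∀ t, rt (F := F) 1 0 t ∈ M := fun t => by
      simpa using conjM m₂ _ mono₂ h2M 0 1 (by decide) r01 t
    have r20 : ∀ t, rt (F := F) 2 0 t ∈ M := fun t => by
      simpa [Equiv.swap_apply_def] using conjM m₁ _ mono₁ h1M 1 0 (by decide) r10 t
    refine eq_top_iff.mpr fun x _ => ?_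
    obtain ⟨g, rfl⟩ := mkP_surjective x
    have hg : g ∈ Subgroup.comap (mkP : SL(3, F) →* _) M := by
      refine (Subgroup.closure_le _).mpr ?_
        (CfsgLib.Classical.closure_transvection_eq_top (ι := Fin 3) (F := F) ▸ Subgroup.mem_top g)
      rintro A ⟨i, j, hij, t, rfl⟩
      show mkP (SpecialLinearGroup.transvection hij t) ∈ M
      rw [← CfsgLib.Schur.SLFam.tv_def hij]
      show rt i j t ∈ M
      fin_cases i <;> fin_cases j <;>
        first
        | exact absurd rfl hij
        | exact r01 t | exact r12 t | exact r02 t | exact r21 t | exact r10 t | exact r20 t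
    exact hg

/-- The centraliser of a root element is the unitriangular group. -/
theorem centralizer_root (hF : Fintype.card F = 4) {c : F} (hc : c ≠ 0) {x : PSL(3, F)}
    (hx : x * pm 0 0 c = pm 0 0 c * x) : ∃ a b d, x = pm a b d := by
  obtain ⟨g, rfl⟩ := mkP_surjective x
  rw [pm, ← map_mul, ← map_mul] at hx
  obtain ⟨r, hr3, hr⟩ := exists_scalar hx
  set M := (g : Matrix (Fin 3) (Fin 3) F) with hM
  have hdet : M.det = 1 := g.2
  rw [Matrix.det_fin_three] at hdet
  have h00 := hr 0 0; have h01 := hr 0 1; have h02 := hr 0 2; have h10 := hr 1 0; have h12 := hr 1 2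
  have h20 := hr 2 0
  simp only [Matrix.SpecialLinearGroup.coe_mul] at h00 h01 h02 h10 h12 h20
  simp [um, Matrix.mul_apply, Fin.sum_univ_three, ← hM] at h00 h01 h02 h10 h12 h20
  have hr1 : r = 1 := by
    by_contra hne
    have z1 : M 1 0 = 0 := by
      by_contra h; exact hne (mul_right_cancel₀ h (by rw [one_mul]; linear_combination -h10))
    have z2 : M 2 0 = 0 := by
      by_contra h; exact hne (mul_right_cancel₀ h (by rw [one_mul]; linear_combination -h20))
    rw [z2, mul_zero, add_zero] at h00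
    by_cases h : M 0 0 = 0
    · rw [h, z1, z2] at hdet; simp at hdet
    · exact hne (mul_right_cancel₀ h (by rw [one_mul]; linear_combination -h00))
  subst hr1
  simp only [one_mul] at h00 h01 h02 h10 h12 h20
  have z20 : M 2 0 = 0 := (mul_eq_zero.mp (by linear_combination h00 : c * M 2 0 = 0)).resolve_left hc
  have z10 : M 1 0 = 0 := (mul_eq_zero.mp (by linear_combination -h12 : c * M 1 0 = 0)).resolve_left hc
  have z21 : M 2 1 = 0 := (mul_eq_zero.mp (by linear_combination h01 : c * M 2 1 = 0)).resolve_left hc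
  have z22 : M 2 2 = M 0 0 := by
    have : c * (M 2 2 - M 0 0) = 0 := by linear_combination h02
    exact sub_eq_zero.mp ((mul_eq_zero.mp this).resolve_left hc)
  rw [z20, z10, z21, z22] at hdet
  have hd : M 0 0 * M 1 1 * M 0 0 = 1 := by linear_combination hdet
  have h0 : M 0 0 ≠ 0 := fun h => by rw [h] at hd; simp at hd
  have hp : M 0 0 ^ 3 = 1 := by
    have h := FiniteField.pow_card_sub_one_eq_one (M 0 0) h0
    rwa [hF] at h
  have z11 : M 1 1 = M 0 0 := by
    linear_combination (M 0 0) * hd - (M 1 1) * hp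
  refine ⟨(M 0 0)⁻¹ * M 0 1, (M 0 0)⁻¹ * M 1 2, (M 0 0)⁻¹ * M 0 2, ?_⟩
  refine (mkP_eq hp ?_).symm
  show M = _
  ext i j
  fin_cases i <;> fin_cases j <;>
    simp [um, z10, z20, z21, z22, z11, h0]

end CfsgLib.HeStd
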