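import Mathlib

/-!
# Complements fixed by an element of order three in central extensions of root groups
-/

set_option autoImplicit false

namespace CfsgLib.HeStd

variable {X : Type*} [Group X]

/-- The product of the three conjugates of `g` under the powers of `H`. -/
def N3 (H g : X) : X := g * (H * g * H⁻¹) * (H * H * g * (H * H)⁻¹)

theorem N3_mul_central {H g z : X} (hz : ∀ y, y * z = z * y) (h2 : z * z = 1) :
    N3 H (g * z) = N3 H g * z := by
  have e : ∀ y : X, y * z * y⁻¹ = z := fun y => by rw [hz, mul_inv_cancel_right]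
  have e1 : H * (g * z) * H⁻¹ = H * g * H⁻¹ * z := by
    rw [show H * (g * z) * H⁻¹ = H * g * H⁻¹ * (H * z * H⁻¹) by group, e]
  have e2 : H * H * (g * z) * (H * H)⁻¹ = H * H * g * (H * H)⁻¹ * z := by
    rw [show H * H * (g * z) * (H * H)⁻¹ = H * H * g * (H * H)⁻¹ * (H * H * z * (H * H)⁻¹) by group, e]
  rw [N3, N3, e1, e2]
  generalize H * g * H⁻¹ = p
  generalize H * H * g * (H * H)⁻¹ = q
  calc g * z * (p * z) * (q * z) = g * ((z * p) * (z * q)) * z := by group
    _ = g * ((p * z) * (z * q)) * z := by rw [hz p]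
    _ = g * p * (z * z) * q * z := by group
    _ = g * p * q * z := by rw [h2, mul_one]

variable {P : Type*} [Group P]

/-- Lifts of a root group with trivial triple product. -/
theorem exists_equi (σ : X →* P) (hc : σ.ker ≤ Subgroup.center X) (hk : ∀ z ∈ σ.ker, z * z = 1)
    {F : Type*} [Field F] (r : F → P) (y : F → X) (hy : ∀ x, σ (y x) = r x)
    (hadd : ∀ a b, y (a + b) = y a * y b) (H : X) (l : F) (hl : 1 + l + l * l = 0)
    (hH : ∀ x, σ H * r x * (σ H)⁻¹ = r (l * x)) :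
    ∃ Y : F → X, (∀ x, σ (Y x) = r x) ∧ (∀ a b, Y (a + b) = Y a * Y b) ∧
      (∀ x, H * Y x * H⁻¹ = Y (l * x)) ∧ ∀ g x, σ g = r x → N3 H g = 1 → g = Y x := by
  have cz : ∀ z ∈ σ.ker, ∀ g, g * z = z * g := fun z hz g => Subgroup.mem_center_iff.mp (hc hz) g
  have cy : ∀ a b, Commute (y a) (y b) := fun a b => by
    rw [Commute, SemiconjBy, ← hadd, ← hadd, add_comm]
  have lift : ∀ g x, σ g = r x → ∃ z ∈ σ.ker, g = y x * z := fun g x h =>
    ⟨(y x)⁻¹ * g, by rw [MonoidHom.mem_ker, map_mul, map_inv, hy, h, inv_mul_cancel],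
      (mul_inv_cancel_left _ _).symm⟩
  have c1 : ∀ x, σ (H * y x * H⁻¹) = r (l * x) := fun x => by rw [map_mul, map_mul, map_inv, hy, hH]
  have c2 : ∀ x, σ (H * H * y x * (H * H)⁻¹) = r (l * (l * x)) := fun x => by
    rw [show H * H * y x * (H * H)⁻¹ = H * (H * y x * H⁻¹) * H⁻¹ by group, map_mul, map_mul, map_inv,
      c1, hH]
  have hker : ∀ x, N3 H (y x) ∈ σ.ker := by
    intro x
    rw [MonoidHom.mem_ker, N3, map_mul, map_mul, c1, c2, hy, ← hy x, ← hy (l * x), ← hy (l * (l * x)),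
      ← map_mul, ← map_mul, ← hadd, ← hadd,
      show x + l * x + l * (l * x) = 0 by linear_combination x * hl,
      show y 0 = 1 by simpa using hadd 0 0, map_one]
  have hNmul : ∀ a b, N3 H (y a * y b) = N3 H (y a) * N3 H (y b) := by
    intro a b
    have cw : ∀ p q u v, σ p = r u → σ q = r v → Commute p q := by
      intro p q u v hp hq
      obtain ⟨z, hz, rfl⟩ := lift p u hp
      obtain ⟨z', hz', rfl⟩ := lift q v hq
      exact ((cy u v).mul_right (cz z' hz' _)).mul_left ((cz z hz _).symm : Commute z _)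
    have k1 := cw _ _ _ _ (c1 a) (hy b)
    have k2 := cw _ _ _ _ (c2 a) (hy b)
    have k3 := cw _ _ _ _ (c2 a) (c1 b)
    rw [N3, N3, N3, show H * (y a * y b) * H⁻¹ = (H * y a * H⁻¹) * (H * y b * H⁻¹) by group,
      show H * H * (y a * y b) * (H * H)⁻¹ = (H * H * y a * (H * H)⁻¹) * (H * H * y b * (H * H)⁻¹) by group]
    generalize y a = p at k1 k2 k3 ⊢
    generalize H * p * H⁻¹ = p1 at k1 k2 k3 ⊢
    generalize H * H * p * (H * H)⁻¹ = p2 at k1 k2 k3 ⊢
    generalize H * y b * H⁻¹ = q1 at k1 k2 k3 ⊢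
    generalize H * H * y b * (H * H)⁻¹ = q2 at k1 k2 k3 ⊢
    generalize y b = q at k1 k2 k3 ⊢
    calc p * q * (p1 * q1) * (p2 * q2) = p * (q * p1) * (q1 * p2) * q2 := by group
      _ = p * (p1 * q) * (p2 * q1) * q2 := by rw [← k1.eq, ← k3.eq]
      _ = p * p1 * (q * p2) * q1 * q2 := by group
      _ = p * p1 * (p2 * q) * q1 * q2 := by rw [← k2.eq]
      _ = p * p1 * p2 * (q * q1 * q2) := by group
  let Y : F → X := fun x => y x * N3 H (y x)
  have hY : ∀ x, σ (Y x) = r x := fun x => by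
    show σ (y x * N3 H (y x)) = r x
    rw [map_mul, MonoidHom.mem_ker.mp (hker x), mul_one, hy]
  have hN : ∀ x, N3 H (Y x) = 1 := fun x => by
    show N3 H (y x * N3 H (y x)) = 1
    rw [N3_mul_central (cz _ (hker x)) (hk _ (hker x)), hk _ (hker x)]
  have huniq : ∀ g x, σ g = r x → N3 H g = 1 → g = Y x := by
    intro g x hg h1
    obtain ⟨z, hz, rfl⟩ := lift g x hg
    rw [N3_mul_central (cz z hz) (hk z hz)] at h1
    show y x * z = y x * N3 H (y x)
    rw [eq_inv_of_mul_eq_one_left h1, inv_eq_of_mul_eq_one_right (hk z hz)]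
  refine ⟨Y, hY, fun a b => ?_, fun x => ?_, huniq⟩
  · show y (a + b) * N3 H (y (a + b)) = y a * N3 H (y a) * (y b * N3 H (y b))
    rw [hadd, hNmul]
    calc y a * y b * (N3 H (y a) * N3 H (y b)) = y a * (y b * N3 H (y a)) * N3 H (y b) := by group
      _ = y a * (N3 H (y a) * y b) * N3 H (y b) := by rw [cz _ (hker a) (y b)]
      _ = _ := by group
  · refine huniq _ _ (by rw [map_mul, map_mul, map_inv, hY, hH]) ?_
    rw [← show H * N3 H (Y x) * H⁻¹ = N3 H (H * Y x * H⁻¹) by simp only [N3]; group, hN, mul_one,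
      mul_inv_cancel]

/-- An inverting element carries one equivariant lift to another. -/
theorem N3_conj {H W : X} (hH3 : H * H * H = 1) (hW : W * H * W⁻¹ = H⁻¹) {F : Type*} [Field F] {Y : F → X}
    (hadd : ∀ a b, Y (a + b) = Y a * Y b) {l : F} (hl : 1 + l + l * l = 0)
    (hH : ∀ x, H * Y x * H⁻¹ = Y (l * x)) (x : F) : N3 H (W * Y x * W⁻¹) = 1 := by
  have h0 : Y 0 = 1 := by simpa using hadd 0 0
  have hHW : H * W = W * H⁻¹ := by
    calc H * W = (W * H * W⁻¹)⁻¹ * W := by rw [hW, inv_inv]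
      _ = W * H⁻¹ := by group
  have hi : H⁻¹ = H * H := inv_eq_of_mul_eq_one_right (by rw [← mul_assoc]; exact hH3)
  have h2 : H⁻¹ * Y x * H = Y (l * (l * x)) := by
    rw [hi, ← hH, ← hH, show H * (H * Y x * H⁻¹) * H⁻¹ = H * H * Y x * (H * H)⁻¹ by group]
    congr 1
    exact eq_inv_of_mul_eq_one_right hH3
  have h1 : H * (W * Y x * W⁻¹) * H⁻¹ = W * Y (l * (l * x)) * W⁻¹ := by
    rw [← h2, show H * (W * Y x * W⁻¹) * H⁻¹ = (H * W) * Y x * (H * W)⁻¹ by group, hHW]
    group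
  have h3 : H * H * (W * Y x * W⁻¹) * (H * H)⁻¹ = W * Y (l * x) * W⁻¹ := by
    rw [← hH, show H * H * (W * Y x * W⁻¹) * (H * H)⁻¹ = (H * (H * W)) * Y x * (H * (H * W))⁻¹ by group,
      hHW, ← mul_assoc, hHW,
      show W * H⁻¹ * H⁻¹ = W * H by rw [mul_assoc, show H⁻¹ * H⁻¹ = (H * H)⁻¹ by group, ← hi, inv_inv]]
    group
  rw [N3, h1, h3,
    show W * Y x * W⁻¹ * (W * Y (l * (l * x)) * W⁻¹) * (W * Y (l * x) * W⁻¹) =
      W * (Y x * Y (l * (l * x)) * Y (l * x)) * W⁻¹ by group,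
    ← hadd, ← hadd, show x + l * (l * x) + l * x = 0 by linear_combination x * hl, h0]
  group

end CfsgLib.HeStd
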