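import Cfsg.Agent.Lib.HeStd.Code
import Cfsg.Agent.Lib.HeStd.Torus
import Cfsg.Agent.Lib.HeStd.Proj
import Cfsg.Agent.Lib.LFourElemCover.Cover

/-!
# Coordinates in a perfect central extension of `PSL(3, 4)` by a four-group
-/

set_option autoImplicit false
set_option linter.style.haveILetI false
set_option linter.unusedSectionVars false

open Matrix
open scoped MatrixGroups commutatorElement
open CfsgLib.LFourElemCover (pm pm_mul pm_zero pm_inj flip flip_pm exists_lifts)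
open CfsgLib.Classical.PSLThreeFour (val)

namespace CfsgLib.HeStd

universe u

/-- Coordinates on the fourfold cover. -/
structure LData (X : Type u) [Group X] where
  /-- the Sylow subgroup -/
  emb : TC →* X
  inj : Function.Injective emb
  /-- the torus element -/
  h : X
  /-- the reflection normalising the subgroup `b = 0` -/
  w₁ : X
  /-- the reflection normalising the subgroup `a = 0` -/
  w₂ : X
  h3 : h * h * h = 1
  h_conj : ∀ x, h * emb x * h⁻¹ = emb (tor x)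
  w₁_conj : ∀ x : TC, x.b = q0 → w₁ * emb x * w₁⁻¹ = emb (swapA x)
  w₂_conj : ∀ x : TC, x.a = q0 → w₂ * emb x * w₂⁻¹ = emb (swapB x)
  w₁_h : w₁ * h * w₁⁻¹ = h⁻¹
  w₂_h : w₂ * h * w₂⁻¹ = h⁻¹
  center_iff : ∀ g, g ∈ Subgroup.center X ↔ ∃ v, g = emb (zc q0 v)
  perfect : commutator X = ⊤
  gen : Subgroup.closure (Set.range emb ∪ {w₁, w₂}) = ⊤
  card_X : Nat.card X = 80640
  cent_root : ∀ g c v, c ≠ q0 → g * emb (zc c v) = emb (zc c v) * g → g ∈ emb.range
  invol : ∀ g, g * g = 1 → g ∉ Subgroup.center X → ∃ y v, y * g * y⁻¹ = emb (zc q1 v)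

variable {X : Type u} [Group X] [Finite X] {F : Type*} [Field F] [Fintype F]

theorem exists_lData (hF : Fintype.card F = 4) (σ : X →* PSL(3, F)) (hs : Function.Surjective σ)
    (hker : σ.ker = Subgroup.center X) (hk : ∀ z ∈ σ.ker, z * z = 1) (hk4 : Nat.card σ.ker = 4)
    (hperf : commutator X = ⊤) : Nonempty (LData X) := by
  classical
  obtain ⟨w, hw⟩ := CfsgLib.Classical.PSLThreeFour.exists_w hF
  have h2 := CfsgLib.Classical.PSLThreeFour.two_eq_zero hF
  have twice : ∀ x : F, x + x = 0 := fun x => by rw [← two_mul, h2, zero_mul]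
  have hw3 : w * (w * w) = 1 := by linear_combination (w + 1) * hw + w * h2
  have hw0 : w ≠ 0 := fun h => by rw [h] at hw3; simp at hw3
  have hlw : 1 + w + w * w = 0 := by linear_combination hw + (w + 1) * h2
  have hlv : 1 + w * w + w * w * (w * w) = 0 := by linear_combination hlw + w * hw3
  have hc : σ.ker ≤ Subgroup.center X := hker.le
  have cz : ∀ z ∈ σ.ker, ∀ g, g * z = z * g := fun z hz g => Subgroup.mem_center_iff.mp (hc hz) g
  obtain ⟨D, W₁, W₂, hD3, hDc, hW₁, hW₂, hW₁D, hW₂D, hgen⟩ := exists_torus hF w hw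
  obtain ⟨H₀, hH₀⟩ := hs D
  set H := H₀ * H₀ * (H₀ * H₀) with hHdef
  have hσH : σ H = D := by
    rw [hHdef, map_mul, map_mul, hH₀, show D * D * (D * D) = D * D * D * D by group, hD3, one_mul]
  have hH3 : H * H * H = 1 := by
    have k : H₀ * H₀ * H₀ ∈ σ.ker := by rw [MonoidHom.mem_ker, map_mul, map_mul, hH₀, hD3]
    have e := hk _ k
    calc H * H * H = (H₀ * H₀ * H₀ * (H₀ * H₀ * H₀)) * (H₀ * H₀ * H₀ * (H₀ * H₀ * H₀)) := by
          rw [hHdef]; group
      _ = 1 := by rw [e, one_mul]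
  obtain ⟨V₁, hV₁⟩ := hs W₁
  obtain ⟨V₂, hV₂⟩ := hs W₂
  have inv_h : ∀ V : X, σ V * D * (σ V)⁻¹ = D⁻¹ → V * H * V⁻¹ = H⁻¹ := by
    intro V hV
    have hz : (V * H * V⁻¹) * H ∈ σ.ker := by
      rw [MonoidHom.mem_ker, map_mul, map_mul, map_mul, map_inv, hσH, hV, inv_mul_cancel]
    set z := (V * H * V⁻¹) * H with hzdef
    have e : V * H * V⁻¹ = z * H⁻¹ := (mul_inv_cancel_right _ H).symm
    have e3 : (z * H⁻¹) * (z * H⁻¹) * (z * H⁻¹) = 1 := by
      rw [← e, show (V * H * V⁻¹) * (V * H * V⁻¹) * (V * H * V⁻¹) = V * (H * H * H) * V⁻¹ by group,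
        hH3, mul_one, mul_inv_cancel]
    have cH : Commute z H⁻¹ := (cz z hz H⁻¹).symm
    have e4 : (z * H⁻¹) * (z * H⁻¹) * (z * H⁻¹) = z * z * z * (H * H * H)⁻¹ := by
      rw [show z * z * z * (H * H * H)⁻¹ = z * z * z * (H⁻¹ * H⁻¹ * H⁻¹) by group]
      calc (z * H⁻¹) * (z * H⁻¹) * (z * H⁻¹) = (z * H⁻¹) ^ 3 := by rw [pow_succ, pow_succ, pow_one]
        _ = z ^ 3 * H⁻¹ ^ 3 := cH.mul_pow 3
        _ = _ := by rw [pow_succ, pow_succ, pow_one, pow_succ, pow_succ, pow_one]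
    rw [e3, hH3, hk z hz, one_mul, inv_one, mul_one] at e4
    rw [e, ← e4, one_mul]
  have hV₁H := inv_h V₁ (by rw [hV₁]; exact hW₁D)
  have hV₂H := inv_h V₂ (by rw [hV₂]; exact hW₂D)
  -- root lifts
  obtain ⟨y12, y13, y23, s12, s13, s23, a12, a13, a23, hcomm⟩ := exists_lifts hF σ hs hc hk
  obtain ⟨Y12, S12, A12, E12, U12⟩ := exists_equi σ hc hk (fun x => pm x 0 0) y12 s12 a12 H (w * w) hlv
    (fun x => by rw [hσH, hDc, mul_zero, mul_zero])
  obtain ⟨Y13, S13, A13, E13, U13⟩ := exists_equi σ hc hk (fun x => pm 0 0 x) y13 s13 a13 H w hlw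
    (fun x => by rw [hσH, hDc, mul_zero])
  obtain ⟨Y23, S23, A23, E23, U23⟩ := exists_equi σ hc hk (fun x => pm 0 x 0) y23 s23 a23 H (w * w) hlv
    (fun x => by rw [hσH, hDc, mul_zero, mul_zero])
  have same : ∀ {p q : X}, σ p = σ q → ∃ z ∈ σ.ker, p = q * z := fun {p q} h =>
    ⟨q⁻¹ * p, by rw [MonoidHom.mem_ker, map_mul, map_inv, h, inv_mul_cancel],
      (mul_inv_cancel_left _ _).symm⟩
  have move : ∀ {p q : X}, Commute p q → ∀ {p' q' : X}, σ p' = σ p → σ q' = σ q → Commute p' q' := by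
    intro p q h p' q' hp hq
    obtain ⟨z, hz, rfl⟩ := same hp
    obtain ⟨z', hz', rfl⟩ := same hq
    exact (h.mul_right (cz z' hz' _)).mul_left ((cz z hz _).symm : Commute z _)
  have c1213 : ∀ a c, Commute (Y12 a) (Y13 c) := fun a c =>
    move (hcomm a c) (by rw [S12, s12]) (by rw [S13, s13])
  have c2313 : ∀ b c, Commute (Y23 b) (Y13 c) := by
    have hker' : (flip.toMonoidHom.comp σ).ker = σ.ker := by
      ext x
      simp [MonoidHom.mem_ker]
    obtain ⟨u12, u13, u23, t12, t13, t23, -, -, -, hcomm'⟩ :=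
      exists_lifts hF (flip.toMonoidHom.comp σ) (flip.surjective.comp hs)
        (hker'.symm ▸ hc) (fun z hz => hk z (hker' ▸ hz))
    intro b c
    refine move (hcomm' (-b) (-c)) ?_ ?_
    · refine flip.injective ?_
      rw [S23, flip_pm, show flip (σ (u12 (-b))) = _ from t12 (-b)]
      congr 1 <;> ring
    · refine flip.injective ?_
      rw [S13, flip_pm, show flip (σ (u13 (-c))) = _ from t13 (-c)]
      congr 1 <;> ring
  have c13 : ∀ c c', Commute (Y13 c) (Y13 c') := fun c c' => by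
    rw [Commute, SemiconjBy, ← A13, ← A13, add_comm]
  -- the commutator form
  set φ : F → F → X := fun a b => ⁅Y12 a, Y23 b⁆ * (Y13 (a * b))⁻¹ with hφ
  have φker : ∀ a b, φ a b ∈ σ.ker := fun a b => by
    rw [MonoidHom.mem_ker, hφ, map_mul, map_inv, map_commutatorElement, S12, S23, S13]
    rw [commutatorElement_def, mul_inv_eq_one, mul_inv_eq_iff_eq_mul, mul_inv_eq_iff_eq_mul, pm_mul,
      pm_mul, pm_mul]
    congr 1 <;> ring
  have φeq : ∀ a b, ⁅Y12 a, Y23 b⁆ = φ a b * Y13 (a * b) := fun a b => by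
    rw [hφ]; exact (inv_mul_cancel_right _ _).symm
  have φeq' : ∀ a b g, Commute g (Y13 (a * b)) → g * ⁅Y12 a, Y23 b⁆ * g⁻¹ = ⁅Y12 a, Y23 b⁆ := by
    intro a b g hg
    have : Commute g (φ a b * Y13 (a * b)) := Commute.mul_right (cz _ (φker a b) g) hg
    rw [φeq, this.eq, mul_inv_cancel_right]
  have φl : ∀ a a' b, φ (a + a') b = φ a b * φ a' b := by
    intro a a' b
    have e : ⁅Y12 (a + a'), Y23 b⁆ = ⁅Y12 a', Y23 b⁆ * ⁅Y12 a, Y23 b⁆ := by
      rw [A12, show ⁅Y12 a * Y12 a', Y23 b⁆ = Y12 a * ⁅Y12 a', Y23 b⁆ * (Y12 a)⁻¹ * ⁅Y12 a, Y23 b⁆ by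
        simp only [commutatorElement_def]; group, φeq' a' b _ (c1213 a _)]
    show ⁅Y12 (a + a'), Y23 b⁆ * (Y13 ((a + a') * b))⁻¹ = _
    rw [e, φeq, φeq, add_mul, add_comm (a * b), A13,
      show φ a' b * Y13 (a' * b) * (φ a b * Y13 (a * b)) = φ a' b * (Y13 (a' * b) * φ a b) * Y13 (a * b) by group,
      cz _ (φker a b), show φ a' b * (φ a b * Y13 (a' * b)) * Y13 (a * b) * (Y13 (a' * b) * Y13 (a * b))⁻¹ =
        φ a' b * φ a b by group]
    exact cz _ (φker a b) _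
  have φr : ∀ a b b', φ a (b + b') = φ a b * φ a b' := by
    intro a b b'
    have e : ⁅Y12 a, Y23 (b + b')⁆ = ⁅Y12 a, Y23 b⁆ * ⁅Y12 a, Y23 b'⁆ := by
      rw [A23, show ⁅Y12 a, Y23 b * Y23 b'⁆ = ⁅Y12 a, Y23 b⁆ * (Y23 b * ⁅Y12 a, Y23 b'⁆ * (Y23 b)⁻¹) by
        simp only [commutatorElement_def]; group, φeq' a b' _ (c2313 b _)]
    show ⁅Y12 a, Y23 (b + b')⁆ * (Y13 (a * (b + b')))⁻¹ = _
    rw [e, φeq, φeq, mul_add, A13,
      show φ a b * Y13 (a * b) * (φ a b' * Y13 (a * b')) = φ a b * (Y13 (a * b) * φ a b') * Y13 (a * b') by group,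
      cz _ (φker a b')]
    group
  have φs : ∀ a b, φ (w * w * a) (w * w * b) = φ a b := by
    intro a b
    have e : H * ⁅Y12 a, Y23 b⁆ * H⁻¹ = ⁅Y12 (w * w * a), Y23 (w * w * b)⁆ := by
      rw [← E12, ← E23]; simp only [commutatorElement_def]; group
    rw [φeq, φeq, show H * (φ a b * Y13 (a * b)) * H⁻¹ = (H * φ a b) * Y13 (a * b) * H⁻¹ by group,
      cz _ (φker a b), mul_assoc (φ a b), mul_assoc (φ a b), E13,
      show w * w * a * (w * w * b) = w * (a * b) by linear_combination (w * a * b) * hw3] at e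
    exact (mul_right_cancel e).symm
  set g : F → X := fun t => φ 1 t with hg
  have g0 : g 0 = 1 := by
    have h := φr 1 0 0
    rw [add_zero] at h
    exact mul_left_cancel (h.symm.trans (mul_one _).symm)
  have φval : ∀ a b, φ a b = g (b * (a * a)) := by
    intro a b
    by_cases ha : a = 0
    · subst ha
      rw [mul_zero, mul_zero, g0]
      have h := φl 0 0 b
      rw [add_zero] at h
      exact mul_left_cancel (h.symm.trans (mul_one _).symm)
    have hall : a = 1 ∨ a = w * w ∨ a = w * w * (w * w) := by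
      obtain ⟨⟨p, q⟩, rfl⟩ := CfsgLib.Classical.PSLThreeFour.val_surjective hF hw a
      cases p <;> cases q <;> simp [val] at ha ⊢
      · exact Or.inr (Or.inr (by linear_combination -w * hw3))
      · exact Or.inr (Or.inl (by linear_combination -hw))
    rcases hall with rfl | rfl | rfl
    · rw [mul_one, mul_one]
    · show _ = φ 1 _
      conv_rhs => rw [← φs 1 (b * (w * w * (w * w)))]
      congr 1
      · rw [mul_one]
      · linear_combination -(b * (w * (w * w) + 1)) * hw3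
    · show _ = φ 1 _
      conv_rhs => rw [← φs 1 (b * (w * w * (w * w) * (w * w * (w * w)))),
        ← φs (w * w * 1) (w * w * (b * (w * w * (w * w) * (w * w * (w * w)))))]
      congr 1
      · rw [mul_one]
      · linear_combination -(b * (w * (w * w) * (w * (w * w)) * (w * (w * w)) + w * (w * w) * (w * (w * w)) +
          w * (w * w) + 1)) * hw3
  have gadd : ∀ s t, g (s + t) = g s * g t := fun s t => φr 1 s t
  set ψ : F → X := fun v => g (v * v) with hψ
  have ψker : ∀ v, ψ v ∈ σ.ker := fun v => φker _ _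
  have ψadd : ∀ s t, ψ (s + t) = ψ s * ψ t := fun s t => by
    show g ((s + t) * (s + t)) = g (s * s) * g (t * t)
    rw [← gadd]; congr 1; linear_combination s * t * h2
  have ψφ : ∀ a b, φ a b = ψ (a * (b * b)) := fun a b => by
    rw [φval]
    show g _ = g _
    congr 1
    have hb : b * b * (b * b) = b := by
      by_cases hb : b = 0
      · rw [hb]; ring
      · have h := FiniteField.pow_card_sub_one_eq_one b hb
        rw [hF] at h
        linear_combination b * h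
    linear_combination -(a * a) * hb
  -- the homomorphism
  set f : F → F → F → F → X := fun a b c v => Y23 b * Y12 a * Y13 c * ψ v with hf
  have σf : ∀ a b c v, σ (f a b c v) = pm a b c := fun a b c v => by
    show σ (Y23 b * Y12 a * Y13 c * ψ v) = _
    rw [map_mul, map_mul, map_mul, S23, S12, S13, MonoidHom.mem_ker.mp (ψker v), mul_one, pm_mul, pm_mul]
    congr 1 <;> ring
  have fmul : ∀ a b c v a' b' c' v', f a b c v * f a' b' c' v' =
      f (a + a') (b + b') (c + c' + a * b') (v + v' + a * (b' * b')) := by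
    intro a b c v a' b' c' v'
    have sw : Y12 a * Y23 b' = Y23 b' * Y12 a * Y13 (a * b') * φ a b' := by
      have e : Y12 a * Y23 b' = ⁅Y12 a, Y23 b'⁆ * (Y23 b' * Y12 a) := by
        rw [commutatorElement_def]; group
      rw [e, φeq, show φ a b' * Y13 (a * b') * (Y23 b' * Y12 a) =
        φ a b' * (Y13 (a * b') * (Y23 b' * Y12 a)) by group, ((c2313 b' _).mul_left (c1213 a _)).symm.eq,
        ← cz _ (φker a b'), mul_assoc]
    have k1 : Commute (Y13 c * ψ v) (Y23 b') := ((c2313 b' c).symm).mul_left (cz _ (ψker v) _).symm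
    have k2 : Commute (Y13 c * ψ v) (Y12 a') := ((c1213 a' c).symm).mul_left (cz _ (ψker v) _).symm
    have k3 : Commute (Y13 (a * b') * φ a b') (Y12 a') :=
      ((c1213 a' _).symm).mul_left (cz _ (φker a b') _).symm
    show Y23 b * Y12 a * Y13 c * ψ v * (Y23 b' * Y12 a' * Y13 c' * ψ v') = _
    calc Y23 b * Y12 a * Y13 c * ψ v * (Y23 b' * Y12 a' * Y13 c' * ψ v')
        = Y23 b * Y12 a * ((Y13 c * ψ v) * Y23 b') * Y12 a' * Y13 c' * ψ v' := by group
      _ = Y23 b * Y12 a * (Y23 b' * (Y13 c * ψ v)) * Y12 a' * Y13 c' * ψ v' := by rw [k1.eq]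
      _ = Y23 b * (Y12 a * Y23 b') * ((Y13 c * ψ v) * Y12 a') * Y13 c' * ψ v' := by group
      _ = Y23 b * (Y23 b' * Y12 a * Y13 (a * b') * φ a b') * (Y12 a' * (Y13 c * ψ v)) * Y13 c' * ψ v' := by
          rw [sw, k2.eq]
      _ = Y23 b * Y23 b' * Y12 a * ((Y13 (a * b') * φ a b') * Y12 a') * Y13 c * ψ v * Y13 c' * ψ v' := by
          group
      _ = Y23 b * Y23 b' * Y12 a * (Y12 a' * (Y13 (a * b') * φ a b')) * Y13 c * (ψ v * Y13 c') * ψ v' := by
          rw [k3.eq]; group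
      _ = Y23 b * Y23 b' * (Y12 a * Y12 a') * Y13 (a * b') * (φ a b' * Y13 c) * (Y13 c' * ψ v) * ψ v' := by
          rw [← cz _ (ψker v) (Y13 c')]; group
      _ = Y23 b * Y23 b' * (Y12 a * Y12 a') * Y13 (a * b') * (Y13 c * φ a b') * (Y13 c' * ψ v) * ψ v' := by
          rw [cz _ (φker a b') (Y13 c)]
      _ = Y23 b * Y23 b' * (Y12 a * Y12 a') * Y13 (a * b') * Y13 c * (φ a b' * Y13 c') * (ψ v * ψ v') := by
          group
      _ = Y23 b * Y23 b' * (Y12 a * Y12 a') * (Y13 (a * b') * Y13 c * Y13 c') * (φ a b' * (ψ v * ψ v')) := by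
          rw [← cz _ (φker a b') (Y13 c')]; group
      _ = _ := by
          rw [← A23, ← A12, ← A13, ← A13, ψφ, ← ψadd, ← ψadd]
          show _ = Y23 (b + b') * Y12 (a + a') * Y13 _ * ψ _
          rw [show a * b' + c + c' = c + c' + a * b' by ring,
            show a * (b' * b') + (v + v') = v + v' + a * (b' * b') by ring]


  have f0 : f 0 0 0 0 = 1 := by
    have h := fmul 0 0 0 0 0 0 0 0
    rw [show (0 : F) + 0 = 0 by ring, show (0 : F) + 0 * 0 = 0 by ring,
      show (0 : F) + 0 * (0 * 0) = 0 by ring] at h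
    exact mul_eq_left.mp h
  let ι0 : TC →* X :=
    { toFun := fun x => f (val w x.a) (val w x.b) (val w x.c) (val w x.v)
      map_one' := by
        show f (val w q0) (val w q0) (val w q0) (val w q0) = 1
        rw [val_q0, f0]
      map_mul' := fun x y => by
        rw [fmul, mul_def]
        simp only [tmul, val_qadd h2, val_qmul h2 hw, val_qsq h2 hw] }
  have hι : ∀ x, ι0 x = f (val w x.a) (val w x.b) (val w x.c) (val w x.v) := fun _ => rfl
  have hbij := val_bijective hF hw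
  have hsur : ∀ a b c v, ∃ x, ι0 x = f a b c v := fun a b c v => by
    obtain ⟨a, rfl⟩ := hbij.2 a
    obtain ⟨b, rfl⟩ := hbij.2 b
    obtain ⟨c, rfl⟩ := hbij.2 c
    obtain ⟨v, rfl⟩ := hbij.2 v
    exact ⟨⟨a, b, c, v⟩, rfl⟩
  -- the kernel lies in the image, by transfer
  set T := (LFourElemCover.U : Subgroup PSL(3, F)).comap σ with hT
  have hdecT : ∀ t ∈ T, ∃ x, ∃ z ∈ σ.ker, t = ι0 x * z := by
    rintro t ⟨a, b, c, e⟩
    obtain ⟨x, hx⟩ := hsur a b c 0
    exact ⟨x, same (by rw [e, hx, σf])⟩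
  have hιT : ∀ x, ι0 x ∈ T := fun x => ⟨_, _, _, σf _ _ _ _⟩
  have hcardP := CfsgLib.Schur.LThreeFour.card_PSL_three_four (F := F) hF
  have hsurker : ∀ z ∈ σ.ker, ∃ v, ψ v = z := by
    intro z hz
    have hzT : z ∈ T := ⟨0, 0, 0, by rw [MonoidHom.mem_ker.mp hz, pm_zero]⟩
    set R := ι0.range.subgroupOf T with hR
    haveI hRn : R.Normal := ⟨fun r hr t => by
      obtain ⟨y, hy⟩ := hr
      obtain ⟨x, z', hz', ht⟩ := hdecT _ t.2
      refine ⟨x * y * x⁻¹, ?_⟩
      change ι0 (x * y * x⁻¹) = (t : X) * (r : X) * (t : X)⁻¹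
      rw [ht, show (r : X) = ι0 y from hy.symm, map_mul, map_mul, map_inv,
        show ι0 x * z' * ι0 y * (ι0 x * z')⁻¹ = ι0 x * (z' * ι0 y * z'⁻¹) * (ι0 x)⁻¹ by group,
        ← cz z' hz' (ι0 y), mul_inv_cancel_right]⟩
    have hcq : ∀ p q : T ⧸ R, p * q = q * p := by
      intro p q
      induction p using QuotientGroup.induction_on with | H p =>
      induction q using QuotientGroup.induction_on with | H q =>
      rw [← QuotientGroup.mk_mul, ← QuotientGroup.mk_mul, QuotientGroup.eq]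
      obtain ⟨x, z₁, hz₁, hp⟩ := hdecT _ p.2
      obtain ⟨y, z₂, hz₂, hq⟩ := hdecT _ q.2
      refine ⟨(x * y)⁻¹ * (y * x), ?_⟩
      change ι0 ((x * y)⁻¹ * (y * x)) = ((p : X) * q)⁻¹ * ((q : X) * p)
      rw [hp, hq, map_mul, map_inv, map_mul, map_mul,
        show ι0 x * z₁ * (ι0 y * z₂) = ι0 x * (z₁ * ι0 y) * z₂ by group, ← cz z₁ hz₁ (ι0 y),
        show ι0 y * z₂ * (ι0 x * z₁) = ι0 y * (z₂ * ι0 x) * z₁ by group, ← cz z₂ hz₂ (ι0 x),
        show (ι0 x * (ι0 y * z₁) * z₂)⁻¹ * (ι0 y * (ι0 x * z₂) * z₁) =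
          z₂⁻¹ * z₁⁻¹ * ((ι0 x * ι0 y)⁻¹ * (ι0 y * ι0 x) * (z₂ * z₁)) by group,
        cz _ (mul_mem hz₂ hz₁), cz z₁ hz₁ z₂]
      group
    letI : CommGroup (T ⧸ R) := { (inferInstance : Group (T ⧸ R)) with mul_comm := hcq }
    let τ := MonoidHom.transfer (QuotientGroup.mk' R)
    have hidx : T.index = 315 := by
      have h := (LFourElemCover.U : Subgroup PSL(3, F)).card_mul_index
      rw [LFourElemCover.card_U, Nat.card_eq_fintype_card (α := F), hF, hcardP] at h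
      rw [hT, Subgroup.index_comap_of_surjective _ hs]
      omega
    have h1 : τ z = 1 :=
      MonoidHom.mem_ker.mp (Abelianization.commutator_subset_ker τ (hperf ▸ Subgroup.mem_top z))
    rw [MonoidHom.transfer_eq_pow (QuotientGroup.mk' R) z fun k g₀ _ => by
      rw [mul_assoc, ← cz _ (pow_mem hz k) g₀, inv_mul_cancel_left], QuotientGroup.mk'_apply,
      QuotientGroup.eq_one_iff] at h1
    obtain ⟨x, hx⟩ := h1
    have hzz : z ^ T.index = z := by
      rw [hidx, show 315 = 2 * 157 + 1 from rfl, pow_succ, pow_mul, pow_two, hk z hz, one_pow, one_mul]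
    change ι0 x = z ^ T.index at hx
    rw [hzz, hι] at hx
    have h0 := congrArg σ hx
    rw [σf, MonoidHom.mem_ker.mp hz, ← pm_zero] at h0
    obtain ⟨ha, hb, hc'⟩ := pm_inj h0
    rw [ha, hb, hc'] at hx
    refine ⟨val w x.v, ?_⟩
    rw [← hx]
    show _ = Y23 0 * Y12 0 * Y13 0 * _
    rw [show Y23 0 = 1 by simpa using A23 0 0, show Y12 0 = 1 by simpa using A12 0 0,
      show Y13 0 = 1 by simpa using A13 0 0, one_mul, one_mul, one_mul]
  have ψinj : Function.Injective ψ := by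
    have hb : Function.Surjective (fun v => (⟨ψ v, ψker v⟩ : σ.ker)) := fun z => by
      obtain ⟨v, hv⟩ := hsurker z.1 z.2
      exact ⟨v, Subtype.ext hv⟩
    have := ((Nat.bijective_iff_surjective_and_card _).2 ⟨hb, by
      rw [hk4, Nat.card_eq_fintype_card, hF]⟩).1
    exact fun a b e => this (Subtype.ext e)
  have inj : Function.Injective ι0 := by
    intro x y e
    have h0 := congrArg σ e
    rw [hι, hι, σf, σf] at h0
    obtain ⟨ha, hb, hc'⟩ := pm_inj h0
    rw [hι, hι, ha, hb, hc'] at e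
    exact TC.ext (hbij.1 ha) (hbij.1 hb) (hbij.1 hc') (hbij.1 (ψinj (mul_left_cancel e)))
  have hrange : ι0.range = T := le_antisymm (by rintro _ ⟨x, rfl⟩; exact hιT x) fun t ht => by
    obtain ⟨x, z, hz, rfl⟩ := hdecT t ht
    obtain ⟨v, rfl⟩ := hsurker z hz
    obtain ⟨y, hy⟩ := hsur 0 0 0 v
    refine ⟨x * y, ?_⟩
    rw [map_mul, hy]
    show ι0 x * (Y23 0 * Y12 0 * Y13 0 * ψ v) = _
    rw [show Y23 0 = 1 by simpa using A23 0 0, show Y12 0 = 1 by simpa using A12 0 0,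
      show Y13 0 = 1 by simpa using A13 0 0, one_mul, one_mul, one_mul]
  -- the actions
  have hconj : ∀ x, H * ι0 x * H⁻¹ = ι0 (tor x) := fun x => by
    rw [hι, hι, tor]
    simp only [val_qmul h2 hw, val_qw, val_qv h2 hw]
    show H * (Y23 _ * Y12 _ * Y13 _ * ψ _) * H⁻¹ = Y23 _ * Y12 _ * Y13 _ * ψ _
    rw [show H * (Y23 (val w x.b) * Y12 (val w x.a) * Y13 (val w x.c) * ψ (val w x.v)) * H⁻¹ =
      (H * Y23 (val w x.b) * H⁻¹) * (H * Y12 (val w x.a) * H⁻¹) * (H * Y13 (val w x.c) * H⁻¹) *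
      (H * ψ (val w x.v) * H⁻¹) by group, E23, E12, E13, cz _ (ψker _) H, mul_inv_cancel_right]
  have W13 : ∀ c, V₁ * Y13 c * V₁⁻¹ = Y12 c := fun c =>
    U12 _ _ (by rw [map_mul, map_mul, map_inv, S13, hV₁, hW₁]) (N3_conj hH3 hV₁H A13 hlw E13 c)
  have W12 : ∀ a, V₁ * Y12 a * V₁⁻¹ = Y13 a := fun a =>
    U13 _ _ (by rw [map_mul, map_mul, map_inv, S12, hV₁, hW₁]) (N3_conj hH3 hV₁H A12 hlv E12 a)
  have Z13 : ∀ c, V₂ * Y13 c * V₂⁻¹ = Y23 c := fun c =>
    U23 _ _ (by rw [map_mul, map_mul, map_inv, S13, hV₂, hW₂]) (N3_conj hH3 hV₂H A13 hlw E13 c)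
  have Z23 : ∀ b, V₂ * Y23 b * V₂⁻¹ = Y13 b := fun b =>
    U13 _ _ (by rw [map_mul, map_mul, map_inv, S23, hV₂, hW₂]) (N3_conj hH3 hV₂H A23 hlv E23 b)
  refine ⟨{
    emb := ι0
    inj := inj
    h := H
    w₁ := V₁
    w₂ := V₂
    h3 := hH3
    h_conj := hconj
    w₁_conj := fun x hx => ?_
    w₂_conj := fun x hx => ?_
    w₁_h := hV₁H
    w₂_h := hV₂H
    center_iff := fun g' => ?_
    perfect := hperf
    gen := ?_
    card_X := ?_
    cent_root := fun g' c v hc0 hg' => ?_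
    invol := fun g' hg2 hgc => ?_ }⟩
  · rw [hι, hι]
    show V₁ * (Y23 _ * Y12 _ * Y13 _ * ψ _) * V₁⁻¹ = Y23 _ * Y12 _ * Y13 _ * ψ _
    simp only [swapA, hx, val_q0, show Y23 0 = 1 by simpa using A23 0 0, one_mul]
    rw [show V₁ * (Y12 (val w x.a) * Y13 (val w x.c) * ψ (val w x.v)) * V₁⁻¹ =
      (V₁ * Y12 (val w x.a) * V₁⁻¹) * (V₁ * Y13 (val w x.c) * V₁⁻¹) * (V₁ * ψ (val w x.v) * V₁⁻¹) by group,
      W12, W13, cz _ (ψker _) V₁, mul_inv_cancel_right, (c1213 _ _).eq]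
  · rw [hι, hι]
    show V₂ * (Y23 _ * Y12 _ * Y13 _ * ψ _) * V₂⁻¹ = Y23 _ * Y12 _ * Y13 _ * ψ _
    simp only [swapB, hx, val_q0, show Y12 0 = 1 by simpa using A12 0 0, mul_one]
    rw [show V₂ * (Y23 (val w x.b) * Y13 (val w x.c) * ψ (val w x.v)) * V₂⁻¹ =
      (V₂ * Y23 (val w x.b) * V₂⁻¹) * (V₂ * Y13 (val w x.c) * V₂⁻¹) * (V₂ * ψ (val w x.v) * V₂⁻¹) by group,
      Z23, Z13, cz _ (ψker _) V₂, mul_inv_cancel_right, (c2313 _ _).eq]
  · rw [← hker]
    have e0 : ∀ v, ι0 (zc q0 v) = ψ (val w v) := fun v => by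
      rw [hι]
      show Y23 (val w q0) * Y12 (val w q0) * Y13 (val w q0) * ψ (val w v) = _
      simp only [val_q0, show Y23 0 = 1 by simpa using A23 0 0, show Y12 0 = 1 by simpa using A12 0 0,
        show Y13 0 = 1 by simpa using A13 0 0, one_mul]
    constructor
    · intro hg'
      obtain ⟨v, rfl⟩ := hsurker g' hg'
      obtain ⟨v, rfl⟩ := hbij.2 v
      exact ⟨v, (e0 v).symm⟩
    · rintro ⟨v, rfl⟩
      rw [e0]; exact ψker _
  · set M := Subgroup.closure (Set.range ι0 ∪ {V₁, V₂}) with hM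
    have hι' : ∀ x, ι0 x ∈ M := fun x => Subgroup.subset_closure (Or.inl ⟨x, rfl⟩)
    have hMmap : M.map σ = ⊤ := by
      rw [eq_top_iff, ← hgen, Subgroup.closure_le]
      rintro p (⟨⟨a, b, c⟩, rfl⟩ | rfl | rfl)
      · obtain ⟨x, hx⟩ := hsur a b c 0
        exact ⟨ι0 x, hι' x, by rw [hx, σf]⟩
      · exact ⟨V₁, Subgroup.subset_closure (Or.inr (Or.inl rfl)), hV₁⟩
      · exact ⟨V₂, Subgroup.subset_closure (Or.inr (Or.inr rfl)), hV₂⟩
    refine eq_top_iff.mpr fun x _ => ?_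
    obtain ⟨m, hm, e⟩ := (hMmap ▸ Subgroup.mem_top (σ x) : σ x ∈ M.map σ)
    obtain ⟨z, hz, rfl⟩ := same e.symm
    refine mul_mem hm ?_
    have hzr : z ∈ ι0.range := hrange.symm ▸ ⟨0, 0, 0, by rw [MonoidHom.mem_ker.mp hz, pm_zero]⟩
    obtain ⟨x, hx⟩ := hzr
    exact hx ▸ hι' x
  · rw [Subgroup.card_eq_card_quotient_mul_card_subgroup σ.ker,
      Nat.card_congr (QuotientGroup.quotientKerEquivOfSurjective σ hs).toEquiv, hcardP, hk4]
  · rw [hrange]
    have hne : val w c ≠ 0 := fun h => hc0 (hbij.1 (h.trans val_q0.symm))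
    have e := congrArg σ hg'
    rw [map_mul, map_mul, hι, σf] at e
    simp only [zc, val_q0] at e
    exact centralizer_root hF hne e
  · haveI : Fact (Nat.Prime 2) := ⟨Nat.prime_two⟩
    have o1 : orderOf (σ g') = 2 := by
      refine orderOf_eq_prime (by rw [pow_two, ← map_mul, hg2, map_one]) fun h => hgc ?_
      exact hc (MonoidHom.mem_ker.mpr h)
    have o2 : orderOf (pm (0 : F) 0 1) = 2 := by
      refine orderOf_eq_prime (by rw [pow_two, pm_mul, ← pm_zero]; congr 1 <;> simp [twice]) fun h => ?_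
      rw [← pm_zero] at h
      exact one_ne_zero (pm_inj h).2.2
    obtain ⟨p, hp⟩ := isConj_iff.mp
      (CfsgLib.Classical.PSLThreeFour.isConj_of_involution hF (σ g') (pm 0 0 1) o1 o2)
    obtain ⟨y, rfl⟩ := hs p
    have hy : y * g' * y⁻¹ ∈ ι0.range := hrange.symm ▸ ⟨0, 0, 1, by rw [map_mul, map_mul, map_inv, hp]⟩
    obtain ⟨x, hx⟩ := hy
    have e := congrArg σ hx
    rw [map_mul, map_mul, map_inv, hp, hι, σf] at e
    obtain ⟨ha, hb, hc'⟩ := pm_inj e
    refine ⟨y, x.v, hx.symm.trans (congrArg ι0 ?_)⟩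
    exact TC.ext (hbij.1 (ha.trans val_q0.symm)) (hbij.1 (hb.trans val_q0.symm))
      (hbij.1 (hc'.trans val_q1.symm)) rfl

end CfsgLib.HeStd
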