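import Cfsg.Agent.Lib.HeStd.AutModel
import Cfsg.Agent.Lib.HeStd.Lifts
import Cfsg.Agent.Lib.Layer.StandardRankOne
import Cfsg.Prelude.Def_Local

/-!
# A standard fourfold cover of `PSL(3, 4)` and its normaliser
-/

set_option autoImplicit false
set_option linter.style.haveILetI false
set_option linter.unusedSectionVars false

open scoped commutatorElement

namespace CfsgLib.HeStd

universe u

/-- The situation. -/
structure Ctx (G : Type u) [Group G] where
  /-- the standard subgroup -/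
  L : Subgroup G
  std : Cfsg.IsStandardSubgroup L
  /-- the coordinates -/
  d : LData L

namespace Ctx

variable {G : Type u} [Group G] (c : Ctx G)

/-- The coordinates in the group. -/
def ι : TC →* G := c.L.subtype.comp c.d.emb

/-- The Sylow 2-subgroup. -/
def T : Subgroup G := c.ι.range

/-- The centraliser. -/
def K : Subgroup G := Subgroup.centralizer (c.L : Set G)

/-- The normaliser. -/
def N : Subgroup G := Subgroup.normalizer (c.L : Set G)

/-- The normaliser of the Sylow subgroup inside `N`. -/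
def NT : Subgroup G := c.N ⊓ Subgroup.normalizer (c.T : Set G)

theorem ι_def (x : TC) : c.ι x = (c.d.emb x : G) := rfl

theorem inj : Function.Injective c.ι := c.L.subtype_injective.comp c.d.inj

theorem ι_mem_L (x : TC) : c.ι x ∈ c.L := (c.d.emb x).2

theorem ι_mem_T (x : TC) : c.ι x ∈ c.T := ⟨x, rfl⟩

theorem T_le_L : c.T ≤ c.L := by rintro _ ⟨x, rfl⟩; exact c.ι_mem_L x

theorem L_le_N : c.L ≤ c.N := Subgroup.le_normalizer

theorem ι_mem_N (x : TC) : c.ι x ∈ c.N := c.L_le_N (c.ι_mem_L x)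

theorem ι_mem_NT (x : TC) : c.ι x ∈ c.NT := ⟨c.ι_mem_N x, Subgroup.le_normalizer (c.ι_mem_T x)⟩

theorem N_eq : c.N = Subgroup.normalizer (c.K : Set G) := c.std.2.2.2

theorem K_le_N : c.K ≤ c.N := by rw [c.N_eq]; exact Subgroup.le_normalizer

theorem mem_K {k : G} : k ∈ c.K ↔ ∀ l ∈ c.L, l * k = k * l := Subgroup.mem_centralizer_iff

theorem comm_K {k : G} (hk : k ∈ c.K) (x : TC) : c.ι x * k = k * c.ι x :=
  c.mem_K.mp hk _ (c.ι_mem_L x)

theorem ι_V_mem_K (v : Q4) : c.ι (zc q0 v) ∈ c.K := c.mem_K.mpr fun l hl =>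
  congrArg Subtype.val (Subgroup.mem_center_iff.mp ((c.d.center_iff _).mpr ⟨v, rfl⟩) ⟨l, hl⟩)

theorem ι_mem_K_iff {x : TC} : c.ι x ∈ c.K ↔ inV x = true := by
  constructor
  · intro h
    obtain ⟨v, hv⟩ := (c.d.center_iff (c.d.emb x)).mp (Subgroup.mem_center_iff.mpr fun l =>
      Subtype.ext (c.mem_K.mp h l l.2))
    rw [c.d.inj hv]
    simp [inV, zc]
  · intro h
    obtain ⟨a, b, c', v⟩ := x
    simp only [inV, Bool.and_eq_true, decide_eq_true_eq] at h
    obtain ⟨⟨rfl, rfl⟩, rfl⟩ := h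
    exact c.ι_V_mem_K v

theorem V_invol {v : Q4} (hv : v ≠ q0) : orderOf (c.ι (zc q0 v)) = 2 := by
  haveI : Fact (Nat.Prime 2) := ⟨Nat.prime_two⟩
  refine orderOf_eq_prime (by rw [pow_two, ← map_mul, zc_mul, qadd_self, qadd_self]; exact map_one c.ι) ?_
  exact fun e => hv (congrArg TC.v (c.inj (e.trans (map_one c.ι).symm)))

theorem conj_L {n : G} (hn : n ∈ c.N) {l : G} (hl : l ∈ c.L) : n * l * n⁻¹ ∈ c.L :=
  (Subgroup.mem_normalizer_iff.mp hn l).mp hl

theorem conj_K {n : G} (hn : n ∈ c.N) {k : G} (hk : k ∈ c.K) : n * k * n⁻¹ ∈ c.K := by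
  rw [c.N_eq] at hn
  exact (Subgroup.mem_normalizer_iff.mp hn k).mp hk

variable [Finite G]

/-- Two conjugate involutions of the centraliser of `L` are conjugate only in the normaliser. -/
theorem mem_N_of_conj {u h : G} (hu : u ∈ c.K) (h2 : orderOf u = 2) (hh : h * u * h⁻¹ ∈ c.K) :
    h ∈ c.N := by
  rw [c.N_eq]
  by_contra hn
  have hodd := c.std.2.1.2 h hn
  have hm : h * u * h⁻¹ ∈ c.K ⊓ c.K.map (MulAut.conj h).toMonoidHom := ⟨hh, u, hu, rfl⟩
  have h3 := Subgroup.orderOf_dvd_natCard _ hm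
  rw [← MulAut.conj_apply, MulEquiv.orderOf_eq, h2] at h3
  exact (Nat.not_even_iff_odd.mpr hodd) (even_iff_two_dvd.mpr h3)

/-- The centraliser of an involution of `K` lies in `N`. -/
theorem centralizer_le {u y : G} (hu : u ∈ c.K) (h2 : orderOf u = 2) (hy : y * u = u * y) : y ∈ c.N :=
  c.mem_N_of_conj hu h2 (by rwa [hy, mul_inv_cancel_right])

theorem index_T : c.d.emb.range.index = 315 := by
  have h := c.d.emb.range.card_mul_index
  rw [← Nat.card_congr (MonoidHom.ofInjective c.d.inj).toEquiv, card_TC, c.d.card_X] at h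
  omega

/-- The Sylow subgroup of `L`. -/
noncomputable def sylT : Sylow 2 c.L :=
  haveI : Fact (Nat.Prime 2) := ⟨Nat.prime_two⟩
  ((IsPGroup.of_card (p := 2) (n := 8) (by
    rw [← Nat.card_congr (MonoidHom.ofInjective c.d.inj).toEquiv, card_TC]; norm_num)).toSylow (by
    rw [c.index_T]; norm_num) : Sylow 2 c.L)

theorem sylT_coe : (c.sylT : Subgroup c.L) = c.d.emb.range := rfl

/-- Frattini: `N = L (N ∩ N(T))`. -/
theorem exists_frattini {n : G} (hn : n ∈ c.N) : ∃ l ∈ c.L, l * n ∈ c.NT := by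
  haveI : Fact (Nat.Prime 2) := ⟨Nat.prime_two⟩
  let θ : MulAut c.L :=
    { toFun := fun l => ⟨n * l * n⁻¹, c.conj_L hn l.2⟩
      invFun := fun l => ⟨n⁻¹ * l * n, by simpa using c.conj_L (c.N.inv_mem hn) l.2⟩
      left_inv := fun l => Subtype.ext (by show n⁻¹ * (n * l * n⁻¹) * n = l; group)
      right_inv := fun l => Subtype.ext (by show n * (n⁻¹ * l * n) * n⁻¹ = l; group)
      map_mul' := fun a b => Subtype.ext (by
        show n * ((a : G) * b) * n⁻¹ = n * a * n⁻¹ * (n * b * n⁻¹)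
        group) }
  let P' : Sylow 2 c.L := c.sylT.comapOfInjective θ.symm.toMonoidHom θ.symm.injective (by
    rw [MonoidHom.range_eq_top.mpr θ.symm.surjective]; exact le_top)
  obtain ⟨l, hl⟩ := MulAction.exists_smul_eq c.L P' c.sylT
  refine ⟨l, l.2, c.N.mul_mem (c.L_le_N l.2) hn, ?_⟩
  have key : ∀ x : TC, (l : G) * n * c.ι x * ((l : G) * n)⁻¹ ∈ c.T := by
    intro x
    have h1 : θ (c.d.emb x) ∈ (P' : Subgroup c.L) := by
      show θ.symm (θ (c.d.emb x)) ∈ (c.sylT : Subgroup c.L)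
      rw [MulEquiv.symm_apply_apply, sylT_coe]
      exact ⟨x, rfl⟩
    have h2 : l * θ (c.d.emb x) * l⁻¹ ∈ ((l • P' : Sylow 2 c.L) : Subgroup c.L) := by
      rw [Sylow.coe_subgroup_smul]
      exact ⟨_, h1, rfl⟩
    rw [hl, sylT_coe] at h2
    obtain ⟨y, hy⟩ := h2
    refine ⟨y, ?_⟩
    show c.ι y = _
    rw [ι_def, hy]
    show (l : G) * (n * c.ι x * n⁻¹) * (l : G)⁻¹ = _
    group
  refine Subgroup.mem_normalizer_iff.mpr fun t => ⟨?_, fun ht => ?_⟩
  · rintro ⟨x, rfl⟩; exact key x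
  · let f : c.T → c.T := fun s => ⟨(l : G) * n * s * ((l : G) * n)⁻¹, by
      obtain ⟨x, hx⟩ := s.2
      rw [← hx]; exact key x⟩
    have hinj : Function.Injective f := fun a b e => Subtype.ext (by
      have := congrArg Subtype.val e
      exact mul_left_cancel (mul_right_cancel this :))
    obtain ⟨s, hs⟩ := (Finite.injective_iff_surjective.mp hinj) ⟨_, ht⟩
    have h1 := congrArg Subtype.val hs
    exact (mul_left_cancel (mul_right_cancel h1 :)) ▸ s.2

theorem exists_phi {n : G} (hn : n ∈ c.NT) :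
    ∃ φ : TC →* TC, Function.Injective φ ∧ ∀ x, n * c.ι x * n⁻¹ = c.ι (φ x) := by
  have h : ∀ x, ∃ y, n * c.ι x * n⁻¹ = c.ι y := fun x => by
    obtain ⟨y, hy⟩ := (Subgroup.mem_normalizer_iff.mp hn.2 _).mp (c.ι_mem_T x)
    exact ⟨y, hy.symm⟩
  choose f hf using h
  refine ⟨MonoidHom.mk' f fun a b => c.inj ?_, fun a b e => c.inj ?_, hf⟩
  · rw [map_mul, ← hf, ← hf, ← hf, map_mul]; group
  · have h1 := congrArg c.ι (show f a = f b from e)
    rw [← hf, ← hf] at h1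
    exact mul_left_cancel (mul_right_cancel h1 :)

theorem phi_inV {n : G} (hn : n ∈ c.NT) {φ : TC →* TC} (hφ : ∀ x, n * c.ι x * n⁻¹ = c.ι (φ x)) {x : TC}
    (hx : inV x = true) : inV (φ x) = true := by
  rw [← c.ι_mem_K_iff, ← hφ]
  exact c.conj_K hn.1 (c.ι_mem_K_iff.mpr hx)

theorem phi_Z {φ : TC →* TC} (hi : Function.Injective φ) {x : TC} (hx : x.a = q0 ∧ x.b = q0) :
    (φ x).a = q0 ∧ (φ x).b = q0 := by
  have hsur := Finite.injective_iff_surjective.mp hi
  have hc : ∀ y, y * φ x = φ x * y := fun y => by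
    obtain ⟨w, rfl⟩ := hsur y
    rw [← map_mul, ← map_mul]
    congr 1
    rw [show x = zc x.c x.v from TC.ext hx.1 hx.2 rfl rfl]
    exact zc_comm _ _ _
  have key : ∀ a b : Q4, qmul q1 b = qmul a q0 → qmul a q1 = qmul q0 b → a = q0 ∧ b = q0 := by decide
  have h1 := congrArg TC.c (hc ⟨q1, q0, q0, q0⟩)
  have h2 := congrArg TC.c (hc ⟨q0, q1, q0, q0⟩)
  simp only [mul_def, tmul] at h1 h2
  refine key _ _ ?_ ?_
  · revert h1
    generalize (φ x).a = a
    generalize (φ x).b = b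
    generalize (φ x).c = cc
    revert a b cc
    decide
  · revert h2
    generalize (φ x).a = a
    generalize (φ x).b = b
    generalize (φ x).c = cc
    revert a b cc
    decide

/-- The complement in the centre is preserved. -/
theorem phi_Y {φ : TC →* TC} (hi : Function.Injective φ) (hV : ∀ x, inV x = true → inV (φ x) = true)
    {x : TC} (hx : x.a = q0 ∧ x.b = q0 ∧ x.v = q0) :
    (φ x).a = q0 ∧ (φ x).b = q0 ∧ (φ x).v = q0 := by
  let Y : Subgroup TC :=
    { carrier := {y | y.a = q0 ∧ y.b = q0 ∧ y.v = q0}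
      one_mem' := ⟨rfl, rfl, rfl⟩
      mul_mem' := by
        rintro ⟨a, b, cc, v⟩ ⟨a', b', cc', v'⟩ ⟨rfl, rfl, rfl⟩ ⟨rfl, rfl, rfl⟩
        simp [mk_mul, qadd_self, show qsq q0 = q0 from by decide, (qmul_zero _).1]
      inv_mem' := by
        rintro ⟨a, b, cc, v⟩ ⟨rfl, rfl, rfl⟩
        simp [inv_def, tinv, qadd_self, (qadd_zero _).1, show qsq q0 = q0 from by decide, (qmul_zero _).1] }
  set W := Y.map φ
  have hsur := Finite.injective_iff_surjective.mp hi
  have hWZ : ∀ y ∈ W, y.a = q0 ∧ y.b = q0 := by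
    rintro _ ⟨y, hy, rfl⟩; exact phi_Z hi ⟨hy.1, hy.2.1⟩
  have hWV : ∀ y ∈ W, y.c = q0 → y.v = q0 := by
    rintro _ ⟨y, hy, rfl⟩ hc
    obtain ⟨w, hw, e⟩ : ∃ w, inV w = true ∧ φ w = φ y := by
      let V : Finset TC := Finset.univ.filter fun z => inV z = true
      have heq := Finset.eq_of_subset_of_card_le (s := V.image φ) (t := V)
        (fun z hz => by
          obtain ⟨z', hz', rfl⟩ := Finset.mem_image.mp hz
          exact Finset.mem_filter.mpr ⟨Finset.mem_univ _, hV _ (Finset.mem_filter.mp hz').2⟩)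
        (by rw [Finset.card_image_of_injective _ hi])
      have hm : φ y ∈ V := Finset.mem_filter.mpr ⟨Finset.mem_univ _, by
        simp only [inV, (phi_Z hi ⟨hy.1, hy.2.1⟩).1, (phi_Z hi ⟨hy.1, hy.2.1⟩).2, hc]; decide⟩
      rw [← heq] at hm
      obtain ⟨z, hz, e⟩ := Finset.mem_image.mp hm
      exact ⟨z, (Finset.mem_filter.mp hz).2, e⟩
    have := hi e
    subst this
    simp only [inV, Bool.and_eq_true, decide_eq_true_eq] at hw
    have hw1 : w = 1 := TC.ext hw.1.1 hw.1.2 hw.2 hy.2.2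
    rw [hw1, map_one]; rfl
  have hWs : ∀ cc : Q4, ∃ y ∈ W, y.c = cc := by
    let f : Q4 → Q4 := fun cc => (φ (zc cc q0)).c
    have hf : Function.Injective f := by
      intro p q e
      have hm : φ (zc p q0 * zc q q0) ∈ W :=
        ⟨_, Y.mul_mem ⟨rfl, rfl, rfl⟩ ⟨rfl, rfl, rfl⟩, rfl⟩
      have hz := hWZ _ hm
      have hp := phi_Z hi (x := zc p q0) ⟨rfl, rfl⟩
      have hq := phi_Z hi (x := zc q q0) ⟨rfl, rfl⟩
      have ec : (φ (zc p q0 * zc q q0)).c = q0 := by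
        rw [map_mul, mul_def]
        show qadd (qadd (f p) (f q)) (qmul (φ (zc p q0)).a (φ (zc q q0)).b) = q0
        rw [hp.1, e, qadd_self, (qmul_zero _).2, qadd_self]
      have h1 : φ (zc p q0 * zc q q0) = 1 := TC.ext hz.1 hz.2 ec (hWV _ hm ec)
      rw [← map_one φ] at h1
      have := congrArg TC.c (hi h1)
      rw [zc_mul] at this
      have key : ∀ p q : Q4, qadd p q = q0 → p = q := by decide
      exact key p q this
    intro cc
    obtain ⟨p, hp⟩ := (Finite.injective_iff_surjective.mp hf) cc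
    exact ⟨φ (zc p q0), ⟨_, ⟨rfl, rfl, rfl⟩, rfl⟩, hp⟩
  have hP : ULike fun y => y ∈ W := by
    intro y hy z za zb
    obtain ⟨y', rfl⟩ := hsur y
    obtain ⟨z', rfl⟩ := hsur z
    have hy' : ¬ (y'.a = q0 ∧ y'.b = q0) := fun h => hy (phi_Z hi h)
    have hz' : z'.a = q0 ∧ z'.b = q0 := by
      by_contra h
      obtain ⟨hza, hzb⟩ := And.intro za zb
      let Z : Finset TC := Finset.univ.filter fun w => w.a = q0 ∧ w.b = q0
      have heq := Finset.eq_of_subset_of_card_le (s := Z.image φ) (t := Z)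
        (fun w hw => by
          obtain ⟨w', hw', rfl⟩ := Finset.mem_image.mp hw
          exact Finset.mem_filter.mpr ⟨Finset.mem_univ _, phi_Z hi (Finset.mem_filter.mp hw').2⟩)
        (by rw [Finset.card_image_of_injective _ hi])
      have hm : φ z' ∈ Z := Finset.mem_filter.mpr ⟨Finset.mem_univ _, hza, hzb⟩
      rw [← heq] at hm
      obtain ⟨w, hw, e⟩ := Finset.mem_image.mp hm
      exact h (hi e ▸ (Finset.mem_filter.mp hw).2)
    obtain ⟨t, ht⟩ := ulike_Y y' hy' z' hz'.1 hz'.2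
    refine ⟨φ t, ?_⟩
    refine ⟨_, ht, ?_⟩
    simp only [map_mul, map_inv]
  exact (ulike_unique hWZ hWV hWs hP (φ x)).mp ⟨x, hx, rfl⟩

theorem pow_h (i : Fin 3) (x : TC) :
    (c.d.h : G) ^ i.val * c.ι x * ((c.d.h : G) ^ i.val)⁻¹ = c.ι (tor^[i.val] x) := by
  have e : ∀ x, (c.d.h : G) * c.ι x * (c.d.h : G)⁻¹ = c.ι (tor x) := fun x => by
    rw [ι_def, ι_def, ← c.d.h_conj]; rfl
  obtain ⟨i, hi⟩ := i
  interval_cases i
  · simp
  · simpa using e x
  · show (c.d.h : G) ^ 2 * c.ι x * ((c.d.h : G) ^ 2)⁻¹ = c.ι (tor (tor x))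
    rw [pow_two, ← e, ← e]; group

theorem w₁_conj {x : TC} (hx : x.b = q0) :
    (c.d.w₁ : G) * c.ι x * (c.d.w₁ : G)⁻¹ = c.ι (swapA x) := by
  rw [ι_def, ι_def, ← c.d.w₁_conj x hx]; rfl

theorem w₂_conj {x : TC} (hx : x.a = q0) :
    (c.d.w₂ : G) * c.ι x * (c.d.w₂ : G)⁻¹ = c.ι (swapB x) := by
  rw [ι_def, ι_def, ← c.d.w₂_conj x hx]; rfl

theorem mem_T_of_cent {l : G} (hl : l ∈ c.L) {cc v : Q4} (hcc : cc ≠ q0)
    (h : l * c.ι (zc cc v) = c.ι (zc cc v) * l) : l ∈ c.T := by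
  obtain ⟨x, hx⟩ := c.d.cent_root ⟨l, hl⟩ cc v hcc (Subtype.ext h)
  exact ⟨x, congrArg Subtype.val hx⟩

/-- Fused central elements have the same central coordinate up to the torus. -/
theorem central_fusion {l : G} (hl : l ∈ c.L) {p q v : Q4} (hp : p ≠ q0) (hq : q ≠ q0)
    (h : l * c.ι (zc p v) * l⁻¹ = c.ι (zc q q0)) : v = q0 := by
  have key : ∀ x : TC, l⁻¹ * c.ι x * l ∈ c.T := by
    intro x
    refine c.mem_T_of_cent (c.L.mul_mem (c.L.mul_mem (c.L.inv_mem hl) (c.ι_mem_L x)) hl) (v := v) hp ?_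
    have e : c.ι (zc p v) = l⁻¹ * c.ι (zc q q0) * l := by rw [← h]; group
    rw [e, show l⁻¹ * c.ι x * l * (l⁻¹ * c.ι (zc q q0) * l) = l⁻¹ * (c.ι x * c.ι (zc q q0)) * l by group,
      ← map_mul, zc_comm, map_mul]
    group
  have hn : l⁻¹ ∈ c.NT := by
    refine ⟨c.N.inv_mem (c.L_le_N hl), ?_⟩
    refine Subgroup.mem_normalizer_iff.mpr fun t => ⟨?_, fun ht => ?_⟩
    · rintro ⟨x, rfl⟩; simpa using key x
    · let f : c.T → c.T := fun s => ⟨l⁻¹ * s * l, by
        obtain ⟨x, hx⟩ := s.2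
        rw [← hx]; exact key x⟩
      have hinj : Function.Injective f := fun a b e =>
        Subtype.ext (mul_left_cancel (mul_right_cancel (congrArg Subtype.val e) :))
      obtain ⟨s, hs⟩ := (Finite.injective_iff_surjective.mp hinj) ⟨_, ht⟩
      have h1 : l⁻¹ * (s : G) * l = l⁻¹ * t * l⁻¹⁻¹ := congrArg Subtype.val hs
      rw [inv_inv] at h1
      exact (mul_left_cancel (mul_right_cancel h1 :)) ▸ s.2
  obtain ⟨φ, hi, hφ⟩ := c.exists_phi hn
  have e : φ (zc q q0) = zc p v := c.inj (by rw [← hφ, ← h]; group)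
  have := (phi_Y hi (fun x hx => c.phi_inV hn hφ hx) (x := zc q q0) ⟨rfl, rfl, rfl⟩).2.2
  rwa [e] at this

theorem yT_shape : ∀ x : TC, (x.a = q0 ∨ x.b = q0) →
    ((x.a = q0 ∧ x.b = q0 ∧ (yT x = true ↔ x.v = q0)) ∨
      ∃ t ∈ twists, ∃ a v : Q4, a ≠ q0 ∧ (yT x = true ↔ v = q0) ∧
        (t * x * t⁻¹ = ⟨a, q0, q0, v⟩ ∨ t * x * t⁻¹ = ⟨q0, a, q0, v⟩)) := by
  decide +kernel

/-- Elements of root type are the conjugates of the complement. -/
theorem yT_iff {x : TC} (hx : x.a = q0 ∨ x.b = q0) :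
    yT x = true ↔ ∃ l ∈ c.L, ∃ cc, l * c.ι x * l⁻¹ = c.ι (zc cc q0) := by
  rcases yT_shape x hx with ⟨ha, hb, hiff⟩ | ⟨t, -, a, v, hane, hiff, ht⟩
  · have e : x = zc x.c x.v := TC.ext ha hb rfl rfl
    rw [hiff]
    constructor
    · intro hv; exact ⟨1, c.L.one_mem, x.c, by rw [one_mul, inv_one, mul_one]; conv_lhs => rw [e, hv]⟩
    · rintro ⟨l, hl, cc, h⟩
      by_cases hp : x.c = q0
      · have hk : c.ι x ∈ c.K := c.ι_mem_K_iff.mpr (by simp [inV, ha, hb, hp])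
        rw [c.mem_K.mp hk l hl, mul_inv_cancel_right] at h
        exact congrArg TC.v (c.inj h)
      · by_cases hq : cc = q0
        · subst hq
          have h1 : c.ι x = 1 := by
            rw [show zc q0 q0 = (1 : TC) from rfl, map_one] at h
            exact conj_eq_one_iff.mp h
          exact absurd (congrArg TC.c (c.inj (h1.trans (map_one c.ι).symm))) hp
        · exact c.central_fusion hl hp hq (by rwa [← e])
  · obtain ⟨m, hm, hme⟩ : ∃ m ∈ c.L, m * c.ι x * m⁻¹ = c.ι (zc a v) := by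
      rcases ht with ht | ht
      · refine ⟨(c.d.w₁ : G) * c.ι t, c.L.mul_mem c.d.w₁.2 (c.ι_mem_L t), ?_⟩
        rw [show (c.d.w₁ : G) * c.ι t * c.ι x * ((c.d.w₁ : G) * c.ι t)⁻¹ =
          c.d.w₁ * (c.ι t * c.ι x * (c.ι t)⁻¹) * (c.d.w₁ : G)⁻¹ by group,
          ← map_inv, ← map_mul, ← map_mul, ht, c.w₁_conj rfl]
        rfl
      · refine ⟨(c.d.w₂ : G) * c.ι t, c.L.mul_mem c.d.w₂.2 (c.ι_mem_L t), ?_⟩
        rw [show (c.d.w₂ : G) * c.ι t * c.ι x * ((c.d.w₂ : G) * c.ι t)⁻¹ =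
          c.d.w₂ * (c.ι t * c.ι x * (c.ι t)⁻¹) * (c.d.w₂ : G)⁻¹ by group,
          ← map_inv, ← map_mul, ← map_mul, ht, c.w₂_conj rfl]
        rfl
    rw [hiff]
    constructor
    · rintro rfl; exact ⟨m, hm, a, hme⟩
    · rintro ⟨l, hl, cc, h⟩
      by_cases hq : cc = q0
      · subst hq
        rw [show zc q0 q0 = (1 : TC) from rfl, map_one, conj_eq_one_iff] at h
        rw [h, mul_one, mul_inv_cancel] at hme
        exact absurd (congrArg TC.c (c.inj ((map_one c.ι).trans hme))).symm hane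
      · refine c.central_fusion (c.L.mul_mem hl (c.L.inv_mem hm)) hane hq ?_
        rw [← hme, ← h]; group

theorem sq_one_shape : ∀ x : TC, x * x = 1 → x.a = q0 ∨ x.b = q0 := by decide +kernel

theorem yT_sq : ∀ x : TC, yT x = true → x * x = 1 := by decide +kernel

/-- The normal form of an element normalising the Sylow subgroup. -/
theorem exists_model' {n : G} (hn : n ∈ c.NT) :
    ∃ k : AK, k.p ≠ q0 ∧ k.q ≠ q0 ∧ ∃ t : TC, ∀ x, n * c.ι x * n⁻¹ = c.ι (t * act k x * t⁻¹) := by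
  obtain ⟨φ, hi, hφ⟩ := c.exists_phi hn
  have hV := fun x hx => c.phi_inV hn hφ (x := x) hx
  obtain ⟨k, hp, hq, t, ht⟩ := exists_model hi (fun x hx => by
    have h2 : φ x * φ x = 1 := by rw [← map_mul, yT_sq x hx, map_one]
    have hxs := sq_one_shape x (yT_sq x hx)
    rw [c.yT_iff (sq_one_shape _ h2)]
    obtain ⟨l, hl, cc, h⟩ := (c.yT_iff hxs).mp hx
    obtain ⟨hY1, hY2, hY3⟩ := phi_Y hi hV (x := zc cc q0) ⟨rfl, rfl, rfl⟩
    refine ⟨n * l * n⁻¹, c.conj_L hn.1 hl, (φ (zc cc q0)).c, ?_⟩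
    rw [show zc (φ (zc cc q0)).c q0 = φ (zc cc q0) from TC.ext hY1.symm hY2.symm rfl hY3.symm, ← hφ, ← hφ, ← h]
    group) hV (fun x hx => phi_Z hi hx)
  exact ⟨k, hp, hq, t, fun x => by rw [hφ, ht]⟩

/-- An element of `N` centralising `T` lies in `Y K`. -/
theorem kernel {n : G} (hn : n ∈ c.N) (hT : ∀ x, n * c.ι x = c.ι x * n) :
    ∃ cc, c.ι (zc cc q0) * n ∈ c.K := by
  have hTc : ∀ x, n * c.ι x * n⁻¹ = c.ι x := fun x => by rw [hT, mul_inv_cancel_right]
  set h := (c.d.h : G) with hh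
  have hhc : ∀ x, h * c.ι x * h⁻¹ = c.ι (tor x) := fun x => by rw [ι_def, ι_def, ← c.d.h_conj]; rfl
  have hh3 : h * h * h = 1 := congrArg Subtype.val c.d.h3
  have hL : h⁻¹ * (n * h * n⁻¹) ∈ c.L := c.L.mul_mem (c.L.inv_mem c.d.h.2) (c.conj_L hn c.d.h.2)
  have hcz : ∀ x, (h⁻¹ * (n * h * n⁻¹)) * c.ι x = c.ι x * (h⁻¹ * (n * h * n⁻¹)) := by
    intro x
    have e : (n * h * n⁻¹) * c.ι x * (n * h * n⁻¹)⁻¹ = c.ι (tor x) := by
      have nx : n⁻¹ * c.ι x * n = c.ι x := by rw [mul_assoc, ← hT, inv_mul_cancel_left]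
      calc (n * h * n⁻¹) * c.ι x * (n * h * n⁻¹)⁻¹
          = n * (h * (n⁻¹ * c.ι x * n) * h⁻¹) * n⁻¹ := by group
        _ = _ := by rw [nx, hhc, hTc]
    rw [← hhc] at e
    calc h⁻¹ * (n * h * n⁻¹) * c.ι x = h⁻¹ * ((n * h * n⁻¹) * c.ι x * (n * h * n⁻¹)⁻¹) * (n * h * n⁻¹) := by
          group
      _ = _ := by rw [e]; group
  obtain ⟨x, hx⟩ := c.mem_T_of_cent hL (cc := q1) (v := q0) (by decide) (hcz _)
  have hxc : ∀ y, x * y = y * x := fun y => c.inj (by rw [map_mul, map_mul, hx]; exact hcz y)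
  obtain ⟨ha, hb⟩ : x.a = q0 ∧ x.b = q0 := by
    have h1 := congrArg TC.c (hxc ⟨q1, q0, q0, q0⟩)
    have h2 := congrArg TC.c (hxc ⟨q0, q1, q0, q0⟩)
    simp only [mul_def, tmul] at h1 h2
    revert h1 h2
    generalize x.a = a
    generalize x.b = b
    generalize x.c = cc
    revert a b cc
    decide
  have hxz : x = zc x.c x.v := TC.ext ha hb rfl rfl
  have e1 : n * h * n⁻¹ = h * c.ι x := by rw [hx]; group
  have hv : x.v = q0 := by
    have e3 : (h * c.ι x) * (h * c.ι x) * (h * c.ι x) = 1 := by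
      rw [← e1, show n * h * n⁻¹ * (n * h * n⁻¹) * (n * h * n⁻¹) = n * (h * h * h) * n⁻¹ by group, hh3,
        mul_one, mul_inv_cancel]
    have e4 : (h * c.ι x) * (h * c.ι x) * (h * c.ι x) = c.ι (tor x * tor (tor x) * x) := by
      rw [map_mul, map_mul]
      calc h * c.ι x * (h * c.ι x) * (h * c.ι x)
          = (h * c.ι x * h⁻¹) * (h * (h * c.ι x * h⁻¹) * h⁻¹) * ((h * h * h) * c.ι x) := by group
        _ = _ := by rw [hh3, one_mul, hhc, hhc]
    rw [e4, ← map_one c.ι] at e3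
    have := congrArg TC.v (c.inj e3)
    rw [hxz] at this
    revert this
    simp only [zc, tor, mul_def, tmul]
    generalize x.v = v
    revert v
    decide
  set c1 := qmul qv x.c with hc1
  set n' := c.ι (zc c1 q0) * n with hn'
  have hn'N : n' ∈ c.N := c.N.mul_mem (c.ι_mem_N _) hn
  have hT' : ∀ y, n' * c.ι y * n'⁻¹ = c.ι y := fun y => by
    rw [hn', show c.ι (zc c1 q0) * n * c.ι y * (c.ι (zc c1 q0) * n)⁻¹ =
      c.ι (zc c1 q0) * (n * c.ι y * n⁻¹) * (c.ι (zc c1 q0))⁻¹ by group, hTc, ← map_inv, ← map_mul, ← map_mul,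
      ← zc_comm, mul_inv_cancel_right]
  have hh' : n' * h * n'⁻¹ = h := by
    have key : ∀ q : Q4, qadd (qadd (qmul qw (qmul qw (qmul qv q))) q) (qmul qv q) = q0 := by decide
    have e : tor (tor (zc c1 q0)) * x * (zc c1 q0)⁻¹ = 1 := by
      rw [hxz, hv, hc1]
      generalize x.c = q
      revert q
      decide
    rw [hn', show c.ι (zc c1 q0) * n * h * (c.ι (zc c1 q0) * n)⁻¹ =
      c.ι (zc c1 q0) * (n * h * n⁻¹) * (c.ι (zc c1 q0))⁻¹ by group, e1]
    have e5 : h⁻¹ * c.ι (zc c1 q0) * h = c.ι (tor (tor (zc c1 q0))) := by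
      have h2 : h * h = h⁻¹ := eq_inv_of_mul_eq_one_left hh3
      rw [← hhc, ← hhc,
        show h * (h * c.ι (zc c1 q0) * h⁻¹) * h⁻¹ = (h * h) * c.ι (zc c1 q0) * (h * h)⁻¹ by group, h2, inv_inv]
    calc c.ι (zc c1 q0) * (h * c.ι x) * (c.ι (zc c1 q0))⁻¹
        = h * ((h⁻¹ * c.ι (zc c1 q0) * h) * c.ι x * (c.ι (zc c1 q0))⁻¹) := by group
      _ = h := by rw [e5, ← map_inv, ← map_mul, ← map_mul, e, map_one, mul_one]
  -- trivial modulo the centre on generators
  have hw : ∀ (w : c.L) (sw : TC → TC),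
      (w : G) * h * (w : G)⁻¹ = h⁻¹ →
      (∃ P : TC → Prop, (∀ y, P y → (w : G) * c.ι y * (w : G)⁻¹ = c.ι (sw y)) ∧
        (∀ u : TC, (∀ y, P y → u * y = y * u) → tor u = u → inV u = true) ∧ P (zc q1 q0)) →
      (w : G)⁻¹ * (n' * w * n'⁻¹) ∈ c.K := by
    rintro w sw hwh ⟨P, hP, hfix, hP1⟩
    set m := (w : G)⁻¹ * (n' * w * n'⁻¹)
    have hmL : m ∈ c.L := c.L.mul_mem (c.L.inv_mem w.2) (c.conj_L hn'N w.2)
    have cm : ∀ g g' : G, n' * g * n'⁻¹ = g → n' * g' * n'⁻¹ = g' →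
        (w : G) * g * (w : G)⁻¹ = g' → m * g * m⁻¹ = g := by
      intro g g' e1 e2 e3
      calc m * g * m⁻¹ = (w : G)⁻¹ * (n' * ((w : G) * (n'⁻¹ * (n' * g * n'⁻¹) * n') * (w : G)⁻¹) * n'⁻¹) * w := by
            simp only [m]; rw [e1]; group
        _ = (w : G)⁻¹ * (n' * ((w : G) * g * (w : G)⁻¹) * n'⁻¹) * w := by group
        _ = (w : G)⁻¹ * g' * w := by rw [e3, e2]
        _ = g := by rw [← e3]; group
    obtain ⟨u, hu⟩ := c.mem_T_of_cent hmL (cc := q1) (v := q0) (by decide)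
      (mul_inv_eq_iff_eq_mul.mp (cm _ _ (hT' _) (hT' _) (hP _ hP1)))
    have hucomm : ∀ y, P y → u * y = y * u := fun y hy => c.inj (by
      rw [map_mul, map_mul, hu]
      exact mul_inv_eq_iff_eq_mul.mp (cm _ _ (hT' _) (hT' _) (hP y hy)))
    have hutor : tor u = u := c.inj (by
      have hm := mul_inv_eq_iff_eq_mul.mp (cm h h⁻¹ hh' (by
        rw [show n' * h⁻¹ * n'⁻¹ = (n' * h * n'⁻¹)⁻¹ by group, hh']) hwh)
      rw [← hhc, hu, ← hm, mul_inv_cancel_right])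
    rw [← hu]
    exact c.ι_mem_K_iff.mpr (hfix u hucomm hutor)
  have fixA : ∀ u : TC, (∀ y : TC, y.b = q0 → u * y = y * u) → tor u = u → inV u = true := by
    intro u hu ht
    have key : ∀ u : TC, u * ⟨q1, q0, q0, q0⟩ = (⟨q1, q0, q0, q0⟩ : TC) * u → tor u = u → inV u = true := by
      decide +kernel
    exact key u (hu _ rfl) ht
  have fixB : ∀ u : TC, (∀ y : TC, y.a = q0 → u * y = y * u) → tor u = u → inV u = true := by
    intro u hu ht
    have key : ∀ u : TC, u * ⟨q0, q1, q0, q0⟩ = (⟨q0, q1, q0, q0⟩ : TC) * u → tor u = u → inV u = true := by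
      decide +kernel
    exact key u (hu _ rfl) ht
  have hw1 := hw c.d.w₁ swapA (congrArg Subtype.val c.d.w₁_h)
    ⟨fun y => y.b = q0, fun y hy => c.w₁_conj hy, fixA, rfl⟩
  have hw2 := hw c.d.w₂ swapB (congrArg Subtype.val c.d.w₂_h)
    ⟨fun y => y.a = q0, fun y hy => c.w₂_conj hy, fixB, rfl⟩
  -- trivial on all of `L`
  let θ : MulAut c.L :=
    { toFun := fun l => ⟨n' * l * n'⁻¹, c.conj_L hn'N l.2⟩
      invFun := fun l => ⟨n'⁻¹ * l * n', by simpa using c.conj_L (c.N.inv_mem hn'N) l.2⟩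
      left_inv := fun l => Subtype.ext (by show n'⁻¹ * (n' * l * n'⁻¹) * n' = l; group)
      right_inv := fun l => Subtype.ext (by show n' * (n'⁻¹ * l * n') * n'⁻¹ = l; group)
      map_mul' := fun a b => Subtype.ext (by
        show n' * ((a : G) * b) * n'⁻¹ = n' * a * n'⁻¹ * (n' * b * n'⁻¹)
        group) }
  have hmod : ∀ l : c.L, l⁻¹ * θ l ∈ Subgroup.center c.L := by
    intro l
    have hl : l ∈ Subgroup.closure (Set.range c.d.emb ∪ {c.d.w₁, c.d.w₂}) := c.d.gen ▸ Subgroup.mem_top l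
    induction hl using Subgroup.closure_induction with
    | mem y hy =>
      refine Subgroup.mem_center_iff.mpr fun m => Subtype.ext ?_
      rcases hy with ⟨x, rfl⟩ | rfl | rfl
      · show (m : G) * ((c.ι x)⁻¹ * (n' * c.ι x * n'⁻¹)) = (c.ι x)⁻¹ * (n' * c.ι x * n'⁻¹) * m
        rw [hT', inv_mul_cancel, mul_one, one_mul]
      · exact c.mem_K.mp hw1 m m.2
      · exact c.mem_K.mp hw2 m m.2
    | one => simp
    | mul a b _ _ iha ihb =>
      have e : (a * b)⁻¹ * θ (a * b) = (b⁻¹ * θ b) * (a⁻¹ * θ a) := by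
        have hc := Subgroup.mem_center_iff.mp iha (θ b)
        rw [map_mul]
        calc (a * b)⁻¹ * (θ a * θ b) = b⁻¹ * ((a⁻¹ * θ a) * θ b) := by group
          _ = _ := by rw [← hc]; group
      rw [e]; exact mul_mem ihb iha
    | inv a _ iha =>
      have e : a⁻¹⁻¹ * θ a⁻¹ = (a⁻¹ * θ a)⁻¹ := by
        have hc := Subgroup.mem_center_iff.mp (inv_mem iha) a
        rw [map_inv, inv_inv]
        calc a * (θ a)⁻¹ = a * (a⁻¹ * θ a)⁻¹ * a⁻¹ := by group
          _ = _ := by rw [hc, mul_inv_cancel_right]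
      rw [e]; exact inv_mem iha
  let f : c.L →* Subgroup.center c.L := MonoidHom.mk' (fun l => ⟨l⁻¹ * θ l, hmod l⟩) fun a b => Subtype.ext (by
    show (a * b)⁻¹ * θ (a * b) = a⁻¹ * θ a * (b⁻¹ * θ b)
    rw [map_mul, Subgroup.mem_center_iff.mp (hmod b) (a⁻¹ * θ a)]
    have hc := Subgroup.mem_center_iff.mp (hmod a) (θ b)
    calc (a * b)⁻¹ * (θ a * θ b) = b⁻¹ * ((a⁻¹ * θ a) * θ b) := by group
      _ = _ := by rw [← hc]; group)
  have htriv : ∀ l : c.L, θ l = l := by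
    intro l
    have hle : commutator c.L ≤ f.ker := by
      rw [commutator_def, Subgroup.commutator_le]
      intro p _ q _
      rw [MonoidHom.mem_ker, map_commutatorElement, commutatorElement_eq_one_iff_mul_comm]
      exact Subtype.ext (Subgroup.mem_center_iff.mp (f q).2 (f p))
    have hk : l ∈ f.ker := hle (c.d.perfect ▸ Subgroup.mem_top l)
    have := congrArg Subtype.val (MonoidHom.mem_ker.mp hk)
    exact (inv_mul_eq_one.mp this).symm
  refine ⟨c1, ?_⟩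
  rw [c.mem_K, ← hn']
  intro l hl
  have e : n' * l * n'⁻¹ = l := congrArg Subtype.val (htriv ⟨l, hl⟩)
  exact (mul_inv_eq_iff_eq_mul.mp e).symm

end Ctx

end CfsgLib.HeStd
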