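import Cfsg.Agent.Lib.HeStd.Sigma
import Cfsg.Agent.Lib.HeUnique.End.Abstract

/-!
# The odd part of the centraliser of the component is trivial
-/

set_option autoImplicit false
set_option linter.style.haveILetI false
set_option linter.unusedSectionVars false

namespace CfsgLib.HeStd

universe u

namespace Ctx

variable {G : Type u} [Group G] {c : Ctx G} [Finite G] [IsSimpleGroup G]

/-- An involution of semilinear type has the odd part of the component. -/
theorem dx_of_semilinear {y : G} (hy : y ∈ c.NT) (hyy : y * y = 1)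
    (ho : (c.code ⟨y, hy⟩).out = (true, false)) : c.DX y := by
  obtain ⟨hp, hq, t, ht⟩ := c.code_spec ⟨y, hy⟩
  set k := c.code ⟨y, hy⟩ with hk
  have hy' : ∀ z, y * c.ι z * y⁻¹ = c.ι (cjt ⟨t.a, t.b, q0, q0⟩ (act k z)) := fun z => by
    rw [ht, conj_twist]; rfl
  obtain ⟨r, s, hr, hs, hrs⟩ := sig_normalise k hp hq ho
    ⟨t.a, t.b, q0, q0⟩ (mem_twists _ _) fun e _ => c.inj (by
      rw [← hy', ← hy', show y * (y * c.ι e * y⁻¹) * y⁻¹ = (y * y) * c.ι e * (y * y)⁻¹ by group, hyy]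
      group)
  obtain ⟨n, hn, hnA⟩ := exists_scl (c := c) hr hs
  set y₂ := n * y * n⁻¹ with hy₂
  have hy2 : y₂ ∈ c.NT := mul_mem (mul_mem hn hy) (inv_mem hn)
  have hpre : ∀ e, c.ι e = n * c.ι (act ⟨qsq r, qsq s, false, false⟩ e) * n⁻¹ := fun e => by
    rw [hnA, scl_inv r s hr hs]
  set φ : TC →* TC := (MulAut.conj (act ⟨r, s, false, false⟩ ⟨t.a, t.b, q0, q0⟩)).toMonoidHom.comp
    (actH ⟨q1, q1, true, false⟩) with hφ
  have hA2 : ∀ z, y₂ * c.ι z * y₂⁻¹ = c.ι (φ z) := map_eq_of_gens fun e he => by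
    calc y₂ * c.ι e * y₂⁻¹ = n * (y * c.ι (act ⟨qsq r, qsq s, false, false⟩ e) * y⁻¹) * n⁻¹ := by
          rw [hpre e, hy₂]; group
      _ = _ := by rw [hy', hnA, hrs e he]; rfl
  have hk2 : c.code ⟨y₂, hy2⟩ = ⟨q1, q1, true, false⟩ :=
    c.code_eq (n := ⟨y₂, hy2⟩) ⟨by decide, by decide, act ⟨r, s, false, false⟩ ⟨t.a, t.b, q0, q0⟩, fun z => by
      show y₂ * c.ι z * y₂⁻¹ = _
      rw [hA2]; rfl⟩
  have hy22 : y₂ * y₂ = 1 := by
    rw [hy₂, show n * y * n⁻¹ * (n * y * n⁻¹) = n * (y * y) * n⁻¹ by group, hyy]; group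
  obtain ⟨x₀, -, hD, hA⟩ := exists_sigma (c := c)
  obtain ⟨w', hw'⟩ := sig_class hD hA hy2 hk2 hy22
  have h2 : c.DX y₂ := hw' ▸ hD.conj (N_le_DStab (c.ι_mem_N w'))
  have := h2.conj (inv_mem (N_le_DStab hn.1))
  rwa [show n⁻¹ * (n * y * n⁻¹) * n⁻¹⁻¹ = y by group] at this

/-- An involution of `N` which is not fused is conjugate to `z`, when no involution has swap type. -/
theorem zg_conj_of_not_fus (hgam : ∀ (x : G) (hx : x ∈ c.N), x * x = 1 → (c.eps ⟨x, hx⟩).2 = false)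
    {w : G} (hwN : w ∈ c.N) (hww : w * w = 1) (hw1 : w ≠ 1) (hF : ¬ c.Fus w) :
    ∃ h, h * c.zg * h⁻¹ = w := by
  haveI : Fact (Nat.Prime 2) := ⟨Nat.prime_two⟩
  obtain ⟨l, hl, hlw⟩ := c.exists_conj_NT (P := Subgroup.zpowers w)
    (IsPGroup.of_card (p := 2) (n := 1) (by rw [Nat.card_zpowers, orderOf_invol hww hw1, pow_one]))
    (Subgroup.zpowers_le.mpr hwN)
  set y := l * w * l⁻¹ with hy_def
  have hy : y ∈ c.NT := hlw w (Subgroup.mem_zpowers _)
  have hyy : y * y = 1 := by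
    rw [show y * y = l * (w * w) * l⁻¹ by simp only [y]; group, hww]; group
  have hyF : ¬ c.Fus y := fun h => hF ((Fus.conj_iff l).mp h)
  have hs : (c.code ⟨y, hy⟩).out.2 = false := by
    rw [← c.eps_NT hy]; exact hgam y hy.1 hyy
  cases he : (c.code ⟨y, hy⟩).out.1
  · obtain ⟨u, hu⟩ := invol_inner hy hyy (Prod.ext he hs)
    have huF : fusT u = false := by
      by_contra h
      exact hyF (hu ▸ fus_iff.mpr (Bool.eq_true_of_not_eq_false h))
    have hu2 : u * u = 1 := c.inj (by rw [map_mul, ← hu, hyy, map_one])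
    have hu1 : u ≠ 1 := fun e => hw1 (by
      rw [e, map_one, hy_def] at hu
      exact conj_eq_one_iff.mp hu)
    obtain ⟨n, -, hnz⟩ := inner_to_z (c := c) hu2 hu1 huF
    refine ⟨(n * l)⁻¹, ?_⟩
    rw [← hnz, ← hu, hy_def]; group
  · exact absurd (dx_of_semilinear hy hyy (Prod.ext he hs)).fus hyF

/-- Every conjugate of `z` preserves the odd part. -/
theorem zg_conj_mem_DStab (hgam : ∀ (x : G) (hx : x ∈ c.N), x * x = 1 → (c.eps ⟨x, hx⟩).2 = false) (a : G) :
    a * c.zg * a⁻¹ ∈ c.DStab := by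
  set y := a * c.zg * a⁻¹ with hy_def
  have hyy : y * y = 1 := by
    rw [show y * y = a * (c.zg * c.zg) * a⁻¹ by simp only [y]; group, zg_sq]; group
  have hq : q1 ≠ q0 := by decide
  rcases CfsgLib.HeUnique.dihedral_pair (vg_sq (c := c) q1) hyy ⊤ (Subgroup.mem_top _) (Subgroup.mem_top _) with
    ⟨-, g, -, hg⟩ | ⟨w, -, -, hw1, hww, hwx, hwy, -⟩
  · exfalso
    refine zg_not_fus (c := c) ((Fus.conj_iff (g * a)).mp ?_)
    rw [show g * a * c.zg * (g * a)⁻¹ = g * y * g⁻¹ by simp only [y]; group, hg]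
    exact fus_vg hq
  have hwN : w ∈ c.N := c.centralizer_le (c.vg_mem_K q1) (vg_invol hq) hwx
  by_cases hF : c.Fus w
  · obtain ⟨g, hg, i, hi, e⟩ := dx_of_comm_vg hF hq hwx
    have hyN : g⁻¹ * y * g ∈ c.N := by
      refine c.centralizer_le (c.vg_mem_K i) (vg_invol hi) ?_
      calc g⁻¹ * y * g * c.vg i = g⁻¹ * (y * (g * c.vg i * g⁻¹)) * g := by group
        _ = g⁻¹ * ((g * c.vg i * g⁻¹) * y) * g := by rw [e, hwy]
        _ = _ := by group
    have := mul_mem (mul_mem hg (N_le_DStab hyN)) (inv_mem hg)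
    rwa [show g * (g⁻¹ * y * g) * g⁻¹ = y by group] at this
  obtain ⟨h, hh⟩ := zg_conj_of_not_fus hgam hwN hww hw1 hF
  have hX : c.InX (h⁻¹ * c.vg q1 * h) := by
    refine ⟨by simpa using (fus_vg (c := c) hq).conj h⁻¹, ?_⟩
    calc h⁻¹ * c.vg q1 * h * c.zg = h⁻¹ * (c.vg q1 * (h * c.zg * h⁻¹)) * h := by group
      _ = h⁻¹ * ((h * c.zg * h⁻¹) * c.vg q1) * h := by rw [hh, hwx]
      _ = _ := by group
  have hhD : h ∈ c.DStab := (dx_of_inX hX).frame (j := q1) (by group)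
  have hyC : (h⁻¹ * y * h) * c.zg * (h⁻¹ * y * h)⁻¹ = c.zg := by
    rw [mul_inv_eq_iff_eq_mul]
    calc h⁻¹ * y * h * c.zg = h⁻¹ * (y * (h * c.zg * h⁻¹)) * h := by group
      _ = h⁻¹ * ((h * c.zg * h⁻¹) * y) * h := by rw [hh, hwy]
      _ = _ := by group
  have := mul_mem (mul_mem hhD (cent_le_DStab hyC)) (inv_mem hhD)
  rwa [show h * (h⁻¹ * y * h) * h⁻¹ = y by group] at this

/-- The odd part is trivial. -/
theorem dset_trivial (hgam : ∀ (x : G) (hx : x ∈ c.N), x * x = 1 → (c.eps ⟨x, hx⟩).2 = false)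
    {d : G} (hd : c.Dset d) : d = 1 := by
  have hz1 : c.zg ≠ 1 := fun e => by
    rw [zg, ← map_one c.ι] at e
    exact absurd (c.inj e) (by decide +kernel)
  have hst : ∀ g : G, g ∈ c.DStab := by
    have hle : Subgroup.normalClosure ({c.zg} : Set G) ≤ c.DStab := by
      refine (Subgroup.closure_le _).mpr fun y hy => ?_
      obtain ⟨z, hz, hzy⟩ := Group.mem_conjugatesOfSet_iff.mp hy
      obtain ⟨a, rfl⟩ := isConj_iff.mp hzy
      rw [Set.mem_singleton_iff.mp hz]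
      exact zg_conj_mem_DStab hgam a
    have htop : Subgroup.normalClosure ({c.zg} : Set G) = ⊤ :=
      (Subgroup.normalClosure_normal.eq_bot_or_eq_top).resolve_left fun e =>
        hz1 ((Subgroup.mem_bot (G := G)).mp (e ▸ Subgroup.subset_normalClosure rfl))
    exact fun g => hle (htop ▸ Subgroup.mem_top g)
  set D := Subgroup.closure {x : G | c.Dset x}
  have hsub : D ≤ c.K := (Subgroup.closure_le _).mpr fun x hx => Dset.mem_K hx
  have hn : D.Normal := ⟨fun n hn g => by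
    have h : D.map (MulAut.conj g).toMonoidHom ≤ D := by
      rw [MonoidHom.map_closure, Subgroup.closure_le]
      rintro _ ⟨x, hx, rfl⟩
      exact Subgroup.subset_closure ((hst g x).mp hx)
    exact h ⟨n, hn, rfl⟩⟩
  rcases hn.eq_bot_or_eq_top with e | e
  · exact (Subgroup.mem_bot).mp (e ▸ Subgroup.subset_closure hd)
  · exact absurd (top_le_iff.mp (e ▸ hsub.trans c.K_le_N)) N_ne_top

/-- The centraliser of the component is `V`. -/
theorem K_eq_V (hgam : ∀ (x : G) (hx : x ∈ c.N), x * x = 1 → (c.eps ⟨x, hx⟩).2 = false)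
    {k : G} (hk : k ∈ c.K) : ∃ v, k = c.vg v := by
  obtain ⟨v, hv⟩ := K_split hk
  refine ⟨v, ?_⟩
  rw [eq_inv_of_mul_eq_one_right (dset_trivial hgam hv), inv_eq_of_mul_eq_one_right (vg_sq v)]

end Ctx

end CfsgLib.HeStd
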