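import Cfsg.Agent.Lib.HeStd.Ctx
import Cfsg.Agent.Lib.HeUnique.Struct.Quot
import Cfsg.Prelude.Def_ClassificationK
import Mathlib.LinearAlgebra.Matrix.ToLin
import Mathlib.Algebra.Module.ZMod

/-!
# The top of the centraliser as `SL(3, 2)`, and the coordinates from the hypotheses
-/

set_option autoImplicit false
set_option linter.style.haveILetI false
set_option linter.unusedSectionVars false

open scoped MatrixGroups

namespace CfsgLib.HeStd

universe u

/-- A group acting on an elementary group of order 16 modulo a central involution `z`, with kernel `Q`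
of index above 84, has `C ⧸ Q` isomorphic to `SL(3, 2)`. -/
theorem quot_equiv_SL3 {C : Type*} [Group C] [Finite C] (Q : Subgroup C) [Q.Normal] (L : Subgroup C)
    [L.Normal] (z : C) (hzL : z ∈ L) (hz : orderOf z = 2) (hc : ∀ c, c * z = z * c)
    (hL : Nat.card L = 16) (hel : ∀ x ∈ L, x * x = 1)
    (hker : ∀ c, (∀ x ∈ L, c * x * c⁻¹ = x ∨ c * x * c⁻¹ = x * z) ↔ c ∈ Q) (hidx : 84 < Q.index) :
    Nonempty (C ⧸ Q ≃* Matrix.SpecialLinearGroup (Fin 3) (ZMod 2)) := by
  classical
  let Z : Subgroup L := Subgroup.zpowers (⟨z, hzL⟩ : L)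
  haveI hZn : Z.Normal := ⟨fun n hn g => by
    obtain ⟨k, rfl⟩ := Subgroup.mem_zpowers_iff.mp hn
    have hcomm : Commute g ((⟨z, hzL⟩ : L) ^ k) :=
      Commute.zpow_right (show Commute g (⟨z, hzL⟩ : L) from Subtype.ext (hc g)) k
    rw [hcomm.eq, mul_inv_cancel_right]
    exact hn⟩
  have hzz : z * z = 1 := hel z hzL
  have hmemZ : ∀ x : L, x ∈ Z ↔ (x : C) = 1 ∨ (x : C) = z := by
    intro x
    constructor
    · rintro h
      obtain ⟨k, rfl⟩ := Subgroup.mem_zpowers_iff.mp h
      rw [SubgroupClass.coe_zpow]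
      show z ^ k = 1 ∨ z ^ k = z
      rw [zpow_eq_zpow_emod' k (show z ^ 2 = 1 by rw [pow_two, hzz])]
      rcases Int.emod_two_eq k with h | h
      · left; simp [h]
      · right; simp [h]
    · rintro (h | h)
      · rw [show x = 1 from Subtype.ext h]; exact Z.one_mem
      · rw [show x = ⟨z, hzL⟩ from Subtype.ext h]; exact Subgroup.mem_zpowers _
  have hcardZ : Nat.card Z = 2 := by
    rw [Nat.card_zpowers, ← hz]
    exact (Subgroup.orderOf_coe (⟨z, hzL⟩ : L)).symm
  have hcardV : Nat.card (L ⧸ Z) = 8 := by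
    have h := Subgroup.card_eq_card_quotient_mul_card_subgroup Z
    rw [hL, hcardZ] at h
    omega
  have hsq : ∀ v : L ⧸ Z, v * v = 1 := fun v => by
    induction v using QuotientGroup.induction_on with | H x =>
    rw [← QuotientGroup.mk_mul, show x * x = 1 from Subtype.ext (hel x x.2), QuotientGroup.mk_one]
  letI : CommGroup (L ⧸ Z) :=
    { (inferInstance : Group (L ⧸ Z)) with
      mul_comm := fun a b => by
        have h := hsq (a * b)
        have ha := mul_eq_one_iff_inv_eq.mp (hsq a)
        have hb := mul_eq_one_iff_inv_eq.mp (hsq b)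
        have hab := mul_eq_one_iff_inv_eq.mp h
        rw [← hab, mul_inv_rev, ha, hb] }
  letI : Module (ZMod 2) (Additive (L ⧸ Z)) :=
    AddCommGroup.zmodModule fun v => by
      rw [two_nsmul]
      exact hsq v.toMul
  haveI : Module.Finite (ZMod 2) (Additive (L ⧸ Z)) := Module.Finite.of_finite
  have hfr : Module.finrank (ZMod 2) (Additive (L ⧸ Z)) = 3 := by
    have h := Module.natCard_eq_pow_finrank (K := ZMod 2) (V := Additive (L ⧸ Z))
    rw [show Nat.card (Additive (L ⧸ Z)) = 8 from hcardV, Nat.card_zmod] at h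
    exact ((Nat.pow_right_injective (le_refl 2)) (show 2 ^ 3 = 2 ^ _ from h)).symm
  let b := Module.finBasisOfFinrankEq (ZMod 2) (Additive (L ⧸ Z)) hfr
  have hmap : ∀ c : C, Z ≤ Z.comap (MulAut.conjNormal c : MulAut L).toMonoidHom := fun c x hx => by
    rw [Subgroup.mem_comap, hmemZ]
    show ((MulAut.conjNormal c x : L) : C) = 1 ∨ _
    rw [MulEquiv.coe_toMonoidHom, MulAut.conjNormal_apply]
    rcases (hmemZ x).mp hx with e | e <;> rw [e]
    · left; group
    · right; rw [hc c, mul_inv_cancel_right]
  let φ : C → (L ⧸ Z →* L ⧸ Z) := fun c =>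
    QuotientGroup.map Z Z (MulAut.conjNormal c : MulAut L).toMonoidHom (hmap c)
  have hφ : ∀ (c : C) (x : L), φ c x = ((MulAut.conjNormal c x : L) : L ⧸ Z) := fun c x => rfl
  let lin : C → (Additive (L ⧸ Z) →ₗ[ZMod 2] Additive (L ⧸ Z)) := fun c =>
    (MonoidHom.toAdditive (φ c)).toZModLinearMap 2
  have lmul : ∀ c d, lin (c * d) = lin c * lin d := fun c d => by
    refine LinearMap.ext fun v => ?_
    show Additive.ofMul (φ (c * d) v.toMul) = Additive.ofMul (φ c (φ d v.toMul))
    congr 1
    generalize v.toMul = w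
    induction w using QuotientGroup.induction_on with | H x =>
    rw [hφ, hφ, hφ, map_mul, MulAut.mul_apply]
  have lone : lin 1 = 1 := by
    refine LinearMap.ext fun v => ?_
    show Additive.ofMul (φ 1 v.toMul) = v
    generalize hw : v.toMul = w
    have hv : v = Additive.ofMul w := by rw [← hw]; rfl
    rw [hv]
    congr 1
    induction w using QuotientGroup.induction_on with | H x =>
    rw [hφ, map_one]
    rfl
  let M : C → Matrix (Fin 3) (Fin 3) (ZMod 2) := fun c => LinearMap.toMatrixAlgEquiv b (lin c)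
  have hdet : ∀ c, (M c).det = 1 := fun c => by
    have h : M c * M c⁻¹ = 1 := by
      show LinearMap.toMatrixAlgEquiv b (lin c) * LinearMap.toMatrixAlgEquiv b (lin c⁻¹) = 1
      rw [← map_mul, ← lmul, mul_inv_cancel, lone, map_one]
    have h2 := congrArg Matrix.det h
    rw [Matrix.det_mul, Matrix.det_one] at h2
    have key : ∀ x y : ZMod 2, x * y = 1 → x = 1 := by decide
    exact key _ _ h2
  let f : C →* Matrix.SpecialLinearGroup (Fin 3) (ZMod 2) :=
    MonoidHom.mk' (fun c => ⟨M c, hdet c⟩) fun c d => Subtype.ext (by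
      show LinearMap.toMatrixAlgEquiv b (lin (c * d)) = _
      rw [lmul, map_mul]
      rfl)
  have hfker : f.ker = Q := by
    ext c
    rw [MonoidHom.mem_ker, ← hker c]
    have e1 : f c = 1 ↔ lin c = 1 := by
      constructor
      · intro h
        apply (LinearMap.toMatrixAlgEquiv b).injective
        rw [map_one]
        exact congrArg Subtype.val h
      · intro h
        refine Subtype.ext ?_
        show LinearMap.toMatrixAlgEquiv b (lin c) = 1
        rw [h, map_one]
    rw [e1]
    constructor
    · intro h x hx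
      have h2 : φ c (⟨x, hx⟩ : L) = ((⟨x, hx⟩ : L) : L ⧸ Z) :=
        congrArg Additive.toMul (LinearMap.congr_fun h (Additive.ofMul (((⟨x, hx⟩ : L) : L ⧸ Z))))
      rw [hφ, QuotientGroup.eq, hmemZ] at h2
      rw [Subgroup.coe_mul, Subgroup.coe_inv, MulAut.conjNormal_apply] at h2
      rcases h2 with e | e
      · left; exact inv_mul_eq_one.mp e
      · right
        have e2 : x = c * x * c⁻¹ * z := (inv_mul_eq_iff_eq_mul.mp e)
        calc c * x * c⁻¹ = c * x * c⁻¹ * z * z := by rw [mul_assoc _ z z, hzz, mul_one]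
          _ = x * z := by rw [← e2]
    · intro h
      refine LinearMap.ext fun v => ?_
      show Additive.ofMul (φ c v.toMul) = v
      generalize hw : v.toMul = w
      have hv : v = Additive.ofMul w := by rw [← hw]; rfl
      rw [hv]
      congr 1
      induction w using QuotientGroup.induction_on with | H x =>
      rw [hφ, QuotientGroup.eq, hmemZ, Subgroup.coe_mul, Subgroup.coe_inv, MulAut.conjNormal_apply]
      rcases h x x.2 with e | e <;> rw [e]
      · left; exact inv_mul_cancel _
      · right
        rw [mul_inv_rev, inv_eq_of_mul_eq_one_right hzz, inv_eq_of_mul_eq_one_right (hel x x.2),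
          mul_assoc, hel x x.2, mul_one]
  have hsurj : Function.Surjective f := by
    rw [← MonoidHom.range_eq_top]
    refine Subgroup.eq_top_of_card_eq _ ?_
    have h1 : Nat.card f.range = Q.index := by
      rw [← Nat.card_congr (QuotientGroup.quotientKerEquivRange f).toEquiv, ← Subgroup.index_eq_card, hfker]
    have h2 := Subgroup.card_subgroup_dvd_card f.range
    rw [h1, CfsgLib.HeUnique.Struct.card_sl3] at h2
    obtain ⟨k, hk⟩ := h2
    have hk1 : k = 1 := by
      rcases Nat.lt_or_ge k 2 with h | h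
      · rcases Nat.eq_zero_or_pos k with h0 | h0
        · rw [h0, mul_zero] at hk; omega
        · omega
      · nlinarith
    rw [h1, CfsgLib.HeUnique.Struct.card_sl3, hk, hk1, mul_one]
  exact ⟨(QuotientGroup.quotientMulEquivOfEq hfker.symm).trans
    (QuotientGroup.quotientKerEquivOfSurjective f hsurj)⟩

/-- The situation from a standard fourfold cover. -/
theorem exists_ctx {G : Type u} [Group G] [Finite G] (L : Subgroup G) (hL : Cfsg.IsStandardSubgroup L)
    {F : Type*} [Field F] [Fintype F] (hF : Fintype.card F = 4)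
    (hLX : IsKleinFour ↥(Subgroup.center ↥L) ∧
      Nonempty (↥L ⧸ Subgroup.center ↥L ≃* Matrix.ProjectiveSpecialLinearGroup (Fin 3) F)) :
    ∃ c : Ctx G, c.L = L := by
  obtain ⟨hK, ⟨e⟩⟩ := hLX
  let σ : L →* PSL(3, F) := e.toMonoidHom.comp (QuotientGroup.mk' (Subgroup.center L))
  have hs : Function.Surjective σ := e.surjective.comp (QuotientGroup.mk'_surjective _)
  have hker : σ.ker = Subgroup.center L := by
    ext x
    simp [σ]
  have hk : ∀ z ∈ σ.ker, z * z = 1 := fun z hz => by
    rw [hker] at hz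
    have h : (⟨z, hz⟩ : Subgroup.center L) * ⟨z, hz⟩ = 1 := by
      rw [← pow_two]
      have h2 := Monoid.pow_exponent_eq_one (⟨z, hz⟩ : Subgroup.center L)
      rwa [hK.exponent_two] at h2
    exact congrArg Subtype.val h
  obtain ⟨d⟩ := exists_lData hF σ hs hker hk (by rw [hker]; exact hK.card_four) hL.1.1.commutator_eq_top
  exact ⟨⟨L, hL, d⟩, rfl⟩

end CfsgLib.HeStd
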