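import Cfsg.Agent.Lib.HeStd.Ctx

/-!
# The outer type of an element of the normaliser
-/

set_option autoImplicit false
set_option linter.style.haveILetI false
set_option linter.unusedSectionVars false

namespace CfsgLib.HeStd

universe u

/-- The outer type of a code. -/
def AK.out (k : AK) : Bool × Bool := (k.e, k.s)

/-- Addition of outer types. -/
def oadd (x y : Bool × Bool) : Bool × Bool := (xor x.1 y.1, xor x.2 y.2)

theorem readK_act : ∀ k : AK, k.p ≠ q0 → k.q ≠ q0 → readK (act k e₁) (act k e₂) (act k e₃) = k := by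
  decide +kernel

theorem readK_congr {f₁ f₂ f₃ g₁ g₂ g₃ : TC} (h1a : f₁.a = g₁.a) (h1b : f₁.b = g₁.b) (h2a : f₂.a = g₂.a)
    (h2b : f₂.b = g₂.b) (h3a : f₃.a = g₃.a) (h3b : f₃.b = g₃.b) : readK f₁ f₂ f₃ = readK g₁ g₂ g₃ := by
  simp only [readK, h1a, h1b, h2a, h2b, h3a, h3b]

theorem conj_ab (t x : TC) : (t * x * t⁻¹).a = x.a ∧ (t * x * t⁻¹).b = x.b := by
  simp only [mul_def, inv_def, tmul, tinv]
  constructor
  · generalize x.a = p
    generalize t.a = q
    revert p q
    decide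
  · generalize x.b = p
    generalize t.b = q
    revert p q
    decide

theorem out_act_comp : ∀ k k' : AK, k.p ≠ q0 → k.q ≠ q0 → k'.p ≠ q0 → k'.q ≠ q0 →
    (readK (act k (act k' e₁)) (act k (act k' e₂)) (act k (act k' e₃))).out = oadd k.out k'.out := by
  decide +kernel

namespace Ctx

variable {G : Type u} [Group G] (c : Ctx G)

/-- `k` describes the action of `n` on the Sylow subgroup. -/
def IsCode (n : G) (k : AK) : Prop :=
  k.p ≠ q0 ∧ k.q ≠ q0 ∧ ∃ t : TC, ∀ x, n * c.ι x * n⁻¹ = c.ι (t * act k x * t⁻¹)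

variable [Finite G]

theorem code_unique {n : G} {k k' : AK} (h : c.IsCode n k) (h' : c.IsCode n k') : k = k' := by
  obtain ⟨hp, hq, t, ht⟩ := h
  obtain ⟨hp', hq', t', ht'⟩ := h'
  have e : ∀ x, t * act k x * t⁻¹ = t' * act k' x * t'⁻¹ := fun x => c.inj ((ht x).symm.trans (ht' x))
  rw [← readK_act k hp hq, ← readK_act k' hp' hq']
  have a := fun x => congrArg TC.a (e x)
  have b := fun x => congrArg TC.b (e x)
  simp only [(conj_ab _ _).1, (conj_ab _ _).2] at a b
  exact readK_congr (a _) (b _) (a _) (b _) (a _) (b _)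

theorem exists_code {n : G} (hn : n ∈ c.NT) : ∃ k, c.IsCode n k := c.exists_model' hn

/-- The code of an element normalising the Sylow subgroup. -/
noncomputable def code (n : c.NT) : AK := (c.exists_code n.2).choose

theorem code_spec (n : c.NT) : c.IsCode n (c.code n) := (c.exists_code n.2).choose_spec

theorem code_eq {n : c.NT} {k : AK} (h : c.IsCode (n : G) k) : c.code n = k := c.code_unique (c.code_spec n) h

theorem out_mul (n m : c.NT) : (c.code (n * m)).out = oadd (c.code n).out (c.code m).out := by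
  obtain ⟨hp, hq, t, ht⟩ := c.code_spec n
  obtain ⟨hp', hq', t', ht'⟩ := c.code_spec m
  obtain ⟨hp'', hq'', t'', ht''⟩ := c.code_spec (n * m)
  have e : ∀ x, t'' * act (c.code (n * m)) x * t''⁻¹ =
      (t * act (c.code n) t') * act (c.code n) (act (c.code m) x) * (t * act (c.code n) t')⁻¹ := by
    intro x
    refine c.inj ((ht'' x).symm.trans ?_)
    show ((n : G) * m) * c.ι x * ((n : G) * m)⁻¹ = _
    rw [show ((n : G) * m) * c.ι x * ((n : G) * m)⁻¹ = (n : G) * ((m : G) * c.ι x * (m : G)⁻¹) * (n : G)⁻¹ by group,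
      ht', ht]
    congr 1
    rw [← actH_apply, map_mul, map_mul, map_inv, mul_inv_rev, actH_apply, actH_apply]
    group
  rw [← readK_act _ hp'' hq'', ← out_act_comp _ _ hp hq hp' hq']
  have a := fun x => congrArg TC.a (e x)
  have b := fun x => congrArg TC.b (e x)
  simp only [(conj_ab _ _).1, (conj_ab _ _).2] at a b
  exact congrArg AK.out (readK_congr (a _) (b _) (a _) (b _) (a _) (b _))

theorem code_ι (x : TC) : (c.code ⟨c.ι x, c.ι_mem_NT x⟩).out = (false, false) := by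
  have h : c.IsCode (c.ι x) ⟨q1, q1, false, false⟩ := by
    refine ⟨by decide, by decide, x, fun y => ?_⟩
    have hy : act ⟨q1, q1, false, false⟩ y = y := by
      have key : ∀ y : TC, act ⟨q1, q1, false, false⟩ y = y := by decide +kernel
      exact key y
    rw [hy, map_mul, map_mul, map_inv]
  rw [c.code_eq (n := ⟨c.ι x, c.ι_mem_NT x⟩) h]
  rfl

theorem out_pow (n : c.NT) : ∀ m : ℕ, Odd m → (c.code (n ^ m)).out = (c.code n).out := by
  have h2 : (c.code (n * n)).out = (false, false) := by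
    rw [out_mul]; simp [oadd]
  rintro m ⟨i, rfl⟩
  induction i with
  | zero => simp
  | succ i ih =>
    rw [show 2 * (i + 1) + 1 = (2 * i + 1) + 2 by ring, pow_add, out_mul, ih, pow_two, h2]
    simp [oadd]

/-- Elements of `L` have trivial outer type. -/
theorem out_L (n : c.NT) (hn : (n : G) ∈ c.L) : (c.code n).out = (false, false) := by
  set M : Subgroup c.L := Subgroup.normalizer (c.d.emb.range : Set c.L) with hM
  have hle : c.d.emb.range ≤ M := Subgroup.le_normalizer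
  set R := c.d.emb.range.subgroupOf M with hR
  haveI : R.Normal := Subgroup.normal_in_normalizer
  have hnM : (⟨n, hn⟩ : c.L) ∈ M := by
    refine Subgroup.mem_normalizer_iff.mpr fun t => ⟨?_, ?_⟩
    · rintro ⟨x, rfl⟩
      obtain ⟨y, hy⟩ := (Subgroup.mem_normalizer_iff.mp n.2.2 _).mp (c.ι_mem_T x)
      exact ⟨y, Subtype.ext hy⟩
    · rintro ⟨y, hy⟩
      obtain ⟨x, hx⟩ := (Subgroup.mem_normalizer_iff.mp n.2.2 (t : G)).mpr ⟨y, congrArg Subtype.val hy⟩
      exact ⟨x, Subtype.ext hx⟩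
  have hodd : Odd (Nat.card (M ⧸ R)) := by
    have h1 : c.d.emb.range.relIndex M * M.index = 315 := by
      rw [Subgroup.relIndex_mul_index hle, c.index_T]
    exact (show Odd 315 by decide).of_dvd_nat ⟨M.index, h1.symm⟩
  have hpow : (⟨⟨n, hn⟩, hnM⟩ : M) ^ Nat.card (M ⧸ R) ∈ R := by
    rw [← QuotientGroup.eq_one_iff, QuotientGroup.mk_pow, pow_card_eq_one']
  obtain ⟨x, hx⟩ := hpow
  have e : n ^ Nat.card (M ⧸ R) = ⟨c.ι x, c.ι_mem_NT x⟩ := Subtype.ext (by
    rw [Subgroup.coe_pow]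
    show _ = c.ι x
    rw [c.ι_def, hx]
    simp)
  rw [← c.out_pow n _ hodd, e, c.code_ι]

/-- A Frattini element. -/
noncomputable def nf (n : c.N) : c.NT :=
  ⟨(c.exists_frattini n.2).choose * n, (c.exists_frattini n.2).choose_spec.2⟩

/-- The outer type on the normaliser. -/
noncomputable def eps (n : c.N) : Bool × Bool := (c.code (c.nf n)).out

theorem eps_eq {n : c.N} {m : c.NT} (h : (m : G) * (n : G)⁻¹ ∈ c.L) : c.eps n = (c.code m).out := by
  obtain ⟨hl, -⟩ := (c.exists_frattini n.2).choose_spec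
  set l := (c.exists_frattini n.2).choose
  have hd : ((m * (c.nf n)⁻¹ : c.NT) : G) ∈ c.L := by
    show (m : G) * (l * n)⁻¹ ∈ c.L
    rw [mul_inv_rev, ← mul_assoc]
    exact c.L.mul_mem h (c.L.inv_mem hl)
  have e := c.out_mul (m * (c.nf n)⁻¹) (c.nf n)
  rw [inv_mul_cancel_right, c.out_L _ hd] at e
  rw [e]
  simp [eps, oadd]

theorem eps_NT {n : G} (hn : n ∈ c.NT) : c.eps ⟨n, hn.1⟩ = (c.code ⟨n, hn⟩).out :=
  c.eps_eq (by simp)

theorem eps_mul (a b : c.N) : c.eps (a * b) = oadd (c.eps a) (c.eps b) := by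
  obtain ⟨hla, -⟩ := (c.exists_frattini a.2).choose_spec
  obtain ⟨hlb, -⟩ := (c.exists_frattini b.2).choose_spec
  set la := (c.exists_frattini a.2).choose
  set lb := (c.exists_frattini b.2).choose
  rw [c.eps_eq (n := a * b) (m := c.nf a * c.nf b), c.out_mul]
  · rfl
  · show la * a * (lb * b) * ((a : G) * b)⁻¹ ∈ c.L
    rw [show la * a * (lb * b) * ((a : G) * b)⁻¹ = la * ((a : G) * lb * (a : G)⁻¹) by group]
    exact c.L.mul_mem hla (c.conj_L a.2 hlb)

theorem eps_L {n : c.N} (hn : (n : G) ∈ c.L) : c.eps n = (false, false) := by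
  rw [c.eps_eq (m := 1) (by simpa using c.L.inv_mem hn)]
  exact c.out_L 1 c.L.one_mem

theorem eps_K {n : c.N} (hn : (n : G) ∈ c.K) : c.eps n = (false, false) := by
  have hNT : (n : G) ∈ c.NT := ⟨n.2, Subgroup.mem_normalizer_iff.mpr fun t => by
    constructor
    · rintro ⟨x, rfl⟩
      exact ⟨x, by rw [← c.comm_K hn, mul_inv_cancel_right]⟩
    · rintro ⟨x, hx⟩
      exact ⟨x, by
        calc c.ι x = (n : G)⁻¹ * (c.ι x * n) := by rw [c.comm_K hn, inv_mul_cancel_left]
          _ = t := by rw [hx]; group⟩⟩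
  have h : c.IsCode (n : G) ⟨q1, q1, false, false⟩ := by
    refine ⟨by decide, by decide, 1, fun y => ?_⟩
    have key : ∀ y : TC, act ⟨q1, q1, false, false⟩ y = y := by decide +kernel
    rw [key, one_mul, inv_one, mul_one, ← c.comm_K hn, mul_inv_cancel_right]
  show c.eps ⟨(n : G), hNT.1⟩ = _
  rw [c.eps_NT hNT, c.code_eq (n := ⟨(n : G), hNT⟩) h]
  rfl

theorem code_sq_two {n : c.NT} : ∀ j : ℕ, (n : G) ^ (2 ^ j) = 1 → (c.code n).out = (false, false) →
    (c.code n).p = q1 ∧ (c.code n).q = q1 := by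
  intro j
  induction j generalizing n with
  | zero =>
    intro h _
    have e : n = 1 := Subtype.ext (by simpa using h)
    have h1 : c.IsCode ((1 : c.NT) : G) ⟨q1, q1, false, false⟩ := by
      refine ⟨by decide, by decide, 1, fun y => ?_⟩
      have key : ∀ y : TC, act ⟨q1, q1, false, false⟩ y = y := by decide +kernel
      simp [key]
    subst e
    rw [c.code_eq h1]
    exact ⟨rfl, rfl⟩
  | succ j ih =>
    intro h ho
    have ho2 : (c.code (n * n)).out = (false, false) := by rw [out_mul, ho]; rfl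
    obtain ⟨h1, h2⟩ := ih (n := n * n) (by
      rw [Subgroup.coe_mul, ← pow_two, ← pow_mul, ← pow_succ']; exact h) ho2
    obtain ⟨hp, hq, t, ht⟩ := c.code_spec n
    have hc : c.IsCode ((n * n : c.NT) : G) ⟨qsq (c.code n).p, qsq (c.code n).q, false, false⟩ := by
      have key : ∀ k : AK, k.out = (false, false) → ∀ y : TC,
          act k (act k y) = act ⟨qsq k.p, qsq k.q, false, false⟩ y := by decide +kernel
      refine ⟨?_, ?_, t * act (c.code n) t, fun y => ?_⟩
      · exact (show ∀ p : Q4, p ≠ q0 → qsq p ≠ q0 by decide) _ hp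
      · exact (show ∀ p : Q4, p ≠ q0 → qsq p ≠ q0 by decide) _ hq
      · show ((n : G) * n) * c.ι y * ((n : G) * n)⁻¹ = _
        rw [show ((n : G) * n) * c.ι y * ((n : G) * n)⁻¹ = (n : G) * ((n : G) * c.ι y * (n : G)⁻¹) * (n : G)⁻¹ by
          group, ht, ht, ← key _ ho]
        congr 1
        rw [← actH_apply, map_mul, map_mul, map_inv, mul_inv_rev, actH_apply, actH_apply]
        group
    rw [c.code_eq hc] at h1 h2
    revert h1 h2
    generalize (c.code n).p = p
    generalize (c.code n).q = q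
    revert p q
    decide

/-- A 2-element of trivial outer type is inner. -/
theorem mem_TK {n : c.NT} {j : ℕ} (hj : (n : G) ^ (2 ^ j) = 1) (ho : (c.code n).out = (false, false)) :
    ∃ x : TC, (c.ι x)⁻¹ * n ∈ c.K := by
  obtain ⟨h1, h2⟩ := c.code_sq_two j hj ho
  obtain ⟨-, -, t, ht⟩ := c.code_spec n
  have key : ∀ k : AK, k.out = (false, false) → k.p = q1 → k.q = q1 → ∀ y : TC, act k y = y := by
    decide +kernel
  have hc : ∀ y, ((c.ι t)⁻¹ * n) * c.ι y = c.ι y * ((c.ι t)⁻¹ * n) := by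
    intro y
    have := ht y
    rw [key _ ho h1 h2, map_mul, map_mul, map_inv] at this
    calc (c.ι t)⁻¹ * n * c.ι y = (c.ι t)⁻¹ * ((n : G) * c.ι y * (n : G)⁻¹) * n := by group
      _ = _ := by rw [this]; group
  obtain ⟨cc, hcc⟩ := c.kernel (c.N.mul_mem (c.N.inv_mem (c.ι_mem_N t)) n.2.1) hc
  exact ⟨t * (zc cc q0)⁻¹, by
    rw [map_mul, map_inv, mul_inv_rev, inv_inv, mul_assoc]; exact hcc⟩

/-- A 2-subgroup of the normaliser normalises a Sylow subgroup of `L`. -/
theorem exists_conj_NT {P : Subgroup G} (hP : IsPGroup 2 P) (hPN : P ≤ c.N) :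
    ∃ l ∈ c.L, ∀ x ∈ P, l * x * l⁻¹ ∈ c.NT := by
  haveI : Fact (Nat.Prime 2) := ⟨Nat.prime_two⟩
  have hT : IsPGroup 2 c.T := IsPGroup.of_card (p := 2) (n := 8) (by
    show Nat.card c.ι.range = _
    rw [← Nat.card_congr (MonoidHom.ofInjective c.inj).toEquiv, card_TC]; norm_num)
  have hTN : c.T ≤ c.N := c.T_le_L.trans c.L_le_N
  obtain ⟨S, hS⟩ := (show IsPGroup 2 (c.T.subgroupOf c.N) from hT.comap_subtype).exists_le_sylow
  obtain ⟨S', hS'⟩ := (show IsPGroup 2 (P.subgroupOf c.N) from hP.comap_subtype).exists_le_sylow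
  obtain ⟨m, hm⟩ := MulAction.exists_smul_eq c.N S' S
  have hSNT : ∀ s ∈ (S : Subgroup c.N), (s : G) ∈ c.NT := by
    intro s hs
    refine ⟨s.2, ?_⟩
    set J := ((S : Subgroup c.N).map c.N.subtype) ⊓ c.L
    have hJ : J = c.T := by
      refine le_antisymm (fun g hg => ?_) (le_inf (fun t ht => ?_) c.T_le_L)
      · have hJ2 : IsPGroup 2 (J.subgroupOf c.L) :=
          ((S.2.map c.N.subtype).to_le inf_le_left).comap_subtype
        have h1 : (c.sylT : Subgroup c.L) ≤ J.subgroupOf c.L := by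
          rintro _ ⟨x, rfl⟩
          exact ⟨⟨⟨c.ι x, c.ι_mem_N x⟩, hS ⟨x, rfl⟩, rfl⟩, c.ι_mem_L x⟩
        have h2 := c.sylT.3 hJ2 h1
        have h3 : (⟨g, hg.2⟩ : c.L) ∈ (c.sylT : Subgroup c.L) := h2 ▸ hg
        obtain ⟨x, hx⟩ := h3
        exact ⟨x, congrArg Subtype.val hx⟩
      · exact ⟨⟨t, hTN ht⟩, hS ht, rfl⟩
    rw [← hJ]
    have hfw : ∀ u ∈ (S : Subgroup c.N), ∀ t ∈ J, (u : G) * t * (u : G)⁻¹ ∈ J := by
      rintro u hu t ⟨⟨t', ht', rfl⟩, htL⟩
      exact ⟨⟨u * t' * u⁻¹, mul_mem (mul_mem hu ht') (inv_mem hu), rfl⟩, c.conj_L u.2 htL⟩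
    refine Subgroup.mem_normalizer_iff.mpr fun t => ⟨fun ht => hfw s hs t ht, fun ht => ?_⟩
    have := hfw s⁻¹ (inv_mem hs) _ ht
    simpa [mul_assoc] using this
  obtain ⟨l, hl, hlm⟩ := c.exists_frattini m.2
  refine ⟨(l * (m : G))⁻¹ * m, ?_, fun x hx => ?_⟩
  · rw [mul_inv_rev]
    simpa using c.conj_L (c.N.inv_mem m.2) (c.L.inv_mem hl)
  · have h1 : (⟨x, hPN hx⟩ : c.N) ∈ (S' : Subgroup c.N) := hS' hx
    have h2 : m * ⟨x, hPN hx⟩ * m⁻¹ ∈ ((m • S' : Sylow 2 c.N) : Subgroup c.N) := by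
      rw [Sylow.coe_subgroup_smul]; exact ⟨_, h1, rfl⟩
    rw [hm] at h2
    have h3 : (m : G) * x * (m : G)⁻¹ ∈ c.NT := hSNT _ h2
    rw [show (l * (m : G))⁻¹ * m * x * ((l * (m : G))⁻¹ * m)⁻¹ =
      (l * (m : G))⁻¹ * ((m : G) * x * (m : G)⁻¹) * (l * (m : G)) by group]
    exact c.NT.mul_mem (c.NT.mul_mem (c.NT.inv_mem hlm) h3) hlm

end Ctx

end CfsgLib.HeStd
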