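import Cfsg.Agent.Lib.Golay.Classes.FreeCentralizer
import Cfsg.Agent.Lib.Golay.Classes.Three
import Cfsg.Agent.Lib.HePres.CentMat
import Cfsg.Agent.S3179
import Cfsg.Agent.S0366

/-!
Neither M24 nor SL(5,2) has an involution whose centraliser order is divisible by 5 and 7, resp. by 5.
-/

set_option autoImplicit false
set_option maxRecDepth 8000
set_option linter.style.haveILetI false

namespace CfsgLib.HeStd

open Cfsg CfsgLib.Golay CfsgLib.Golay.Classes
open scoped Pointwise

/-- An invariant set and its fixed points agree modulo the prime order of the element. -/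
theorem set_mod_fix {G X : Type*} [Group G] [MulAction G X] [Finite X] {p : ℕ} (hp : p.Prime) {g : G}
    (hg : orderOf g = p) (S : Set X) (hS : ∀ x ∈ S, g • x ∈ S) :
    S.ncard ≡ (S ∩ {x | g • x = x}).ncard [MOD p] := by
  classical
  haveI := Fact.mk hp
  letI : Fintype S := Fintype.ofFinite S
  let f : Function.End S := fun x => ⟨g • (x : X), hS x x.2⟩
  have hfn : ∀ n : ℕ, ∀ x : S, (((f ^ n) x : S) : X) = g ^ n • (x : X) := by
    intro n
    induction n with
    | zero => intro x; simp; rfl
    | succ n ih =>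
      intro x
      rw [pow_succ']
      show g • (((f ^ n) x : S) : X) = _
      rw [ih, pow_succ', mul_smul]
  have h := Equiv.Perm.card_fixedPoints_modEq (α := S) (f := f) (p := p) (n := 1) (by
    funext x; refine Subtype.ext ?_
    rw [pow_one, hfn, ← hg, pow_orderOf_eq_one, one_smul]; rfl)
  simp only [← Nat.card_eq_fintype_card] at h
  rw [Nat.card_coe_set_eq] at h
  have e : Nat.card (Function.fixedPoints f) = (S ∩ {x | g • x = x}).ncard := by
    rw [← Nat.card_coe_set_eq]
    exact Nat.card_congr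
      { toFun := fun x => ⟨x.1.1, x.1.2, congrArg Subtype.val x.2⟩
        invFun := fun x => ⟨⟨x.1, x.2.1⟩, Subtype.ext x.2.2⟩
        left_inv := fun _ => rfl
        right_inv := fun _ => rfl }
  rwa [e] at h

theorem five_fix_le (b : M24) (hb : orderOf b = 5) :
    (fixSet (b : Equiv.Perm GolayPt)).card ≤ 4 := by
  classical
  by_contra hlt
  obtain ⟨t, hts, ht⟩ := Finset.exists_subset_card_eq
    (show 5 ≤ (fixSet (b : Equiv.Perm GolayPt)).card by omega)
  let x : Fin 5 ↪ GolayPt :=
    ((finCongr ht.symm).trans t.equivFin.symm).toEmbedding.trans (Function.Embedding.subtype _)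
  have hx : b ∈ MulAction.stabilizer M24 x := by
    refine MulAction.mem_stabilizer_iff.2 (DFunLike.ext _ _ fun i => ?_)
    exact mem_fixSet.1 (hts ((finCongr ht.symm).trans t.equivFin.symm i).2)
  have h1 := (MulAction.stabilizer M24 x).card_mul_index
  have h2 : (MulAction.stabilizer M24 x).index = Nat.card (Fin 5 ↪ GolayPt) :=
    by
    rw [MulAction.index_stabilizer, ← Set.ncard_univ]
    congr 1
    refine Set.eq_univ_of_forall fun y => ?_
    obtain ⟨g, hg⟩ := MulAction.isMultiplyPretransitive_iff.1 Cfsg.Agent.S0366.result x y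
    exact ⟨g, hg⟩
  have hN : Nat.card (Fin 5 ↪ GolayPt) = 5100480 := by
    rw [Nat.card_eq_fintype_card, Fintype.card_embedding_eq]
    decide +kernel
  rw [h2, hN, Cfsg.Agent.S5170.hcard] at h1
  have h48 : Nat.card (MulAction.stabilizer M24 x) = 48 := by omega
  have h5 := Subgroup.orderOf_dvd_natCard _ hx
  rw [hb, h48] at h5
  norm_num at h5

/-- In M24 no involution commutes with elements of orders 7 and 5. -/
theorem no_seven_five_M24 : ∀ s a b : Cfsg.M24, orderOf s = 2 → orderOf a = 7 → orderOf b = 5 →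
    Commute s a → Commute s b → False := by
  classical
  intro s a b hs ha hb hsa hsb
  have ho : orderOf (s : Equiv.Perm GolayPt) = 2 := (Subgroup.orderOf_coe s).trans hs
  rcases fixSet_two s.2 ho with h8 | h0
  swap
  · obtain ⟨hC, -, -⟩ := free_centralizer s.2 ho h0
    let C := Subgroup.centralizer ({s} : Set M24)
    have hC' : Nat.card C = 7680 := by
      rw [← hC]
      refine Nat.card_congr
        { toFun := fun c => ⟨((c : M24) : Equiv.Perm GolayPt), (c : M24).2,
            congrArg Subtype.val (Subgroup.mem_centralizer_singleton_iff.1 c.2)⟩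
          invFun := fun c => ⟨⟨c.1, c.2.1⟩, Subgroup.mem_centralizer_singleton_iff.2 (Subtype.ext c.2.2)⟩
          left_inv := fun c => rfl
          right_inv := fun c => rfl }
    have hd := Subgroup.orderOf_dvd_natCard C (Subgroup.mem_centralizer_singleton_iff.2 hsa.eq.symm)
    rw [ha, hC'] at hd
    norm_num at hd
  set F := fixSet (s : Equiv.Perm GolayPt) with hF
  set B := fixSet (b : Equiv.Perm GolayPt) with hB
  haveI : Fact (Nat.Prime 5) := ⟨Nat.prime_five⟩
  have hsb' : ∀ p, (s : Equiv.Perm GolayPt) ((b : Equiv.Perm GolayPt) p) =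
      (b : Equiv.Perm GolayPt) ((s : Equiv.Perm GolayPt) p) := fun p =>
    DFunLike.congr_fun (congrArg (fun g : M24 => (g : Equiv.Perm GolayPt)) hsb.eq) p
  have hBall : B.card = 4 := by
    have h := set_mod_fix (X := GolayPt) Nat.prime_five hb Set.univ fun x _ => Set.mem_univ _
    have e : (Set.univ ∩ {x | b • x = x}) = (B : Set GolayPt) := by
      ext x
      simp only [Set.univ_inter, Set.mem_setOf_eq, Finset.mem_coe, hB, mem_fixSet]
      rfl
    rw [e, Set.ncard_univ, Set.ncard_coe_finset, Nat.card_eq_fintype_card,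
      show Fintype.card GolayPt = 24 by rfl] at h
    have hle : B.card ≤ 4 := five_fix_le b hb
    have h' : 24 % 5 = B.card % 5 := h
    omega
  -- the 5-element on the fixed points of the involution
  have hFB : 8 % 5 = (F ∩ B).card % 5 := by
    have h := set_mod_fix (X := GolayPt) Nat.prime_five hb (F : Set GolayPt) fun x hx => by
      rw [Finset.mem_coe, hF, mem_fixSet] at hx ⊢
      show (s : Equiv.Perm GolayPt) ((b : Equiv.Perm GolayPt) x) = (b : Equiv.Perm GolayPt) x
      rw [hsb', hx]
    have e : ((F : Set GolayPt) ∩ {x | b • x = x}) = ((F ∩ B : Finset GolayPt) : Set GolayPt) := by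
      ext x
      simp only [Set.mem_inter_iff, Set.mem_setOf_eq, Finset.coe_inter, Finset.mem_coe, hB, mem_fixSet]
      rfl
    rw [e, Set.ncard_coe_finset, Set.ncard_coe_finset, h8] at h
    exact h
  have hle : (F ∩ B).card ≤ B.card := Finset.card_le_card Finset.inter_subset_right
  -- the involution permutes the fixed points of the 5-element
  have hsdiff : (B \ F).card ≠ 1 := by
    intro h1
    obtain ⟨y, hy⟩ := Finset.card_eq_one.1 h1
    have hyB : y ∈ B ∧ y ∉ F := by
      rw [← Finset.mem_sdiff, hy]; exact Finset.mem_singleton_self y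
    have hsy : (s : Equiv.Perm GolayPt) y ∈ B \ F := by
      refine Finset.mem_sdiff.2 ⟨mem_fixSet.2 ?_, fun h => hyB.2 ?_⟩
      · rw [← hsb', mem_fixSet.1 hyB.1]
      · have h' := (s : Equiv.Perm GolayPt).injective (mem_fixSet.1 h)
        exact mem_fixSet.2 h'
    rw [hy, Finset.mem_singleton] at hsy
    exact hyB.2 (mem_fixSet.2 hsy)
  have hsum := Finset.card_sdiff_add_card_inter B F
  rw [Finset.inter_comm] at hsum
  omega

/-- a matrix of order five -/
def mR : Matrix (Fin 5) (Fin 5) (ZMod 2) :=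
  Matrix.of ![![0, 0, 0, 1, 0], ![1, 0, 0, 1, 0], ![0, 1, 0, 1, 0], ![0, 0, 1, 1, 0], ![0, 0, 0, 0, 1]]

theorem mR_five : mR * (mR * mR * mR * mR) = 1 ∧ (mR * mR * mR * mR) * mR = 1 ∧ mR ≠ 1 := by
  decide +kernel

/-- as a unit -/
def uR : (Matrix (Fin 5) (Fin 5) (ZMod 2))ˣ := ⟨mR, mR * mR * mR * mR, mR_five.1, mR_five.2.1⟩

/-- the matrix commuting with `mR` with given first and last column -/
def colMat (v w : Fin 5 → ZMod 2) : Matrix (Fin 5) (Fin 5) (ZMod 2) :=
  Matrix.of fun i j => ![v i, mR.mulVec v i, mR.mulVec (mR.mulVec v) i,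
    mR.mulVec (mR.mulVec (mR.mulVec v)) i, w i] j

theorem fix_vec : ∀ w : Fin 5 → ZMod 2, mR.mulVec w = w → w = 0 ∨ w = ![0, 0, 0, 0, 1] := by
  decide +kernel

theorem col_check : ∀ v : Fin 5 → ZMod 2,
    (colMat v 0 * mR = mR * colMat v 0 → colMat v 0 * colMat v 0 = 1 → colMat v 0 = 1) ∧
      (colMat v ![0, 0, 0, 0, 1] * mR = mR * colMat v ![0, 0, 0, 0, 1] →
        colMat v ![0, 0, 0, 0, 1] * colMat v ![0, 0, 0, 0, 1] = 1 → colMat v ![0, 0, 0, 0, 1] = 1) := by
  decide +kernel

theorem only_one {N : Matrix (Fin 5) (Fin 5) (ZMod 2)} (hc : N * mR = mR * N) (h2 : N * N = 1) : N = 1 := by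
  have hcol : ∀ i j, (mR.mulVec fun k => N k j) i = (N * mR) i j := fun i j => by
    rw [hc]; rfl
  have h1 : ∀ i, N i 1 = mR.mulVec (fun k => N k 0) i := fun i => by
    rw [hcol]; simp [Matrix.mul_apply, Fin.sum_univ_five, mR]
  have h2' : ∀ i, N i 2 = mR.mulVec (fun k => N k 1) i := fun i => by
    rw [hcol]; simp [Matrix.mul_apply, Fin.sum_univ_five, mR]
  have h3 : ∀ i, N i 3 = mR.mulVec (fun k => N k 2) i := fun i => by
    rw [hcol]; simp [Matrix.mul_apply, Fin.sum_univ_five, mR]
  have h4 : mR.mulVec (fun k => N k 4) = fun k => N k 4 := funext fun i => by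
    rw [hcol]; simp [Matrix.mul_apply, Fin.sum_univ_five, mR]
  have e1 : (fun k => N k 1) = mR.mulVec fun k => N k 0 := funext h1
  have e2 : (fun k => N k 2) = mR.mulVec (mR.mulVec fun k => N k 0) := by
    rw [← e1]; exact funext h2'
  have hN : N = colMat (fun k => N k 0) (fun k => N k 4) := by
    ext i j
    fin_cases j
    · rfl
    · exact h1 i
    · exact congrFun e2 i
    · show N i 3 = mR.mulVec (mR.mulVec (mR.mulVec fun k => N k 0)) i
      rw [← e2]; exact h3 i
    · rfl
  rcases fix_vec _ h4 with e | e <;> rw [e] at hN <;> rw [hN] at h2 hc ⊢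
  · exact (col_check _).1 hc h2
  · exact (col_check _).2 hc h2

/-- No involution of SL(5,2) commutes with an element of order 5. -/
theorem no_five_SL52 : ∀ s b : CfsgLib.HePres.SL52, orderOf s = 2 → orderOf b = 5 → Commute s b → False := by
  intro s b hs hb hsb
  haveI : Fact (Nat.Prime 5) := ⟨Nat.prime_five⟩
  set f : CfsgLib.HePres.SL52 →* (Matrix (Fin 5) (Fin 5) (ZMod 2))ˣ := Matrix.SpecialLinearGroup.toGL with hf
  have hinj : Function.Injective f := fun x y h => Subtype.ext (congrArg Units.val h)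
  have ho : orderOf uR = 5 := by
    refine orderOf_eq_prime (Units.ext ?_) fun h => mR_five.2.2 (congrArg Units.val h)
    rw [Units.val_pow_eq_pow_val, Units.val_one, show ((uR : (Matrix (Fin 5) (Fin 5) (ZMod 2))ˣ) :
      Matrix (Fin 5) (Fin 5) (ZMod 2)) = mR from rfl, pow_succ', show mR ^ 4 = mR * mR * mR * mR by
      simp [pow_succ]]
    exact mR_five.1
  have hidx : ¬ 5 ∣ (Subgroup.zpowers uR).index := by
    have h := (Subgroup.zpowers uR).card_mul_index
    rw [Nat.card_zpowers, ho, Cfsg.Agent.S3179.card_G5] at h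
    omega
  have hP : IsPGroup 5 (Subgroup.zpowers uR) :=
    IsPGroup.of_card (n := 1) (by rw [Nat.card_zpowers, ho, pow_one])
  have hfb : orderOf (f b) = 5 := by rw [orderOf_injective f hinj, hb]
  have hQ : IsPGroup 5 (Subgroup.zpowers (f b)) :=
    IsPGroup.of_card (n := 1) (by rw [Nat.card_zpowers, hfb, pow_one])
  obtain ⟨S, hS⟩ := hQ.exists_le_sylow
  obtain ⟨c, hc⟩ := MulAction.exists_smul_eq (Matrix (Fin 5) (Fin 5) (ZMod 2))ˣ S (hP.toSylow hidx)
  have hmem : c * f b * c⁻¹ ∈ Subgroup.zpowers uR := by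
    have h : MulAut.conj c (f b) ∈ ((c • S : Sylow 5 _) : Subgroup _) := by
      rw [Sylow.coe_subgroup_smul]
      exact Subgroup.smul_mem_pointwise_smul _ (MulAut.conj c) _ (hS (Subgroup.mem_zpowers _))
    rw [hc] at h
    exact h
  have heq : Subgroup.zpowers (c * f b * c⁻¹) = Subgroup.zpowers uR := by
    refine Subgroup.eq_of_le_of_card_ge (Subgroup.zpowers_le.2 hmem) (le_of_eq ?_)
    rw [Nat.card_zpowers, Nat.card_zpowers, ho, ← MulAut.conj_apply, MulEquiv.orderOf_eq, hfb]
  obtain ⟨k, hk⟩ := Subgroup.mem_zpowers_iff.1 (heq ▸ Subgroup.mem_zpowers uR)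
  have hcs : Commute (c * f s * c⁻¹) (c * f b * c⁻¹) := (hsb.map f).map (MulAut.conj c)
  have hR : Commute (c * f s * c⁻¹) uR := by rw [← hk]; exact hcs.zpow_right k
  have hN2 : (c * f s * c⁻¹) * (c * f s * c⁻¹) = 1 := by
    rw [show c * f s * c⁻¹ * (c * f s * c⁻¹) = c * (f s * f s) * c⁻¹ by group, ← map_mul,
      show s * s = 1 by
        have h := pow_orderOf_eq_one s
        rwa [hs, pow_two] at h, map_one]
    group
  have hone : c * f s * c⁻¹ = 1 :=
    Units.ext (only_one (congrArg Units.val hR.eq) (congrArg Units.val hN2))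
  have : s = 1 := hinj (by rw [conj_eq_one_iff.1 hone, map_one])
  rw [this, orderOf_one] at hs
  omega

end CfsgLib.HeStd
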