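import Cfsg.Agent.Lib.HeStd.DTriv
import Cfsg.Agent.Lib.HeStd.Exclude
import Cfsg.Agent.Lib.HeStd.EndAbs
import Cfsg.Agent.Lib.HeUnique.Struct.SetupMany
import Cfsg.Agent.Lib.HeUnique.End.Trichotomy

/-!
# From the centraliser `2^(1+6).L(3,2)` of `z` to the Held group
-/

set_option autoImplicit false
set_option linter.style.haveILetI false
set_option linter.unusedSectionVars false

namespace CfsgLib.HeStd

universe u

theorem pureInv_card : 16 < pureInv.toFinset.card := by decide +kernel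

namespace Ctx

variable {G : Type u} [Group G] {c : Ctx G} [Finite G] [IsSimpleGroup G]

/-- More than sixteen conjugates of `z` commute with it. -/
theorem many_conj : 16 < {y : G | IsConj c.zg y ∧ y * c.zg = c.zg * y}.ncard := by
  classical
  have hsub : ((pureInv.toFinset.image c.ι : Finset G) : Set G) ⊆
      {y : G | IsConj c.zg y ∧ y * c.zg = c.zg * y} := by
    intro y hy
    obtain ⟨e, he, rfl⟩ := Finset.mem_image.mp (Finset.mem_coe.mp hy)
    have he' := List.mem_toFinset.mp he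
    simp only [pureInv, List.mem_filter, Bool.and_eq_true, decide_eq_true_eq, Bool.not_eq_true',
      decide_eq_false_iff_not] at he'
    obtain ⟨-, ⟨h2, hF⟩, h1⟩ := he'
    obtain ⟨n, -, hn⟩ := inner_to_z (c := c) h2 h1 hF
    refine ⟨isConj_iff.mpr ⟨n⁻¹, by rw [← hn]; group⟩, ?_⟩
    rw [zg, ← map_mul, ← map_mul]
    exact congrArg c.ι (zc_comm q1 q1 e)
  refine lt_of_lt_of_le ?_ (Set.ncard_le_ncard hsub (Set.toFinite _))
  rw [Set.ncard_coe_finset, Finset.card_image_of_injective _ c.inj]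
  exact pureInv_card

/-- The Held group from the structure of the centraliser of `z`. -/
theorem isoHe_of_centralizer (Q : Subgroup (Subgroup.centralizer ({c.zg} : Set G))) [Q.Normal]
    (hQ : Cfsg.IsExtraspecial 2 Q) (hcard : Nat.card Q = 2 ^ 7)
    (h2c : Subgroup.centralizer (Q : Set (Subgroup.centralizer ({c.zg} : Set G))) ≤ Q)
    (e : Nonempty ((Subgroup.centralizer ({c.zg} : Set G)) ⧸ Q ≃*
      Matrix.SpecialLinearGroup (Fin 3) (ZMod 2))) : Cfsg.Spor.IsoHe G := by
  obtain ⟨e⟩ := e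
  have hz1 : c.zg ≠ 1 := fun h => by
    rw [zg, ← map_one c.ι] at h
    exact absurd (c.inj h) (by decide +kernel)
  obtain ⟨ι, R⟩ := CfsgLib.HeUnique.Struct.exists_rep_many c.zg (orderOf_invol zg_sq hz1) _ rfl Q hQ hcard
    h2c e many_conj
  have hv : q1 ≠ q0 := by decide
  have hord : orderOf (c.vg q1) = 2 := vg_invol hv
  have hex : ∀ p : ℕ, p.Prime → p ∣ 80640 → ∃ g : G, orderOf g = p ∧ Commute (c.vg q1) g := by
    intro p hp hdvd
    haveI := Fact.mk hp
    obtain ⟨g, hg⟩ := exists_prime_orderOf_dvd_card' (G := c.L) p (by rw [c.d.card_X]; exact hdvd)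
    exact ⟨g, (Subgroup.orderOf_coe g).trans hg, (c.mem_K.mp (c.vg_mem_K q1) g g.2).symm⟩
  obtain ⟨a, ha, hca⟩ := hex 7 (by norm_num) (by norm_num)
  obtain ⟨b, hb, hcb⟩ := hex 5 Nat.prime_five (by norm_num)
  rcases CfsgLib.HeUnique.simple_three_way R with ⟨⟨φ⟩⟩ | ⟨⟨φ⟩⟩ | h
  · exact absurd (hcb.map φ.toMonoidHom) fun h =>
      no_five_SL52 _ _ ((φ.orderOf_eq _).trans hord) ((φ.orderOf_eq _).trans hb) h
  · exact (no_seven_five_M24 _ _ _ ((φ.orderOf_eq _).trans hord) ((φ.orderOf_eq _).trans ha)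
      ((φ.orderOf_eq _).trans hb) (hca.map φ.toMonoidHom) (hcb.map φ.toMonoidHom)).elim
  · exact h

end Ctx

end CfsgLib.HeStd
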