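import Cfsg.Agent.Lib.HeStd.Gam
import Cfsg.Agent.Lib.HeStd.ConnDec

/-!
# Fused involutions commuting with `z` whose frame sees `z` inner
-/

set_option autoImplicit false
set_option linter.style.haveILetI false
set_option linter.unusedSectionVars false

namespace CfsgLib.HeStd

universe u

theorem oadd_self_zero : ∀ a : Bool × Bool, oadd a a = (false, false) := by decide

namespace Ctx

variable {G : Type u} [Group G]

/-- A fused involution commuting with `z`. -/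
def InX (c : Ctx G) (x : G) : Prop := c.Fus x ∧ x * c.zg = c.zg * x

/-- An element of the centraliser of `z` carrying `x` into `V`. -/
def Gz (c : Ctx G) (x : G) : Prop :=
  ∃ n, n * c.zg * n⁻¹ = c.zg ∧ ∃ j, j ≠ q0 ∧ n * x * n⁻¹ = c.vg j

variable {c : Ctx G} [Finite G]

theorem Gz.fus {x : G} (h : c.Gz x) : c.Fus x := by
  obtain ⟨n, -, j, hj, e⟩ := h
  exact ⟨n⁻¹, c.vg j, c.vg_mem_K j, vg_invol hj, by rw [← e]; group⟩

theorem zg_vg (j : Q4) : c.vg j * c.zg = c.zg * c.vg j := (c.vg_comm_ι j _).symm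

theorem zg_mem_N : c.zg ∈ c.N := c.ι_mem_N _

theorem zg_sq : c.zg * c.zg = 1 := by
  rw [zg, ← map_mul, show zz * zz = (1 : TC) by decide +kernel, map_one]

variable [IsSimpleGroup G]

theorem orderOf_invol {x : G} (h2 : x * x = 1) (h1 : x ≠ 1) : orderOf x = 2 := by
  haveI : Fact (Nat.Prime 2) := ⟨Nat.prime_two⟩
  exact orderOf_eq_prime (by rw [pow_two]; exact h2) h1

theorem invol_inner {n : G} (hn : n ∈ c.NT) (h2 : n * n = 1)
    (ho : (c.code ⟨n, hn⟩).out = (false, false)) : ∃ u, n = c.ι u := by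
  obtain ⟨u, hu⟩ := c.mem_TK (n := ⟨n, hn⟩) (j := 1) (by rw [pow_one, pow_two]; exact h2) ho
  set k := (c.ι u)⁻¹ * n with hk
  have e : n = c.ι u * k := (mul_inv_cancel_left _ _).symm
  clear_value k
  have hcomm : Commute (c.ι u) k := c.comm_K hu u
  have h4 : k ^ 2 ^ 2 = 1 := by
    have h : n ^ 2 ^ 2 = 1 := by rw [show (2 : ℕ) ^ 2 = 2 * 2 from rfl, pow_mul, pow_two n, h2, one_pow]
    rwa [e, hcomm.mul_pow, ← map_pow, pow_four, map_one, one_mul] at h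
  obtain ⟨v, rfl⟩ := K_two hu h4
  exact ⟨u * zc q0 v, by rw [e]; exact (map_mul c.ι u _).symm⟩

/-- An involution fused from a frame in which `z` is inner. -/
theorem gz_of_inner {g r : G} (hr : r ∈ c.K) (hr2 : orderOf r = 2) (hN : g⁻¹ * c.zg * g ∈ c.N)
    (he : c.eps ⟨_, hN⟩ = (false, false)) : c.Gz (g * r * g⁻¹) := by
  obtain ⟨i, rfl⟩ := K_two hr (j := 1) (by rw [pow_one, ← hr2, pow_orderOf_eq_one])
  set w := g⁻¹ * c.zg * g
  have hw1 : w ≠ 1 := fun e => by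
    have : c.zg = 1 := by rw [show c.zg = g * w * g⁻¹ by simp only [w]; group, e]; group
    rw [zg, ← map_one c.ι] at this
    exact absurd (c.inj this) (by decide +kernel)
  have hww : w * w = 1 := by
    rw [show w * w = g⁻¹ * (c.zg * c.zg) * g by simp only [w]; group, zg_sq]; group
  obtain ⟨l, hl, hlw⟩ := c.exists_conj_NT (P := Subgroup.zpowers w)
    (IsPGroup.of_card (p := 2) (n := 1) (by rw [Nat.card_zpowers, orderOf_invol hww hw1, pow_one]))
    (Subgroup.zpowers_le.mpr hN)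
  have hw' := hlw w (Subgroup.mem_zpowers _)
  obtain ⟨u, hu⟩ := invol_inner hw' (by
    rw [show l * w * l⁻¹ * (l * w * l⁻¹) = l * (w * w) * l⁻¹ by group, hww]; group) (by
    rw [← c.eps_NT hw', show (⟨l * w * l⁻¹, hw'.1⟩ : c.N) = ⟨l, c.L_le_N hl⟩ * ⟨w, hN⟩ * ⟨l, c.L_le_N hl⟩⁻¹ from
      rfl, eps_conj]
    exact he)
  have huF : fusT u = false := by
    by_contra h
    have h2 := ((fus_iff (c := c)).mpr (Bool.eq_true_of_not_eq_false h)).conj (g * l⁻¹)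
    rw [← hu, show g * l⁻¹ * (l * w * l⁻¹) * (g * l⁻¹)⁻¹ = c.zg by simp only [w]; group] at h2
    exact zg_not_fus h2
  have hu2 : u * u = 1 := c.inj (by
    rw [map_mul, ← hu, show l * w * l⁻¹ * (l * w * l⁻¹) = l * (w * w) * l⁻¹ by group, hww, map_one]; group)
  have hu1 : u ≠ 1 := fun e => hw1 (by
    rw [e, map_one] at hu
    exact conj_eq_one_iff.mp hu)
  obtain ⟨n, hn, hnz⟩ := inner_to_z (c := c) hu2 hu1 huF
  rw [← hu] at hnz
  refine ⟨n * l * g⁻¹, ?_, ?_⟩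
  · conv_rhs => rw [← hnz]
    simp only [w]; group
  obtain ⟨i', hi'⟩ := c.conj_vg hn i
  refine ⟨i', fun h0 => ?_, ?_⟩
  · rw [h0, show c.vg q0 = 1 from map_one c.ι, conj_eq_one_iff] at hi'
    rw [hi', orderOf_one] at hr2
    omega
  · rw [show n * l * g⁻¹ * (g * c.vg i * g⁻¹) * (n * l * g⁻¹)⁻¹ = n * (l * c.vg i * l⁻¹) * n⁻¹ by group,
      c.mem_K.mp hr l hl, mul_inv_cancel_right, hi']

set_option maxHeartbeats 800000 in
/-- An involution commuting with `z` and an element of `V`. -/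
theorem frame_code {e : G} {j : Q4} (hj : j ≠ q0) (hz : e * c.zg = c.zg * e) (hv : e * c.vg j = c.vg j * e) :
    ∃ h : e ∈ c.NT, (c.code ⟨e, h⟩).p = q1 ∧ (c.code ⟨e, h⟩).q = q1 ∧
      ((c.code ⟨e, h⟩).out = (false, false) ∨ (c.code ⟨e, h⟩).out = (true, true) ∨
        (j = q1 ∧ ((c.code ⟨e, h⟩).out = (true, false) ∨ (c.code ⟨e, h⟩).out = (false, true)))) := by
  have hN : e ∈ c.N := c.centralizer_le (c.vg_mem_K j) (vg_invol hj) hv
  obtain ⟨w, hw⟩ := c.conj_vg hN q1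
  have hy : e * c.yg q1 * e⁻¹ = c.ι (zc q1 (qadd q1 w)) := by
    have h1 : c.yg q1 = c.zg * c.vg q1 := by
      rw [yg, zg, vg, ← map_mul, zz, zc_mul, qadd_self, (qadd_zero _).1]
    rw [h1, show e * (c.zg * c.vg q1) * e⁻¹ = (e * c.zg * e⁻¹) * (e * c.vg q1 * e⁻¹) by group, hw,
      mul_inv_eq_iff_eq_mul.mpr hz, zg, vg, ← map_mul, zz, zc_mul, (qadd_zero _).1]
  have h := (fix_Y hN (p := q1) (by decide) hy).1
  refine ⟨h, ?_⟩
  obtain ⟨hp, hq, t, ht⟩ := c.code_spec ⟨e, h⟩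
  have fix : ∀ p v : Q4, e * c.ι (zc p v) = c.ι (zc p v) * e → act (c.code ⟨e, h⟩) (zc p v) = zc p v := by
    intro p v hc
    have h1 := c.inj ((ht (zc p v)).symm.trans (mul_inv_eq_iff_eq_mul.mpr hc))
    calc act (c.code ⟨e, h⟩) (zc p v) = t⁻¹ * (t * act (c.code ⟨e, h⟩) (zc p v) * t⁻¹) * t := by group
      _ = _ := by rw [h1, mul_assoc, ← zc_comm, inv_mul_cancel_left]
  exact fix_z_code _ hp hq (fix q1 q1 hz) j hj (fix q0 j hv)

/-- Neighbours of `Gz` elements. -/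
theorem Gz.adj {x y : G} (hx : c.Gz x) (hy : c.InX y) (hxy : x * y = y * x) : c.Gz y := by
  obtain ⟨n, hn, j, hj, e⟩ := hx
  suffices H : ∀ y', c.InX y' → y' * c.vg j = c.vg j * y' → c.Gz y' by
    obtain ⟨m, hm, i, hi, e'⟩ := H (n * y * n⁻¹) ⟨hy.1.conj n, by
        conv_lhs => rw [← hn]
        conv_rhs => rw [← hn]
        rw [show n * y * n⁻¹ * (n * c.zg * n⁻¹) = n * (y * c.zg) * n⁻¹ by group, hy.2]; group⟩ (by
      rw [← e, show n * y * n⁻¹ * (n * x * n⁻¹) = n * (y * x) * n⁻¹ by group, ← hxy]; group)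
    exact ⟨m * n, by rw [show m * n * c.zg * (m * n)⁻¹ = m * (n * c.zg * n⁻¹) * m⁻¹ by group, hn, hm], i, hi,
      by rw [← e']; group⟩
  rintro y ⟨hF, hz⟩ hv
  obtain ⟨h, hp, hq, ho⟩ := frame_code hj hz hv
  obtain ⟨hyy, -⟩ := hF.sq
  have hsw : (c.code ⟨y, h⟩).out.2 = false := by
    by_contra hs
    refine not_fus_swap h.1 ?_ hF
    rw [c.eps_NT h]
    exact Bool.eq_true_of_not_eq_false hs
  rcases ho with ho | ho | ⟨rfl, ho | ho⟩
  · obtain ⟨u, hu⟩ := invol_inner h hyy ho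
    obtain ⟨m, hm, i, hi, e'⟩ := move_T (c := c) (fus_iff.mp (hu ▸ hF))
    exact ⟨m, hm, i, hi, hu ▸ e'⟩
  · rw [ho] at hsw; exact absurd hsw (by decide)
  · obtain ⟨hp', hq', t, ht⟩ := c.code_spec ⟨y, h⟩
    set k := c.code ⟨y, h⟩
    have hk : k = ⟨q1, q1, true, false⟩ :=
      AK.ext hp hq (congrArg Prod.fst ho) (congrArg Prod.snd ho)
    have hy' : ∀ w, y * c.ι w * y⁻¹ = c.ι (cjt t (act ⟨q1, q1, true, false⟩ w)) := fun w => by
      rw [ht, hk]; rfl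
    have e2 : ∀ w, cjt ⟨t.a, t.b, q0, q0⟩ w = cjt t w := fun w => (conj_twist t w).symm
    obtain ⟨s, -, hs⟩ := sig_split ⟨t.a, t.b, q0, q0⟩ (mem_twists _ _) fun e _ => c.inj (by
      rw [e2, e2, ← hy', ← hy', show y * (y * c.ι e * y⁻¹) * y⁻¹ = (y * y) * c.ι e * (y * y)⁻¹ by group, hyy]
      group)
    have hg : ∀ e ∈ [e₁, e₂, e₃, e₄], act ⟨q1, q1, true, false⟩ e = e →
        (c.ι s * y * (c.ι s)⁻¹) * c.ι e = c.ι e * (c.ι s * y * (c.ι s)⁻¹) := fun e he hfe => by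
      refine mul_inv_eq_iff_eq_mul.mp ?_
      calc c.ι s * y * (c.ι s)⁻¹ * c.ι e * (c.ι s * y * (c.ι s)⁻¹)⁻¹
          = c.ι s * (y * ((c.ι s)⁻¹ * c.ι e * c.ι s) * y⁻¹) * (c.ι s)⁻¹ := by group
        _ = c.ι s * (y * c.ι (cjt s⁻¹ e) * y⁻¹) * (c.ι s)⁻¹ := by
            rw [cjt, inv_inv, map_mul, map_mul, map_inv]
        _ = c.ι (cjt s (cjt ⟨t.a, t.b, q0, q0⟩ (act ⟨q1, q1, true, false⟩ (cjt s⁻¹ e)))) := by
            rw [hy', e2]; simp only [cjt, map_mul, map_inv]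
        _ = c.ι e := by rw [hs e he, hfe]
    obtain ⟨f1, f3, hcz, -, -⟩ := sig_comm
    have h1 := hg e₁ (by simp) f1
    have h3 := hg e₃ (by simp) f3
    set y' := c.ι s * y * (c.ι s)⁻¹
    obtain ⟨g, r, hr, hr2, hgr⟩ := hF.conj (c.ι s)
    have hFr : ∀ e, y' * e = e * y' → g⁻¹ * e * g ∈ c.N := fun e he => by
      refine c.centralizer_le hr hr2 ?_
      rw [show r = g⁻¹ * y' * g by simp only [y']; rw [← hgr]; group]
      calc g⁻¹ * e * g * (g⁻¹ * y' * g) = g⁻¹ * (e * y') * g := by group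
        _ = g⁻¹ * (y' * e) * g := by rw [he]
        _ = _ := by group
    let A : c.N := ⟨g⁻¹ * c.ι e₁ * g, hFr _ h1⟩
    let B : c.N := ⟨g⁻¹ * c.ι e₃ * g, hFr _ h3⟩
    have eAB : g⁻¹ * c.zg * g = ((A * B * A⁻¹ * B⁻¹ : c.N) : G) := by
      rw [zg, ← hcz, map_mul, map_mul, map_mul, map_inv, map_inv]
      show _ = g⁻¹ * c.ι e₁ * g * (g⁻¹ * c.ι e₃ * g) * (g⁻¹ * c.ι e₁ * g)⁻¹ * (g⁻¹ * c.ι e₃ * g)⁻¹
      group
    have hzN : g⁻¹ * c.zg * g ∈ c.N := eAB ▸ (A * B * A⁻¹ * B⁻¹).2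
    have := gz_of_inner hr hr2 hzN (by
      rw [show (⟨_, hzN⟩ : c.N) = A * B * A⁻¹ * B⁻¹ from Subtype.ext eAB, c.eps_mul, eps_conj, ← c.eps_mul,
        mul_inv_cancel]
      exact c.eps_L (n := 1) c.L.one_mem)
    rw [hgr] at this
    obtain ⟨m, hm, i, hi, e'⟩ := this
    refine ⟨m * c.ι s, ?_, i, hi, by rw [← e']; group⟩
    rw [show m * c.ι s * c.zg * (m * c.ι s)⁻¹ = m * (c.ι s * c.zg * (c.ι s)⁻¹) * m⁻¹ by group, zg,
      ← map_inv, ← map_mul, ← map_mul, show s * zz * s⁻¹ = zz from conj_central s q1 q1]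
    exact hm
  · rw [ho] at hsw; exact absurd hsw (by decide)

/-- An element whose product with a fused involution is fused is inner in the frame of the latter. -/
theorem inner_of_prod {g e : G} {i : Q4} (_hi : i ≠ q0) (heN : g⁻¹ * e * g ∈ c.N) (he2 : e * e = 1)
    (he : ¬ c.Fus e) (hcomm : (g * c.vg i * g⁻¹) * e = e * (g * c.vg i * g⁻¹))
    (hp : c.Fus (g * c.vg i * g⁻¹ * e)) : c.eps ⟨_, heN⟩ = (false, false) := by
  set w := g⁻¹ * e * g with hw
  have hwF : ¬ c.Fus w := fun h => he (by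
    have := h.conj g
    rwa [show g * w * g⁻¹ = e by simp only [w]; group] at this)
  have hww : w * w = 1 := by rw [show w * w = g⁻¹ * (e * e) * g by simp only [w]; group, he2]; group
  have hvF : c.Fus (c.vg i * w) := by
    have := hp.conj g⁻¹
    rwa [inv_inv, show g⁻¹ * (g * c.vg i * g⁻¹ * e) * g = c.vg i * w by simp only [w]; group] at this
  have hvw : c.vg i * w = w * c.vg i := by
    calc c.vg i * w = g⁻¹ * ((g * c.vg i * g⁻¹) * e) * g := by simp only [w]; group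
      _ = g⁻¹ * (e * (g * c.vg i * g⁻¹)) * g := by rw [hcomm]
      _ = _ := by simp only [w]; group
  by_contra hne
  have hs : (c.eps ⟨w, heN⟩).2 = false := by
    by_contra hs
    refine not_fus_swap (c.N.mul_mem (c.vg_mem_N i) heN) ?_ hvF
    rw [show (⟨c.vg i * w, c.N.mul_mem (c.vg_mem_N i) heN⟩ : c.N) = ⟨c.vg i, c.vg_mem_N i⟩ * ⟨w, heN⟩ from rfl,
      c.eps_mul, c.eps_K (n := ⟨_, c.vg_mem_N i⟩) (c.vg_mem_K i)]
    simpa [oadd] using hs
  by_cases hw1 : w = 1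
  · exact hne (c.eps_L (by show w ∈ c.L; rw [hw1]; exact c.L.one_mem))
  obtain ⟨l, hl, hlw⟩ := c.exists_conj_NT (P := Subgroup.zpowers w)
    (IsPGroup.of_card (p := 2) (n := 1) (by rw [Nat.card_zpowers, orderOf_invol hww hw1, pow_one]))
    (Subgroup.zpowers_le.mpr heN)
  have hw' := hlw w (Subgroup.mem_zpowers _)
  have ho : (c.code ⟨l * w * l⁻¹, hw'⟩).out = (true, false) := by
    rw [← c.eps_NT hw', show (⟨l * w * l⁻¹, hw'.1⟩ : c.N) = ⟨l, c.L_le_N hl⟩ * ⟨w, heN⟩ * ⟨l, c.L_le_N hl⟩⁻¹ from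
      rfl, eps_conj]
    revert hne hs
    show c.eps ⟨w, heN⟩ ≠ (false, false) → (c.eps ⟨w, heN⟩).2 = false → c.eps ⟨w, heN⟩ = (true, false)
    generalize c.eps ⟨w, heN⟩ = a
    revert a
    decide
  set y := l * w * l⁻¹
  have hly : l * c.vg i * l⁻¹ = c.vg i := by rw [c.mem_K.mp (c.vg_mem_K i) l hl, mul_inv_cancel_right]
  have hyv : y * c.vg i = c.vg i * y := by
    rw [← hly, show y * (l * c.vg i * l⁻¹) = l * (w * c.vg i) * l⁻¹ by simp only [y]; group, ← hvw]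
    simp only [y]; group
  obtain ⟨hp', hq', t, ht⟩ := c.code_spec ⟨y, hw'⟩
  set k := c.code ⟨y, hw'⟩
  have hfix : fV k i = i := by
    have h1 := c.code_vg (n := y) ⟨hp', hq', t, ht⟩ i
    rw [hyv, mul_inv_cancel_right] at h1
    exact (congrArg TC.v (c.inj h1)).symm
  obtain ⟨m, hm⟩ := semilinear_hit k hp' hq' ho i hfix
  have hyy : y * y = 1 := by
    rw [show y * y = l * (w * w) * l⁻¹ by simp only [y]; group, hww]; group
  refine hwF ?_
  have h1 : c.Fus (c.vg i * y) := by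
    have := hvF.conj l
    rwa [show l * (c.vg i * w) * l⁻¹ = (l * c.vg i * l⁻¹) * y by simp only [y]; group, hly] at this
  have h2 := (h1.conj (c.vg m)).conj l⁻¹
  have e3 : c.vg m * (c.vg i * y) * (c.vg m)⁻¹ = y := by
    have hmv : y * c.vg m * y⁻¹ = c.vg (fV k m) := c.code_vg ⟨hp', hq', t, ht⟩ m
    calc c.vg m * (c.vg i * y) * (c.vg m)⁻¹
        = c.vg m * c.vg i * (y * (c.vg m)⁻¹ * y⁻¹) * y := by group
      _ = c.vg m * c.vg i * (c.vg (fV k m))⁻¹ * y := by rw [← hmv]; group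
      _ = y := by
        rw [vg, vg, vg, ← map_inv, ← map_mul, ← map_mul,
          show (zc q0 (fV k m))⁻¹ = zc q0 (fV k m) from inv_eq_of_mul_eq_one_right (by
            rw [zc_mul, qadd_self, qadd_self]; rfl), zc_mul, zc_mul, ← hm]
        have key : ∀ a b : Q4, qadd (qadd a (qadd b a)) b = q0 := by decide
        rw [qadd_self, qadd_self, key, show zc q0 q0 = (1 : TC) from rfl, map_one, one_mul]
  rw [e3, inv_inv, show l⁻¹ * y * l = w by simp only [y]; group] at h2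
  exact h2

end Ctx

end CfsgLib.HeStd
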