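import Cfsg.Agent.Lib.HeStd.Pull

/-!
# A fused root involution gives a pull-back, whose kernel meets the centre
-/

set_option autoImplicit false
set_option linter.style.haveILetI false
set_option linter.unusedSectionVars false

namespace CfsgLib.HeStd

universe u

/-- The coordinates modulo the centre of the cover. -/
def tri (u : TC) : Q4 × Q4 × Q4 := (u.a, u.b, u.c)

/-- The representative of a class modulo the centre of the cover. -/
def lift3 (x : Q4 × Q4 × Q4) : TC := ⟨x.1, x.2.1, x.2.2, q0⟩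

theorem inV_iff_tri {u u' : TC} : inV (u⁻¹ * u') = true ↔ tri u = tri u' := by
  obtain ⟨a, b, cc, v⟩ := u
  obtain ⟨a', b', cc', v'⟩ := u'
  simp only [tri, inV, inv_def, tinv, mul_def, tmul, Prod.mk.injEq]
  have key : ∀ a b cc a' b' cc' : Q4,
      (decide (qadd a a' = q0) && decide (qadd b b' = q0) &&
          decide (qadd (qadd (qadd cc (qmul a b)) cc') (qmul a b') = q0)) = true ↔
        a = a' ∧ b = b' ∧ cc = cc' := by decide +kernel
  exact key a b cc a' b' cc' 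

theorem lift3_eq (u : TC) : u = lift3 (tri u) * zc q0 u.v := by
  simp [lift3, tri, zc, mk_mul, qadd_zero, qmul_zero, show qsq q0 = q0 from by decide]

theorem tw_fixed_count : (outerList.all fun k => twists.all fun t =>
    decide ((Finset.univ.filter fun x : Q4 × Q4 × Q4 => tri (tw k t (lift3 x)) = x).card < 16)) = true := by
  decide +kernel

theorem comm_zc (x t : TC) : x * t * x⁻¹ * t⁻¹ =
    zc (qadd (qmul x.a t.b) (qmul t.a x.b)) (qadd (qmul x.a (qsq t.b)) (qmul t.a (qsq x.b))) := by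
  have h := comm_eq x t 1 rfl rfl
  rw [mul_one] at h
  rw [h, one_def]
  simp [qadd_zero]

theorem exists_noncomm : ∀ a b : Q4, ¬ (a = q0 ∧ b = q0) → ∃ ta tb : Q4,
    qadd (qmul a tb) (qmul ta b) ≠ q0 := by decide

namespace Ctx

variable {G : Type u} [Group G] {c : Ctx G} [Finite G]

/-- A fused involution commuting with the Sylow subgroup gives a pull-back. -/
theorem exists_pull_of {w r g : G} (hwT : ∀ x, w * c.ι x = c.ι x * w) (hwK : w ∉ c.K) (hr : r ∈ c.K)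
    (hr2 : orderOf r = 2) (hg : g * r * g⁻¹ = w) : ∃ P : c.Pull, P.g⁻¹ * w * P.g ∈ c.K := by
  set f : TC →* G := (MulAut.conj g⁻¹).toMonoidHom.comp c.ι
  have hf : ∀ z, f z = g⁻¹ * c.ι z * g := fun z => by simp [f]
  have hN : f.range ≤ c.N := by
    rintro _ ⟨z, rfl⟩
    refine c.centralizer_le hr hr2 ?_
    rw [hf, show r = g⁻¹ * w * g by rw [← hg]; group]
    calc g⁻¹ * c.ι z * g * (g⁻¹ * w * g) = g⁻¹ * (c.ι z * w) * g := by group
      _ = g⁻¹ * (w * c.ι z) * g := by rw [hwT]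
      _ = _ := by group
  have h2 : IsPGroup 2 f.range := by
    rintro ⟨_, z, rfl⟩
    exact ⟨2, Subtype.ext (by
      show f z ^ 2 ^ 2 = 1
      rw [← map_pow, pow_four, map_one])⟩
  obtain ⟨l, hl, hlT⟩ := c.exists_conj_NT h2 hN
  have hgr : (g * l⁻¹)⁻¹ * w * (g * l⁻¹) = r := by
    rw [← hg, show (g * l⁻¹)⁻¹ * (g * r * g⁻¹) * (g * l⁻¹) = l * r * l⁻¹ by group, c.mem_K.mp hr l hl,
      mul_inv_cancel_right]
  refine ⟨⟨g * l⁻¹, fun z => ?_, fun v hv hK => ?_⟩, by rw [hgr]; exact hr⟩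
  · have := hlT (f z) ⟨z, rfl⟩
    rwa [hf, show l * (g⁻¹ * c.ι z * g) * l⁻¹ = (g * l⁻¹)⁻¹ * c.ι z * (g * l⁻¹) by group] at this
  · set u := (g * l⁻¹)⁻¹ * c.ι (zc q0 v) * (g * l⁻¹) with hu
    have e : g * l⁻¹ * u * (g * l⁻¹)⁻¹ = c.ι (zc q0 v) := by rw [hu]; group
    have hu2 : orderOf u = 2 := by
      have h := c.V_invol hv
      rw [← e, ← MulAut.conj_apply, MulEquiv.orderOf_eq] at h
      exact h
    have hgN := c.mem_N_of_conj hK hu2 (e ▸ c.ι_V_mem_K v)
    refine hwK ?_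
    rw [show w = g * l⁻¹ * r * (g * l⁻¹)⁻¹ by rw [← hgr]; group]
    exact c.conj_K hgN hr

/-- Some root involution times an element of `K` is fused. -/
theorem exists_root_fus [IsSimpleGroup G] :
    ∃ a, ∃ k ∈ c.K, a ≠ q0 ∧ c.Fus (c.yg a * k) := by
  haveI : Fact (Nat.Prime 2) := ⟨Nat.prime_two⟩
  obtain ⟨x, hxN, hxF, hxK, hxe⟩ := exists_inner (c := c)
  obtain ⟨hxx, hx1⟩ := hxF.sq
  obtain ⟨l, hl, hlx⟩ := c.exists_conj_NT (P := Subgroup.zpowers x)
    (IsPGroup.of_card (p := 2) (n := 1) (by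
      rw [Nat.card_zpowers, orderOf_eq_prime (by rw [pow_two]; exact hxx) hx1, pow_one]))
    (Subgroup.zpowers_le.mpr hxN)
  set y := l * x * l⁻¹
  have hy : y ∈ c.NT := hlx x (Subgroup.mem_zpowers _)
  have hyy : y * y = 1 := (hxF.conj l).sq.1
  have ho : (c.code ⟨y, hy⟩).out = (false, false) := by
    rw [← c.eps_NT hy, show (⟨y, hy.1⟩ : c.N) = ⟨l, c.L_le_N hl⟩ * ⟨x, hxN⟩ * ⟨l, c.L_le_N hl⟩⁻¹ from rfl,
      eps_conj]
    exact hxe
  obtain ⟨u, hu⟩ := c.mem_TK (n := ⟨y, hy⟩) (j := 1) (by rw [pow_one, pow_two]; exact hyy) ho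
  set k := (c.ι u)⁻¹ * y
  have e0 : y = c.ι u * k := (mul_inv_cancel_left _ _).symm
  clear_value k
  have hyK : y ∉ c.K := fun h => hxK (by
    have := c.conj_K (c.N.inv_mem (c.L_le_N hl)) h
    rwa [show l⁻¹ * (l * x * l⁻¹) * l⁻¹⁻¹ = x by group] at this)
  have huu : c.ι (u * u) ∈ c.K := by
    have e : c.ι (u * u) * (k * k) = 1 := by
      rw [map_mul, ← hyy, e0]
      calc c.ι u * c.ι u * (k * k) = c.ι u * (c.ι u * k) * k := by group
        _ = c.ι u * (k * c.ι u) * k := congrArg (fun t => c.ι u * t * k) (c.comm_K hu u)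
        _ = _ := by group
    rw [mul_eq_one_iff_eq_inv.mp e]
    exact c.K.inv_mem (c.K.mul_mem hu hu)
  obtain ⟨hs, -⟩ := sq_inV u (c.ι_mem_K_iff.mp huu)
  have hV : inV u = false := by
    by_contra h
    exact hyK (e0 ▸ c.K.mul_mem (c.ι_mem_K_iff.mpr (Bool.eq_true_of_not_eq_false h)) hu)
  obtain ⟨m, hm, a, v, ha, hma⟩ := exists_root (c := c) hs hV
  refine ⟨a, c.vg v * k, c.K.mul_mem (c.vg_mem_K v) hu, ha, ?_⟩
  have h := (hxF.conj l).conj m
  rwa [show m * (l * x * l⁻¹) * m⁻¹ = c.yg a * (c.vg v * k) by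
    rw [show l * x * l⁻¹ = c.ι u * k from e0, show m * (c.ι u * k) * m⁻¹ = (m * c.ι u * m⁻¹) * (m * k * m⁻¹) by
      group, hma, c.mem_K.mp hu m hm, mul_inv_cancel_right, ← mul_assoc, yg, vg, ← map_mul, zc_mul,
      (qadd_zero _).1, (qadd_zero _).2]] at h

theorem exists_pull [IsSimpleGroup G] : Nonempty c.Pull := by
  obtain ⟨a, k, hk, ha, g, r, hr, hr2, hg⟩ := exists_root_fus (c := c)
  obtain ⟨P, -⟩ := exists_pull_of (w := c.yg a * k) (fun x => by
    rw [mul_assoc, ← c.comm_K hk, ← mul_assoc, yg, ← map_mul, ← zc_comm, map_mul, mul_assoc]) (fun h => by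
    have h2 := c.K.mul_mem h (c.K.inv_mem hk)
    rw [mul_inv_cancel_right] at h2
    have := c.ι_mem_K_iff.mp h2
    simp [inV, zc, ha] at this) hr hr2 hg
  exact ⟨P⟩

namespace Pull

variable (P : c.Pull)

theorem rel_conj {n z u : TC} {k : AK} {t : TC}
    (ht : ∀ x, P.ψ n * c.ι x * (P.ψ n)⁻¹ = c.ι (t * act k x * t⁻¹)) (h : P.Rel z u) :
    P.Rel (n * z * n⁻¹) (tw k ⟨t.a, t.b, q0, q0⟩ u) := by
  obtain ⟨k', hk', e⟩ := h
  refine ⟨P.ψ n * k' * (P.ψ n)⁻¹, c.conj_K (P.ψ_mem n).1 hk', ?_⟩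
  rw [map_mul, map_mul, map_inv, e, tw, ← conj_twist, ← ht]
  group

theorem rel_comm_central {z u : TC} (h : P.Rel z u) (hz : z.a = q0 ∧ z.b = q0) : inV (u * u) = true := by
  have h2 := h.mul h
  rw [show z * z = 1 by
    rw [show z = zc z.c z.v from TC.ext hz.1 hz.2 rfl rfl, zc_mul, qadd_self, qadd_self]; rfl] at h2
  have := P.rel_one.unique h2
  rwa [inv_one, one_mul] at this

theorem K_of_tri {z z' u u' : TC} (h : P.Rel z u) (h' : P.Rel z' u') (e : tri u = tri u') :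
    P.ψ (z⁻¹ * z') ∈ c.K := P.K_of_rel (h.inv.mul h') (inV_iff_tri.mpr e)

theorem tri_eq {z u u' : TC} (h : P.Rel z u) (h' : P.Rel z u') : tri u = tri u' :=
  inV_iff_tri.mp (h.unique h')

theorem rel_lift {z u : TC} (h : P.Rel z u) : P.Rel z (lift3 (tri u)) := by
  obtain ⟨k, hk, e⟩ := h
  refine ⟨c.ι (zc q0 u.v) * k, c.K.mul_mem (c.ι_V_mem_K _) hk, ?_⟩
  rw [e, ← mul_assoc, ← map_mul, ← lift3_eq]

/-- A nontrivial central element is pulled into `K`. -/
theorem exists_central : ∃ z : TC, z.a = q0 ∧ z.b = q0 ∧ z ≠ 1 ∧ P.ψ z ∈ c.K := by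
  classical
  by_cases hall : ∀ z, P.out z = (false, false)
  · choose u hu using fun z => P.rel_exists (hall z)
    obtain ⟨z, z', hne, e⟩ := Fintype.exists_ne_map_eq_of_card_lt (fun z => tri (u z)) (by
      rw [Fintype.card_eq_nat_card, Fintype.card_eq_nat_card, card_TC]; simp)
    have hK := P.K_of_tri (hu z) (hu z') e
    set x := z⁻¹ * z'
    have hx : x ≠ 1 := fun h => hne (inv_mul_eq_one.mp h)
    by_cases hc : x.a = q0 ∧ x.b = q0
    · exact ⟨x, hc.1, hc.2, hx, hK⟩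
    obtain ⟨ta, tb, ht⟩ := exists_noncomm x.a x.b hc
    have := P.K_comm hK ⟨ta, tb, q0, q0⟩
    rw [comm_zc] at this
    exact ⟨_, rfl, rfl, fun h => ht (congrArg TC.c h), this⟩
  · push Not at hall
    obtain ⟨n, hn⟩ := hall
    obtain ⟨hp, hq, t, ht⟩ := c.code_spec ⟨P.ψ n, P.ψ_mem n⟩
    set k := c.code ⟨P.ψ n, P.ψ_mem n⟩
    have hk : ¬ (k.e = false ∧ k.s = false) := fun h => hn (Prod.ext h.1 h.2)
    choose u hu using fun p : Q4 × Q4 => P.rel_exists (P.out_central p.1 p.2)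
    have hfix : ∀ p, tri (tw k ⟨t.a, t.b, q0, q0⟩ (lift3 (tri (u p)))) = tri (u p) := fun p => by
      have h := P.rel_conj ht (P.rel_lift (hu p))
      rw [zc_comm, mul_inv_cancel_right] at h
      exact P.tri_eq h (hu p)
    have hcount := tw_fixed_count
    simp only [List.all_eq_true, decide_eq_true_eq] at hcount
    have hlt := hcount k (mem_outerList k hp hq hk) _ (mem_twists t.a t.b)
    obtain ⟨p, -, p', -, hne, e⟩ := Finset.exists_ne_map_eq_of_card_lt_of_maps_to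
      (s := (Finset.univ : Finset (Q4 × Q4))) (f := fun p => tri (u p)) (by simpa using hlt)
      (fun p _ => Finset.mem_filter.mpr ⟨Finset.mem_univ _, hfix p⟩)
    have hK := P.K_of_tri (hu p) (hu p') e
    rw [show (zc p.1 p.2)⁻¹ = zc p.1 p.2 from inv_eq_of_mul_eq_one_right (by
      rw [zc_mul, qadd_self, qadd_self]; rfl), zc_mul] at hK
    exact ⟨_, rfl, rfl, fun h => hne (Prod.ext
      ((show ∀ a b : Q4, qadd a b = q0 → a = b by decide) _ _ (congrArg TC.c h))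
      ((show ∀ a b : Q4, qadd a b = q0 → a = b by decide) _ _ (congrArg TC.v h))), hK⟩

end Pull

end Ctx

end CfsgLib.HeStd
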