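import Cfsg.Agent.Lib.HeStd.AutT

/-!
# Translates of an outer involution
-/

set_option autoImplicit false
set_option maxHeartbeats 4000000

namespace CfsgLib.HeStd

/-- Conjugation by a twisted model. -/
def tw (k : AK) (t x : TC) : TC := t * act k x * t⁻¹

/-- Elements whose commutators with the twisted involutive models give eight translations. -/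
def fusedTable : List (AK × TC × List TC) := [
  (⟨q1, q1, false, true⟩, ⟨q0, q0, q0, q0⟩,
    [⟨q0, q0, q0, q0⟩, ⟨q0, q0, q0, qw⟩, ⟨q1, q1, q0, q0⟩, ⟨q1, q1, q0, qw⟩, ⟨qw, qw, q0, q0⟩, ⟨qw, qw, q0, qw⟩, ⟨qv, qv, q0, q0⟩, ⟨qv, qv, q0, qw⟩]),
  (⟨q1, q1, false, true⟩, ⟨q1, q1, q0, q0⟩,
    [⟨q0, q0, q0, q0⟩, ⟨q0, q0, q0, qw⟩, ⟨q1, q1, q0, q0⟩, ⟨q1, q1, q0, qw⟩, ⟨qw, qw, q0, q0⟩, ⟨qw, qw, q0, qw⟩, ⟨qv, qv, q0, q0⟩, ⟨qv, qv, q0, qw⟩]),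
  (⟨q1, q1, false, true⟩, ⟨qw, qw, q0, q0⟩,
    [⟨q0, q0, q0, q0⟩, ⟨q0, q0, q0, qw⟩, ⟨q1, q1, q0, q0⟩, ⟨q1, q1, q0, qw⟩, ⟨qw, qw, q0, q0⟩, ⟨qw, qw, q0, qw⟩, ⟨qv, qv, q0, q0⟩, ⟨qv, qv, q0, qw⟩]),
  (⟨q1, q1, false, true⟩, ⟨qv, qv, q0, q0⟩,
    [⟨q0, q0, q0, q0⟩, ⟨q0, q0, q0, qw⟩, ⟨q1, q1, q0, q0⟩, ⟨q1, q1, q0, qw⟩, ⟨qw, qw, q0, q0⟩, ⟨qw, qw, q0, qw⟩, ⟨qv, qv, q0, q0⟩, ⟨qv, qv, q0, qw⟩]),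
  (⟨q1, q1, true, false⟩, ⟨q0, q0, q0, q0⟩,
    [⟨q0, q0, q0, q0⟩, ⟨q0, q0, q0, qw⟩, ⟨q0, q0, qw, q0⟩, ⟨q0, q0, qw, qw⟩, ⟨qw, q0, q0, q0⟩, ⟨qw, q0, q0, qw⟩, ⟨qw, q0, qw, q0⟩, ⟨qw, q0, qw, qw⟩]),
  (⟨q1, q1, true, false⟩, ⟨q0, q1, q0, q0⟩,
    [⟨q0, q0, q0, q0⟩, ⟨q0, q0, q0, qw⟩, ⟨q0, q0, qw, q0⟩, ⟨q0, q0, qw, qw⟩, ⟨qw, q0, q0, q0⟩, ⟨qw, q0, q0, qw⟩, ⟨qw, q0, qw, q0⟩, ⟨qw, q0, qw, qw⟩]),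
  (⟨q1, q1, true, false⟩, ⟨q1, q0, q0, q0⟩,
    [⟨q0, q0, q0, q0⟩, ⟨q0, q0, q0, qw⟩, ⟨q0, q0, qw, q0⟩, ⟨q0, q0, qw, qw⟩, ⟨qw, q0, q0, q0⟩, ⟨qw, q0, q0, qw⟩, ⟨qw, q0, qw, q0⟩, ⟨qw, q0, qw, qw⟩]),
  (⟨q1, q1, true, false⟩, ⟨q1, q1, q0, q0⟩,
    [⟨q0, q0, q0, q0⟩, ⟨q0, q0, q0, qw⟩, ⟨q0, q0, qw, q0⟩, ⟨q0, q0, qw, qw⟩, ⟨qw, q0, q0, q0⟩, ⟨qw, q0, q0, qw⟩, ⟨qw, q0, qw, q0⟩, ⟨qw, q0, qw, qw⟩]),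
  (⟨q1, q1, true, true⟩, ⟨q0, q0, q0, q0⟩,
    [⟨q0, q0, q0, q0⟩, ⟨q0, q0, qw, q0⟩, ⟨q1, q1, q0, q0⟩, ⟨q1, q1, qw, q0⟩, ⟨qw, qv, q0, q0⟩, ⟨qw, qv, qw, q0⟩, ⟨qv, qw, q0, q0⟩, ⟨qv, qw, qw, q0⟩]),
  (⟨q1, q1, true, true⟩, ⟨q1, q1, q0, q0⟩,
    [⟨q0, q0, q0, q0⟩, ⟨q0, q0, qw, q0⟩, ⟨q1, q1, q0, q0⟩, ⟨q1, q1, qw, q0⟩, ⟨qw, qv, q0, q0⟩, ⟨qw, qv, qw, q0⟩, ⟨qv, qw, q0, q0⟩, ⟨qv, qw, qw, q0⟩]),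
  (⟨q1, q1, true, true⟩, ⟨qw, qv, q0, q0⟩,
    [⟨q0, q0, q0, q0⟩, ⟨q0, q0, qw, q0⟩, ⟨q1, q1, q0, q0⟩, ⟨q1, q1, qw, q0⟩, ⟨qw, qv, q0, q0⟩, ⟨qw, qv, qw, q0⟩, ⟨qv, qw, q0, q0⟩, ⟨qv, qw, qw, q0⟩]),
  (⟨q1, q1, true, true⟩, ⟨qv, qw, q0, q0⟩,
    [⟨q0, q0, q0, q0⟩, ⟨q0, q0, qw, q0⟩, ⟨q1, q1, q0, q0⟩, ⟨q1, q1, qw, q0⟩, ⟨qw, qv, q0, q0⟩, ⟨qw, qv, qw, q0⟩, ⟨qv, qw, q0, q0⟩, ⟨qv, qw, qw, q0⟩]),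
  (⟨q1, qw, true, false⟩, ⟨q0, q0, q0, q0⟩,
    [⟨q0, q0, q0, q0⟩, ⟨q0, q0, q0, q1⟩, ⟨q0, q0, q1, q0⟩, ⟨q0, q0, q1, q1⟩, ⟨qw, q0, q0, q0⟩, ⟨qw, q0, q0, q1⟩, ⟨qw, q0, q1, q0⟩, ⟨qw, q0, q1, q1⟩]),
  (⟨q1, qw, true, false⟩, ⟨q0, qv, q0, q0⟩,
    [⟨q0, q0, q0, q0⟩, ⟨q0, q0, q0, q1⟩, ⟨q0, q0, q1, q0⟩, ⟨q0, q0, q1, q1⟩, ⟨qw, q0, q0, q0⟩, ⟨qw, q0, q0, q1⟩, ⟨qw, q0, q1, q0⟩, ⟨qw, q0, q1, q1⟩]),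
  (⟨q1, qw, true, false⟩, ⟨q1, q0, q0, q0⟩,
    [⟨q0, q0, q0, q0⟩, ⟨q0, q0, q0, q1⟩, ⟨q0, q0, q1, q0⟩, ⟨q0, q0, q1, q1⟩, ⟨qw, q0, q0, q0⟩, ⟨qw, q0, q0, q1⟩, ⟨qw, q0, q1, q0⟩, ⟨qw, q0, q1, q1⟩]),
  (⟨q1, qw, true, false⟩, ⟨q1, qv, q0, q0⟩,
    [⟨q0, q0, q0, q0⟩, ⟨q0, q0, q0, q1⟩, ⟨q0, q0, q1, q0⟩, ⟨q0, q0, q1, q1⟩, ⟨qw, q0, q0, q0⟩, ⟨qw, q0, q0, q1⟩, ⟨qw, q0, q1, q0⟩, ⟨qw, q0, q1, q1⟩]),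
  (⟨q1, qv, true, false⟩, ⟨q0, q0, q0, q0⟩,
    [⟨q0, q0, q0, q0⟩, ⟨q0, q0, q0, q1⟩, ⟨q0, q0, q1, q0⟩, ⟨q0, q0, q1, q1⟩, ⟨qw, q0, q0, q0⟩, ⟨qw, q0, q0, q1⟩, ⟨qw, q0, q1, q0⟩, ⟨qw, q0, q1, q1⟩]),
  (⟨q1, qv, true, false⟩, ⟨q0, qw, q0, q0⟩,
    [⟨q0, q0, q0, q0⟩, ⟨q0, q0, q0, q1⟩, ⟨q0, q0, q1, q0⟩, ⟨q0, q0, q1, q1⟩, ⟨qw, q0, q0, q0⟩, ⟨qw, q0, q0, q1⟩, ⟨qw, q0, q1, q0⟩, ⟨qw, q0, q1, q1⟩]),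
  (⟨q1, qv, true, false⟩, ⟨q1, q0, q0, q0⟩,
    [⟨q0, q0, q0, q0⟩, ⟨q0, q0, q0, q1⟩, ⟨q0, q0, q1, q0⟩, ⟨q0, q0, q1, q1⟩, ⟨qw, q0, q0, q0⟩, ⟨qw, q0, q0, q1⟩, ⟨qw, q0, q1, q0⟩, ⟨qw, q0, q1, q1⟩]),
  (⟨q1, qv, true, false⟩, ⟨q1, qw, q0, q0⟩,
    [⟨q0, q0, q0, q0⟩, ⟨q0, q0, q0, q1⟩, ⟨q0, q0, q1, q0⟩, ⟨q0, q0, q1, q1⟩, ⟨qw, q0, q0, q0⟩, ⟨qw, q0, q0, q1⟩, ⟨qw, q0, q1, q0⟩, ⟨qw, q0, q1, q1⟩]),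
  (⟨qw, q1, true, false⟩, ⟨q0, q0, q0, q0⟩,
    [⟨q0, q0, q0, q0⟩, ⟨q0, q0, q0, q1⟩, ⟨q0, q0, q1, q0⟩, ⟨q0, q0, q1, q1⟩, ⟨q1, q0, q0, q0⟩, ⟨q1, q0, q0, q1⟩, ⟨q1, q0, q1, q0⟩, ⟨q1, q0, q1, q1⟩]),
  (⟨qw, q1, true, false⟩, ⟨q0, q1, q0, q0⟩,
    [⟨q0, q0, q0, q0⟩, ⟨q0, q0, q0, q1⟩, ⟨q0, q0, q1, q0⟩, ⟨q0, q0, q1, q1⟩, ⟨q1, q0, q0, q0⟩, ⟨q1, q0, q0, q1⟩, ⟨q1, q0, q1, q0⟩, ⟨q1, q0, q1, q1⟩]),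
  (⟨qw, q1, true, false⟩, ⟨qv, q0, q0, q0⟩,
    [⟨q0, q0, q0, q0⟩, ⟨q0, q0, q0, q1⟩, ⟨q0, q0, q1, q0⟩, ⟨q0, q0, q1, q1⟩, ⟨q1, q0, q0, q0⟩, ⟨q1, q0, q0, q1⟩, ⟨q1, q0, q1, q0⟩, ⟨q1, q0, q1, q1⟩]),
  (⟨qw, q1, true, false⟩, ⟨qv, q1, q0, q0⟩,
    [⟨q0, q0, q0, q0⟩, ⟨q0, q0, q0, q1⟩, ⟨q0, q0, q1, q0⟩, ⟨q0, q0, q1, q1⟩, ⟨q1, q0, q0, q0⟩, ⟨q1, q0, q0, q1⟩, ⟨q1, q0, q1, q0⟩, ⟨q1, q0, q1, q1⟩]),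
  (⟨qw, qw, true, false⟩, ⟨q0, q0, q0, q0⟩,
    [⟨q0, q0, q0, q0⟩, ⟨q0, q0, q0, qw⟩, ⟨q0, q0, q1, q0⟩, ⟨q0, q0, q1, qw⟩, ⟨q1, q0, q0, q0⟩, ⟨q1, q0, q0, qw⟩, ⟨q1, q0, q1, q0⟩, ⟨q1, q0, q1, qw⟩]),
  (⟨qw, qw, true, false⟩, ⟨q0, qv, q0, q0⟩,
    [⟨q0, q0, q0, q0⟩, ⟨q0, q0, q0, qw⟩, ⟨q0, q0, q1, q0⟩, ⟨q0, q0, q1, qw⟩, ⟨q1, q0, q0, q0⟩, ⟨q1, q0, q0, qw⟩, ⟨q1, q0, q1, q0⟩, ⟨q1, q0, q1, qw⟩]),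
  (⟨qw, qw, true, false⟩, ⟨qv, q0, q0, q0⟩,
    [⟨q0, q0, q0, q0⟩, ⟨q0, q0, q0, qw⟩, ⟨q0, q0, q1, q0⟩, ⟨q0, q0, q1, qw⟩, ⟨q1, q0, q0, q0⟩, ⟨q1, q0, q0, qw⟩, ⟨q1, q0, q1, q0⟩, ⟨q1, q0, q1, qw⟩]),
  (⟨qw, qw, true, false⟩, ⟨qv, qv, q0, q0⟩,
    [⟨q0, q0, q0, q0⟩, ⟨q0, q0, q0, qw⟩, ⟨q0, q0, q1, q0⟩, ⟨q0, q0, q1, qw⟩, ⟨q1, q0, q0, q0⟩, ⟨q1, q0, q0, qw⟩, ⟨q1, q0, q1, q0⟩, ⟨q1, q0, q1, qw⟩]),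
  (⟨qw, qw, true, true⟩, ⟨q0, q0, q0, q0⟩,
    [⟨q0, q0, q0, q0⟩, ⟨q0, q0, q1, q0⟩, ⟨q1, qw, q0, q0⟩, ⟨q1, qw, q1, q0⟩, ⟨qw, q1, q0, q0⟩, ⟨qw, q1, q1, q0⟩, ⟨qv, qv, q0, q0⟩, ⟨qv, qv, q1, q0⟩]),
  (⟨qw, qw, true, true⟩, ⟨q1, qw, q0, q0⟩,
    [⟨q0, q0, q0, q0⟩, ⟨q0, q0, q1, q0⟩, ⟨q1, qw, q0, q0⟩, ⟨q1, qw, q1, q0⟩, ⟨qw, q1, q0, q0⟩, ⟨qw, q1, q1, q0⟩, ⟨qv, qv, q0, q0⟩, ⟨qv, qv, q1, q0⟩]),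
  (⟨qw, qw, true, true⟩, ⟨qw, q1, q0, q0⟩,
    [⟨q0, q0, q0, q0⟩, ⟨q0, q0, q1, q0⟩, ⟨q1, qw, q0, q0⟩, ⟨q1, qw, q1, q0⟩, ⟨qw, q1, q0, q0⟩, ⟨qw, q1, q1, q0⟩, ⟨qv, qv, q0, q0⟩, ⟨qv, qv, q1, q0⟩]),
  (⟨qw, qw, true, true⟩, ⟨qv, qv, q0, q0⟩,
    [⟨q0, q0, q0, q0⟩, ⟨q0, q0, q1, q0⟩, ⟨q1, qw, q0, q0⟩, ⟨q1, qw, q1, q0⟩, ⟨qw, q1, q0, q0⟩, ⟨qw, q1, q1, q0⟩, ⟨qv, qv, q0, q0⟩, ⟨qv, qv, q1, q0⟩]),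
  (⟨qw, qv, false, true⟩, ⟨q0, q0, q0, q0⟩,
    [⟨q0, q0, q0, q0⟩, ⟨q0, q0, q0, q1⟩, ⟨q1, qv, q0, q0⟩, ⟨q1, qv, q0, q1⟩, ⟨qw, q1, q0, q0⟩, ⟨qw, q1, q0, q1⟩, ⟨qv, qw, q0, q0⟩, ⟨qv, qw, q0, q1⟩]),
  (⟨qw, qv, false, true⟩, ⟨q1, qv, q0, q0⟩,
    [⟨q0, q0, q0, q0⟩, ⟨q0, q0, q0, q1⟩, ⟨q1, qv, q0, q0⟩, ⟨q1, qv, q0, q1⟩, ⟨qw, q1, q0, q0⟩, ⟨qw, q1, q0, q1⟩, ⟨qv, qw, q0, q0⟩, ⟨qv, qw, q0, q1⟩]),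
  (⟨qw, qv, false, true⟩, ⟨qw, q1, q0, q0⟩,
    [⟨q0, q0, q0, q0⟩, ⟨q0, q0, q0, q1⟩, ⟨q1, qv, q0, q0⟩, ⟨q1, qv, q0, q1⟩, ⟨qw, q1, q0, q0⟩, ⟨qw, q1, q0, q1⟩, ⟨qv, qw, q0, q0⟩, ⟨qv, qw, q0, q1⟩]),
  (⟨qw, qv, false, true⟩, ⟨qv, qw, q0, q0⟩,
    [⟨q0, q0, q0, q0⟩, ⟨q0, q0, q0, q1⟩, ⟨q1, qv, q0, q0⟩, ⟨q1, qv, q0, q1⟩, ⟨qw, q1, q0, q0⟩, ⟨qw, q1, q0, q1⟩, ⟨qv, qw, q0, q0⟩, ⟨qv, qw, q0, q1⟩]),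
  (⟨qw, qv, true, false⟩, ⟨q0, q0, q0, q0⟩,
    [⟨q0, q0, q0, q0⟩, ⟨q0, q0, q0, q1⟩, ⟨q0, q0, qw, q0⟩, ⟨q0, q0, qw, q1⟩, ⟨q1, q0, q0, q0⟩, ⟨q1, q0, q0, q1⟩, ⟨q1, q0, qw, q0⟩, ⟨q1, q0, qw, q1⟩]),
  (⟨qw, qv, true, false⟩, ⟨q0, qw, q0, q0⟩,
    [⟨q0, q0, q0, q0⟩, ⟨q0, q0, q0, q1⟩, ⟨q0, q0, qw, q0⟩, ⟨q0, q0, qw, q1⟩, ⟨q1, q0, q0, q0⟩, ⟨q1, q0, q0, q1⟩, ⟨q1, q0, qw, q0⟩, ⟨q1, q0, qw, q1⟩]),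
  (⟨qw, qv, true, false⟩, ⟨qv, q0, q0, q0⟩,
    [⟨q0, q0, q0, q0⟩, ⟨q0, q0, q0, q1⟩, ⟨q0, q0, qw, q0⟩, ⟨q0, q0, qw, q1⟩, ⟨q1, q0, q0, q0⟩, ⟨q1, q0, q0, q1⟩, ⟨q1, q0, qw, q0⟩, ⟨q1, q0, qw, q1⟩]),
  (⟨qw, qv, true, false⟩, ⟨qv, qw, q0, q0⟩,
    [⟨q0, q0, q0, q0⟩, ⟨q0, q0, q0, q1⟩, ⟨q0, q0, qw, q0⟩, ⟨q0, q0, qw, q1⟩, ⟨q1, q0, q0, q0⟩, ⟨q1, q0, q0, q1⟩, ⟨q1, q0, qw, q0⟩, ⟨q1, q0, qw, q1⟩]),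
  (⟨qv, q1, true, false⟩, ⟨q0, q0, q0, q0⟩,
    [⟨q0, q0, q0, q0⟩, ⟨q0, q0, q0, q1⟩, ⟨q0, q0, q1, q0⟩, ⟨q0, q0, q1, q1⟩, ⟨q1, q0, q0, q0⟩, ⟨q1, q0, q0, q1⟩, ⟨q1, q0, q1, q0⟩, ⟨q1, q0, q1, q1⟩]),
  (⟨qv, q1, true, false⟩, ⟨q0, q1, q0, q0⟩,
    [⟨q0, q0, q0, q0⟩, ⟨q0, q0, q0, q1⟩, ⟨q0, q0, q1, q0⟩, ⟨q0, q0, q1, q1⟩, ⟨q1, q0, q0, q0⟩, ⟨q1, q0, q0, q1⟩, ⟨q1, q0, q1, q0⟩, ⟨q1, q0, q1, q1⟩]),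
  (⟨qv, q1, true, false⟩, ⟨qw, q0, q0, q0⟩,
    [⟨q0, q0, q0, q0⟩, ⟨q0, q0, q0, q1⟩, ⟨q0, q0, q1, q0⟩, ⟨q0, q0, q1, q1⟩, ⟨q1, q0, q0, q0⟩, ⟨q1, q0, q0, q1⟩, ⟨q1, q0, q1, q0⟩, ⟨q1, q0, q1, q1⟩]),
  (⟨qv, q1, true, false⟩, ⟨qw, q1, q0, q0⟩,
    [⟨q0, q0, q0, q0⟩, ⟨q0, q0, q0, q1⟩, ⟨q0, q0, q1, q0⟩, ⟨q0, q0, q1, q1⟩, ⟨q1, q0, q0, q0⟩, ⟨q1, q0, q0, q1⟩, ⟨q1, q0, q1, q0⟩, ⟨q1, q0, q1, q1⟩]),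
  (⟨qv, qw, false, true⟩, ⟨q0, q0, q0, q0⟩,
    [⟨q0, q0, q0, q0⟩, ⟨q0, q0, q0, q1⟩, ⟨q1, qw, q0, q0⟩, ⟨q1, qw, q0, q1⟩, ⟨qw, qv, q0, q0⟩, ⟨qw, qv, q0, q1⟩, ⟨qv, q1, q0, q0⟩, ⟨qv, q1, q0, q1⟩]),
  (⟨qv, qw, false, true⟩, ⟨q1, qw, q0, q0⟩,
    [⟨q0, q0, q0, q0⟩, ⟨q0, q0, q0, q1⟩, ⟨q1, qw, q0, q0⟩, ⟨q1, qw, q0, q1⟩, ⟨qw, qv, q0, q0⟩, ⟨qw, qv, q0, q1⟩, ⟨qv, q1, q0, q0⟩, ⟨qv, q1, q0, q1⟩]),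
  (⟨qv, qw, false, true⟩, ⟨qw, qv, q0, q0⟩,
    [⟨q0, q0, q0, q0⟩, ⟨q0, q0, q0, q1⟩, ⟨q1, qw, q0, q0⟩, ⟨q1, qw, q0, q1⟩, ⟨qw, qv, q0, q0⟩, ⟨qw, qv, q0, q1⟩, ⟨qv, q1, q0, q0⟩, ⟨qv, q1, q0, q1⟩]),
  (⟨qv, qw, false, true⟩, ⟨qv, q1, q0, q0⟩,
    [⟨q0, q0, q0, q0⟩, ⟨q0, q0, q0, q1⟩, ⟨q1, qw, q0, q0⟩, ⟨q1, qw, q0, q1⟩, ⟨qw, qv, q0, q0⟩, ⟨qw, qv, q0, q1⟩, ⟨qv, q1, q0, q0⟩, ⟨qv, q1, q0, q1⟩]),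
  (⟨qv, qw, true, false⟩, ⟨q0, q0, q0, q0⟩,
    [⟨q0, q0, q0, q0⟩, ⟨q0, q0, q0, q1⟩, ⟨q0, q0, qw, q0⟩, ⟨q0, q0, qw, q1⟩, ⟨q1, q0, q0, q0⟩, ⟨q1, q0, q0, q1⟩, ⟨q1, q0, qw, q0⟩, ⟨q1, q0, qw, q1⟩]),
  (⟨qv, qw, true, false⟩, ⟨q0, qv, q0, q0⟩,
    [⟨q0, q0, q0, q0⟩, ⟨q0, q0, q0, q1⟩, ⟨q0, q0, qw, q0⟩, ⟨q0, q0, qw, q1⟩, ⟨q1, q0, q0, q0⟩, ⟨q1, q0, q0, q1⟩, ⟨q1, q0, qw, q0⟩, ⟨q1, q0, qw, q1⟩]),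
  (⟨qv, qw, true, false⟩, ⟨qw, q0, q0, q0⟩,
    [⟨q0, q0, q0, q0⟩, ⟨q0, q0, q0, q1⟩, ⟨q0, q0, qw, q0⟩, ⟨q0, q0, qw, q1⟩, ⟨q1, q0, q0, q0⟩, ⟨q1, q0, q0, q1⟩, ⟨q1, q0, qw, q0⟩, ⟨q1, q0, qw, q1⟩]),
  (⟨qv, qw, true, false⟩, ⟨qw, qv, q0, q0⟩,
    [⟨q0, q0, q0, q0⟩, ⟨q0, q0, q0, q1⟩, ⟨q0, q0, qw, q0⟩, ⟨q0, q0, qw, q1⟩, ⟨q1, q0, q0, q0⟩, ⟨q1, q0, q0, q1⟩, ⟨q1, q0, qw, q0⟩, ⟨q1, q0, qw, q1⟩]),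
  (⟨qv, qv, true, false⟩, ⟨q0, q0, q0, q0⟩,
    [⟨q0, q0, q0, q0⟩, ⟨q0, q0, q0, qw⟩, ⟨q0, q0, q1, q0⟩, ⟨q0, q0, q1, qw⟩, ⟨q1, q0, q0, q0⟩, ⟨q1, q0, q0, qw⟩, ⟨q1, q0, q1, q0⟩, ⟨q1, q0, q1, qw⟩]),
  (⟨qv, qv, true, false⟩, ⟨q0, qw, q0, q0⟩,
    [⟨q0, q0, q0, q0⟩, ⟨q0, q0, q0, qw⟩, ⟨q0, q0, q1, q0⟩, ⟨q0, q0, q1, qw⟩, ⟨q1, q0, q0, q0⟩, ⟨q1, q0, q0, qw⟩, ⟨q1, q0, q1, q0⟩, ⟨q1, q0, q1, qw⟩]),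
  (⟨qv, qv, true, false⟩, ⟨qw, q0, q0, q0⟩,
    [⟨q0, q0, q0, q0⟩, ⟨q0, q0, q0, qw⟩, ⟨q0, q0, q1, q0⟩, ⟨q0, q0, q1, qw⟩, ⟨q1, q0, q0, q0⟩, ⟨q1, q0, q0, qw⟩, ⟨q1, q0, q1, q0⟩, ⟨q1, q0, q1, qw⟩]),
  (⟨qv, qv, true, false⟩, ⟨qw, qw, q0, q0⟩,
    [⟨q0, q0, q0, q0⟩, ⟨q0, q0, q0, qw⟩, ⟨q0, q0, q1, q0⟩, ⟨q0, q0, q1, qw⟩, ⟨q1, q0, q0, q0⟩, ⟨q1, q0, q0, qw⟩, ⟨q1, q0, q1, q0⟩, ⟨q1, q0, q1, qw⟩]),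
  (⟨qv, qv, true, true⟩, ⟨q0, q0, q0, q0⟩,
    [⟨q0, q0, q0, q0⟩, ⟨q0, q0, q1, q0⟩, ⟨q1, qv, q0, q0⟩, ⟨q1, qv, q1, q0⟩, ⟨qw, qw, q0, q0⟩, ⟨qw, qw, q1, q0⟩, ⟨qv, q1, q0, q0⟩, ⟨qv, q1, q1, q0⟩]),
  (⟨qv, qv, true, true⟩, ⟨q1, qv, q0, q0⟩,
    [⟨q0, q0, q0, q0⟩, ⟨q0, q0, q1, q0⟩, ⟨q1, qv, q0, q0⟩, ⟨q1, qv, q1, q0⟩, ⟨qw, qw, q0, q0⟩, ⟨qw, qw, q1, q0⟩, ⟨qv, q1, q0, q0⟩, ⟨qv, q1, q1, q0⟩]),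
  (⟨qv, qv, true, true⟩, ⟨qw, qw, q0, q0⟩,
    [⟨q0, q0, q0, q0⟩, ⟨q0, q0, q1, q0⟩, ⟨q1, qv, q0, q0⟩, ⟨q1, qv, q1, q0⟩, ⟨qw, qw, q0, q0⟩, ⟨qw, qw, q1, q0⟩, ⟨qv, q1, q0, q0⟩, ⟨qv, q1, q1, q0⟩]),
  (⟨qv, qv, true, true⟩, ⟨qv, q1, q0, q0⟩,
    [⟨q0, q0, q0, q0⟩, ⟨q0, q0, q1, q0⟩, ⟨q1, qv, q0, q0⟩, ⟨q1, qv, q1, q0⟩, ⟨qw, qw, q0, q0⟩, ⟨qw, qw, q1, q0⟩, ⟨qv, q1, q0, q0⟩, ⟨qv, q1, q1, q0⟩])]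

/-- The translations of a twisted involutive model. -/
def fusedList (k : AK) (t : TC) : List TC :=
  match fusedTable.find? fun e => decide (e.1 = k) && decide (e.2.1 = t) with
  | some e => e.2.2.map fun s => tw k t s * s⁻¹
  | none => []

/-- The candidate codes. -/
def outerList : List AK :=
  [q1, qw, qv].flatMap fun p => [q1, qw, qv].flatMap fun q =>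
    [(true, false), (false, true), (true, true)].map fun o => ⟨p, q, o.1, o.2⟩

theorem fused_check : (outerList.all fun k => twists.all fun t =>
    bif ([e₁, e₂, e₃, e₄].all fun e => decide (tw k t (tw k t e) = e)) then
      decide ((fusedList k t).length = 8) && decide ((fusedList k t).Nodup) &&
        ((fusedList k t).all fun z => decide (tw k t z = z) && decide (z * z = 1)) &&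
        ((fusedList k t).all fun z => (fusedList k t).all fun z' => (fusedList k t).any fun y => decide (y = z * z'))
    else true) = true := by
  decide +kernel

theorem mem_twists : ∀ a b : Q4, (⟨a, b, q0, q0⟩ : TC) ∈ twists := by decide

theorem mem_outerList : ∀ k : AK, k.p ≠ q0 → k.q ≠ q0 → ¬ (k.e = false ∧ k.s = false) → k ∈ outerList := by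
  decide +kernel

theorem fusedList_spec {k : AK} {t z : TC} (hz : z ∈ fusedList k t) : ∃ s, tw k t s * s⁻¹ = z := by
  unfold fusedList at hz
  split at hz
  · obtain ⟨s, -, rfl⟩ := List.mem_map.mp hz
    exact ⟨s, rfl⟩
  · simp at hz

end CfsgLib.HeStd
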