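import Cfsg.Agent.Lib.HeStd.Moves

/-!
# Involutions exchanging the two elementary subgroups are not fused
-/

set_option autoImplicit false
set_option linter.style.haveILetI false
set_option linter.unusedSectionVars false

namespace CfsgLib.HeStd

universe u

theorem gam_scalars : ∀ k : AK, k.p ≠ q0 → k.q ≠ q0 → k.s = true → k.e = false →
    (∀ p : Q4, act k (act k (zc p q0)) = zc p q0) → k.q = qsq k.p := by decide +kernel

theorem gam_normalise : ∀ p : Q4, p ≠ q0 → ∃ r s : Q4, r ≠ q0 ∧ s ≠ q0 ∧ ∀ y : TC,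
    act ⟨r, s, false, false⟩ (act ⟨p, qsq p, false, true⟩ (act ⟨qsq r, qsq s, false, false⟩ y)) = gam y := by
  decide +kernel

theorem scl_inv : ∀ r s : Q4, r ≠ q0 → s ≠ q0 → ∀ y : TC,
    act ⟨r, s, false, false⟩ (act ⟨qsq r, qsq s, false, false⟩ y) = y := by decide +kernel

theorem gam_split : ∀ t ∈ twists,
    (∀ e ∈ [e₁, e₂, e₃, e₄], cjt t (gam (cjt t (gam e))) = e) →
    ∃ s ∈ twists, ∀ e ∈ [e₁, e₂, e₃, e₄], cjt s (cjt t (gam (cjt s⁻¹ e))) = gam e := by decide +kernel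

theorem gam_tor : ∀ x : TC, gam (tor x) = tor (gam x) := by decide +kernel

theorem gam_shift : ∀ y : Q4, ∃ s : TC, gam s * s⁻¹ = zc y q0 := by
  have key : ∀ y : Q4, ∃ a v : Q4,
      gam (⟨a, a, q0, v⟩ : TC) * (⟨a, a, q0, v⟩ : TC)⁻¹ = zc y q0 := by decide +kernel
  intro y
  obtain ⟨a, v, h⟩ := key y
  exact ⟨_, h⟩

theorem swap_out : ∀ k : AK, k.p ≠ q0 → k.q ≠ q0 → k.s = true → k.e = true → ∀ e s : Bool,
    (readK (th0 (act ⟨q1, q1, e, s⟩ (act k (invG e s e₁)))) (th0 (act ⟨q1, q1, e, s⟩ (act k (invG e s e₂))))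
      (th0 (act ⟨q1, q1, e, s⟩ (act k (invG e s e₃))))).out = (false, true) ∧
    ∀ v : Q4, act k (invG e s (zc q0 v)) = zc (act k (invG e s (zc q0 v))).c q0 := by decide +kernel

theorem tor_order : ∀ cc v : Q4, tor (zc cc v) * tor (tor (zc cc v)) * zc cc v = 1 → v = q0 := by
  decide +kernel

theorem cc_fix : ∀ cc : Q4, zc cc q0 * (tor (tor (zc (qmul qv cc) q0)) * (zc (qmul qv cc) q0)⁻¹) = 1 := by
  decide +kernel

theorem qv_cases : qadd q1 qw = qv ∧ qmul qw q1 = qw ∧ qmul qw qw = qv := by decide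

namespace Ctx

variable {G : Type u} [Group G] {c : Ctx G} [Finite G] [IsSimpleGroup G]

theorem conj_h (x : TC) : (c.d.h : G) * c.ι x * (c.d.h : G)⁻¹ = c.ι (tor x) := by
  rw [ι_def, ι_def, ← c.d.h_conj]; rfl

theorem exact_comm_h {x : G} (hN : x ∈ c.N) (hx : ∀ y, x * c.ι y * x⁻¹ = c.ι (gam y)) :
    ∃ cc, x * (c.d.h : G) * x⁻¹ = (c.d.h : G) * c.ι (zc cc q0) := by
  set h := (c.d.h : G) with hh
  have conjh : ∀ x, h * c.ι x * h⁻¹ = c.ι (tor x) := fun x => conj_h x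
  set m := h⁻¹ * (x * h * x⁻¹) with hm
  have hmL : m ∈ c.L := c.L.mul_mem (c.L.inv_mem c.d.h.2) (c.conj_L hN c.d.h.2)
  have hmc : ∀ y, m * c.ι y = c.ι y * m := by
    intro y
    obtain ⟨w, hw⟩ := (Finite.injective_iff_surjective.mp (show Function.Injective gam from fun a b e => c.inj (by
      have h := congrArg c.ι e
      rw [← hx, ← hx] at h
      exact mul_left_cancel (mul_right_cancel h :)))) y
    have e : x * h * x⁻¹ * c.ι y * (x * h * x⁻¹)⁻¹ = c.ι (tor y) := by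
      rw [← hw, ← gam_tor, ← hx w, ← hx (tor w), ← conjh]
      group
    rw [← conjh] at e
    calc m * c.ι y = h⁻¹ * (x * h * x⁻¹ * c.ι y * (x * h * x⁻¹)⁻¹) * (x * h * x⁻¹) := by rw [hm]; group
      _ = _ := by rw [e, hm]; group
  obtain ⟨u, hu⟩ := c.mem_T_of_cent hmL (cc := q1) (v := q0) (by decide) (hmc _)
  obtain ⟨hua, hub⟩ : u.a = q0 ∧ u.b = q0 := by
    have hc : ∀ y, u * y = y * u := fun y => c.inj (by rw [map_mul, map_mul, hu]; exact hmc y)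
    have key : ∀ u : TC, u * e₁ = e₁ * u → u * e₃ = e₃ * u → u.a = q0 ∧ u.b = q0 := by decide +kernel
    exact key u (hc _) (hc _)
  have e1 : x * h * x⁻¹ = h * c.ι (zc u.c u.v) := by
    rw [show zc u.c u.v = u from TC.ext hua.symm hub.symm rfl rfl, hu, hm]; group
  have hv : u.v = q0 := by
    refine tor_order u.c u.v (c.inj ?_)
    have h3 : h * h * h = 1 := congrArg Subtype.val c.d.h3
    have e3 : (h * c.ι (zc u.c u.v)) * (h * c.ι (zc u.c u.v)) * (h * c.ι (zc u.c u.v)) = 1 := by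
      rw [← e1, show x * h * x⁻¹ * (x * h * x⁻¹) * (x * h * x⁻¹) = x * (h * h * h) * x⁻¹ by group, h3,
        mul_one, mul_inv_cancel]
    rw [map_one, ← e3, map_mul, map_mul, ← conjh (tor (zc u.c u.v)), ← conjh (zc u.c u.v)]
    set w := c.ι (zc u.c u.v)
    calc (h * w * h⁻¹) * (h * (h * w * h⁻¹) * h⁻¹) * w
        = (h * w * h⁻¹) * (h * (h * w * h⁻¹) * h⁻¹) * ((h * h * h) * w) := by rw [h3, one_mul]
      _ = _ := by group
  exact ⟨u.c, by rw [e1, hv]⟩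

theorem not_fus_gam {x : G} (hx : x ∈ c.NT) (hs : (c.code ⟨x, hx⟩).out = (false, true)) : ¬ c.Fus x := by
  intro hF
  haveI : Fact (Nat.Prime 2) := ⟨Nat.prime_two⟩
  obtain ⟨hxx, -⟩ := hF.sq
  obtain ⟨hp, hq, t, ht⟩ := c.code_spec ⟨x, hx⟩
  set k := c.code ⟨x, hx⟩
  have hke : k.e = false := congrArg Prod.fst hs
  have hks : k.s = true := congrArg Prod.snd hs
  have hsq : ∀ y, t * act k (t * act k y * t⁻¹) * t⁻¹ = y := fun y => c.inj (by
    rw [← ht, ← ht, show x * (x * c.ι y * x⁻¹) * x⁻¹ = (x * x) * c.ι y * (x * x)⁻¹ by group, hxx]; group)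
  have hq' : k.q = qsq k.p := gam_scalars k hp hq hks hke fun p => by
    have h := hsq (zc p q0)
    obtain ⟨h1, h2⟩ : (act k (zc p q0)).a = q0 ∧ (act k (zc p q0)).b = q0 := by
      have key : ∀ k : AK, ∀ p : Q4, (act k (zc p q0)).a = q0 ∧ (act k (zc p q0)).b = q0 := by decide +kernel
      exact key k p
    have e : act k (zc p q0) = zc (act k (zc p q0)).c (act k (zc p q0)).v := TC.ext h1 h2 rfl rfl
    rw [show t * act k (zc p q0) * t⁻¹ = act k (zc p q0) by rw [e, conj_central]] at h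
    calc act k (act k (zc p q0)) = t⁻¹ * (t * act k (act k (zc p q0)) * t⁻¹) * t := by group
      _ = _ := by rw [h, mul_assoc, ← zc_comm, inv_mul_cancel_left]
  obtain ⟨r, s, hr, hs', hrs⟩ := gam_normalise k.p hp
  obtain ⟨n, hn, hn'⟩ := exists_scl (c := c) hr hs'
  have hkk : k = ⟨k.p, qsq k.p, false, true⟩ := AK.ext rfl hq' hke hks
  set t' := act ⟨r, s, false, false⟩ t
  have hy' : ∀ y, n * x * n⁻¹ * c.ι y * (n * x * n⁻¹)⁻¹ = c.ι (cjt t' (gam y)) := by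
    intro y
    have e : c.ι y = n * c.ι (act ⟨qsq r, qsq s, false, false⟩ y) * n⁻¹ := by rw [hn', scl_inv r s hr hs']
    rw [e, show n * x * n⁻¹ * (n * c.ι (act ⟨qsq r, qsq s, false, false⟩ y) * n⁻¹) * (n * x * n⁻¹)⁻¹ =
      n * (x * c.ι (act ⟨qsq r, qsq s, false, false⟩ y) * x⁻¹) * n⁻¹ by group, ht, hn', cjt,
      ← hrs, ← hkk]
    congr 1
    rw [← actH_apply, map_mul, map_mul, map_inv]
    rfl
  set y₁ := n * x * n⁻¹
  have hy1N : y₁ ∈ c.N := c.N.mul_mem (c.N.mul_mem hn.1 hx.1) (c.N.inv_mem hn.1)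
  have hF1 : c.Fus y₁ := hF.conj n
  obtain ⟨hyy, -⟩ := hF1.sq
  obtain ⟨s₀, -, hs₀⟩ := gam_split ⟨t'.a, t'.b, q0, q0⟩ (mem_twists _ _) fun e _ => c.inj (by
    have e2 : ∀ y, cjt ⟨t'.a, t'.b, q0, q0⟩ y = cjt t' y := fun y => (conj_twist t' y).symm
    rw [e2, e2, ← hy', ← hy', show y₁ * (y₁ * c.ι e * y₁⁻¹) * y₁⁻¹ = (y₁ * y₁) * c.ι e * (y₁ * y₁)⁻¹ by group,
      hyy]
    group)
  set y₂ := c.ι s₀ * y₁ * (c.ι s₀)⁻¹ with hy2
  have hy2N : y₂ ∈ c.N := c.N.mul_mem (c.N.mul_mem (c.ι_mem_N _) hy1N) (c.N.inv_mem (c.ι_mem_N _))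
  have hg : ∀ y, y₂ * c.ι y * y₂⁻¹ = c.ι (gam y) := by
    intro y
    have hhom := hom_ext (φ := ((MulAut.conj y₂).toMonoidHom.comp c.ι)) (ψ := c.ι.comp (MonoidHom.mk' gam gam_mul))
      ?_ ?_ ?_ ?_
    · exact DFunLike.congr_fun hhom y
    all_goals
      show y₂ * c.ι _ * y₂⁻¹ = c.ι (gam _)
      rw [← hs₀ _ (by simp), hy2,
        show ∀ a b g : G, a * b * a⁻¹ * g * (a * b * a⁻¹)⁻¹ = a * (b * (a⁻¹ * g * a) * b⁻¹) * a⁻¹ from
          fun a b g => by group,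
        show ∀ w, (c.ι s₀)⁻¹ * c.ι w * c.ι s₀ = c.ι (cjt s₀⁻¹ w) from fun w => by
          rw [cjt, inv_inv, map_mul, map_mul, map_inv],
        hy', show ∀ z, cjt ⟨t'.a, t'.b, q0, q0⟩ z = cjt t' z from fun z => (conj_twist t' z).symm]
      simp only [cjt, map_mul, map_inv]
  obtain ⟨cc, hcc⟩ := exact_comm_h hy2N hg
  have hF2 : c.Fus y₂ := hF1.conj _
  obtain ⟨hy22, -⟩ := hF2.sq
  have hy2i : y₂⁻¹ = y₂ := inv_eq_of_mul_eq_one_right hy22
  obtain ⟨sh, hsh⟩ := gam_shift (qmul qv cc)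
  set x' := y₂ * c.ι (zc (qmul qv cc) q0) with hx'
  have hF' : c.Fus x' := by
    have e : x' = c.ι sh * y₂ * (c.ι sh)⁻¹ := by
      rw [hx', ← hsh, map_mul, map_inv, ← hg, show y₂ * (y₂ * c.ι sh * y₂⁻¹ * (c.ι sh)⁻¹) =
        (y₂ * y₂) * c.ι sh * y₂⁻¹ * (c.ι sh)⁻¹ by group, hy22, one_mul, hy2i]
    rw [e]; exact hF2.conj _
  have hgY : ∀ p, x' * c.yg p * x'⁻¹ = c.yg p := fun p => by
    have key : ∀ p : Q4, gam (zc p q0) = zc p q0 := by decide +kernel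
    rw [yg, hx', show y₂ * c.ι (zc (qmul qv cc) q0) * c.ι (zc p q0) * (y₂ * c.ι (zc (qmul qv cc) q0))⁻¹ =
      y₂ * (c.ι (zc (qmul qv cc) q0) * c.ι (zc p q0) * (c.ι (zc (qmul qv cc) q0))⁻¹) * y₂⁻¹ by group,
      ← map_inv, ← map_mul, ← map_mul, conj_central, hg, key]
  set h := (c.d.h : G)
  have hxh : x' * h * x'⁻¹ = h := by
    set w := zc (qmul qv cc) q0
    have h3 : h * h * h = 1 := congrArg Subtype.val c.d.h3
    have e5 : h⁻¹ * c.ι w * h = c.ι (tor (tor w)) := by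
      have h2 : h * h = h⁻¹ := eq_inv_of_mul_eq_one_left h3
      rw [← conj_h, ← conj_h,
        show h * (h * c.ι w * h⁻¹) * h⁻¹ = (h * h) * c.ι w * (h * h)⁻¹ by group, h2, inv_inv]
    have hw : gam (tor (tor w) * w⁻¹) = tor (tor w) * w⁻¹ := by
      have key : ∀ q : Q4, gam (tor (tor (zc q q0)) * (zc q q0)⁻¹) = tor (tor (zc q q0)) * (zc q q0)⁻¹ := by
        decide +kernel
      exact key _
    rw [hx', show y₂ * c.ι w * h * (y₂ * c.ι w)⁻¹ = y₂ * (h * ((h⁻¹ * c.ι w * h) * (c.ι w)⁻¹)) * y₂⁻¹ by group,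
      e5, ← map_inv, ← map_mul, show y₂ * (h * c.ι (tor (tor w) * w⁻¹)) * y₂⁻¹ =
      (y₂ * h * y₂⁻¹) * (y₂ * c.ι (tor (tor w) * w⁻¹) * y₂⁻¹) by group, hcc, hg, hw, mul_assoc, ← map_mul,
      cc_fix, map_one, mul_one]
  -- in the frame of `x'`
  obtain ⟨g, rr, hrr, hr2, hgr⟩ := hF'
  have hFr : ∀ e, x' * e * x'⁻¹ = e → g⁻¹ * e * g ∈ c.N := fun e he => by
    refine c.centralizer_le hrr hr2 ?_
    have he' : x' * e = e * x' := mul_inv_eq_iff_eq_mul.mp he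
    rw [show rr = g⁻¹ * x' * g by rw [← hgr]; group]
    calc g⁻¹ * e * g * (g⁻¹ * x' * g) = g⁻¹ * (e * x') * g := by group
      _ = g⁻¹ * (x' * e) * g := by rw [he']
      _ = _ := by group
  let F : Q4 → c.N := fun p => ⟨g⁻¹ * c.yg p * g, hFr _ (hgY p)⟩
  let H' : c.N := ⟨g⁻¹ * h * g, hFr _ hxh⟩
  have hFeq : ∀ p, c.eps (F (qmul qw p)) = c.eps (F p) := fun p => by
    have e : F (qmul qw p) = H' * F p * H'⁻¹ := Subtype.ext (by
      show g⁻¹ * c.yg (qmul qw p) * g = g⁻¹ * h * g * (g⁻¹ * c.yg p * g) * (g⁻¹ * h * g)⁻¹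
      rw [show g⁻¹ * h * g * (g⁻¹ * c.yg p * g) * (g⁻¹ * h * g)⁻¹ = g⁻¹ * (h * c.yg p * h⁻¹) * g by group,
        yg, yg, conj_h]
      rw [show tor (zc p q0) = zc (qmul qw p) q0 from by
        have key : ∀ p : Q4, tor (zc p q0) = zc (qmul qw p) q0 := by decide
        exact key p])
    rw [e, eps_conj]
  have hF0 : c.eps (F q1) = (false, false) := by
    obtain ⟨h1, h2, h3⟩ := qv_cases
    have hsum : F qv = F q1 * F qw := Subtype.ext (by
      show g⁻¹ * c.yg qv * g = g⁻¹ * c.yg q1 * g * (g⁻¹ * c.yg qw * g)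
      rw [show g⁻¹ * c.yg q1 * g * (g⁻¹ * c.yg qw * g) = g⁻¹ * (c.yg q1 * c.yg qw) * g by group, yg, yg, yg,
        ← map_mul, zc_mul, h1, qadd_self])
    have ew := hFeq q1
    rw [h2] at ew
    have ev := hFeq qw
    rw [h3, ew, hsum, c.eps_mul, ew] at ev
    rw [← ev]
    generalize c.eps (F q1) = a
    revert a
    decide
  set w := g⁻¹ * c.yg q1 * g
  have hwF : c.Fus w := by
    have h := ((fus_iff (c := c) (x := zc q1 q0)).mpr (by decide +kernel)).conj g⁻¹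
    rwa [inv_inv] at h
  obtain ⟨hww, hw1⟩ := hwF.sq
  have hwN : w ∈ c.N := hFr _ (hgY q1)
  obtain ⟨l, hl, hlw⟩ := c.exists_conj_NT (P := Subgroup.zpowers w)
    (IsPGroup.of_card (p := 2) (n := 1) (by
      rw [Nat.card_zpowers, orderOf_eq_prime (by rw [pow_two]; exact hww) hw1, pow_one]))
    (Subgroup.zpowers_le.mpr hwN)
  have hw' := hlw w (Subgroup.mem_zpowers _)
  have how : (c.code ⟨l * w * l⁻¹, hw'⟩).out = (false, false) := by
    rw [← c.eps_NT hw', show (⟨l * w * l⁻¹, hw'.1⟩ : c.N) = ⟨l, c.L_le_N hl⟩ * F q1 * ⟨l, c.L_le_N hl⟩⁻¹ from rfl,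
      eps_conj, hF0]
  have hw2 : l * w * l⁻¹ * (l * w * l⁻¹) = 1 := (hwF.conj l).sq.1
  obtain ⟨u, hu⟩ := c.mem_TK (n := ⟨l * w * l⁻¹, hw'⟩) (j := 1) (by rw [pow_one, pow_two]; exact hw2) how
  have hu4 : ((c.ι u)⁻¹ * (l * w * l⁻¹)) ^ 2 ^ 2 = 1 := by
    have hcc' : Commute (c.ι u)⁻¹ (l * w * l⁻¹) := by
      have h0 := (c.comm_K hu u)
      refine Commute.inv_left ?_
      show c.ι u * (l * w * l⁻¹) = l * w * l⁻¹ * c.ι u
      calc c.ι u * (l * w * l⁻¹) = c.ι u * (c.ι u * ((c.ι u)⁻¹ * (l * w * l⁻¹))) := by group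
        _ = c.ι u * (((c.ι u)⁻¹ * (l * w * l⁻¹)) * c.ι u) :=
          congrArg (c.ι u * ·) h0
        _ = _ := by group
    rw [hcc'.mul_pow, inv_pow, ← map_pow, pow_four, map_one, inv_one, one_mul, pow_succ, pow_one, pow_mul,
      pow_two (l * w * l⁻¹), hw2, one_pow]
  obtain ⟨j, hj⟩ := K_two hu hu4
  have ew : l * w * l⁻¹ = c.ι (u * zc q0 j) := by
    rw [map_mul, show c.ι (zc q0 j) = c.vg j from rfl, ← hj, mul_inv_cancel_left]
  set u' := u * zc q0 j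
  have hlr : l * rr * l⁻¹ = rr := by rw [c.mem_K.mp hrr l hl, mul_inv_cancel_right]
  obtain ⟨i, rfl⟩ := K_two hrr (j := 1) (by rw [pow_one, ← hr2, pow_orderOf_eq_one])
  have huF : fusT u' = true := fus_iff.mp (ew ▸ hwF.conj l)
  cases hV : inV u'
  · obtain ⟨m, hm, a, v, ha, hma⟩ := exists_root (c := c) (fusT_shape u' huF).1 hV
    have hv : v = q0 := by
      have h := ((fus_iff (c := c)).mpr huF).conj m
      rw [hma] at h
      exact (fus_central h).resolve_left ha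
    subst hv
    have hi : i ≠ q0 := fun e => by
      rw [e, vg, show zc q0 q0 = (1 : TC) from rfl, map_one, orderOf_one] at hr2
      omega
    have hFxy : c.Fus (x' * c.yg q1) := by
      obtain ⟨sy, hsy⟩ := gam_shift (qadd (qmul qv cc) q1)
      have e : x' * c.yg q1 = c.ι sy * y₂ * (c.ι sy)⁻¹ := by
        rw [hx', yg, mul_assoc, ← map_mul, zc_mul, qadd_self, ← hsy, map_mul, map_inv, ← hg,
          show y₂ * (y₂ * c.ι sy * y₂⁻¹ * (c.ι sy)⁻¹) = (y₂ * y₂) * c.ι sy * y₂⁻¹ * (c.ι sy)⁻¹ by group,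
          hy22, one_mul, hy2i]
      rw [e]; exact hF2.conj _
    have h4 := ((hFxy.conj g⁻¹).conj l).conj m
    rw [inv_inv, show g⁻¹ * (x' * c.yg q1) * g = c.vg i * w by rw [← hgr]; simp only [w]; group,
      show l * (c.vg i * w) * l⁻¹ = (l * c.vg i * l⁻¹) * (l * w * l⁻¹) by group, hlr, ew,
      show m * (c.vg i * c.ι u') * m⁻¹ = (m * c.vg i * m⁻¹) * (m * c.ι u' * m⁻¹) by group, hma,
      c.mem_K.mp (c.vg_mem_K i) m hm, mul_inv_cancel_right, vg, ← map_mul, zc_mul, (qadd_zero _).1,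
      (qadd_zero _).2] at h4
    rcases fus_central h4 with e | e
    · exact ha e
    · exact hi e
  · -- `yg q1` and `x'` lie in one conjugate of `V`
    have hwK : w ∈ c.K := by
      have h := c.conj_K (c.N.inv_mem (c.L_le_N hl)) (ew ▸ c.ι_mem_K_iff.mpr hV : l * w * l⁻¹ ∈ c.K)
      rwa [show l⁻¹ * (l * w * l⁻¹) * l⁻¹⁻¹ = w by group] at h
    obtain ⟨gs, e, s, hgs⟩ := exists_plain_swap (c := c)
    have key : ∀ e s : Bool, ∀ p : Q4, th0 (act ⟨q1, q1, e, s⟩ (zc q0 p)) =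
        zc (th0 (act ⟨q1, q1, e, s⟩ (zc q0 p))).c q0 ∧ invG e s (zc p q0) = zc q0 (invG e s (zc p q0)).v := by
      decide +kernel
    have hVY : ∀ p, gs⁻¹ * c.yg p * gs ∈ c.K := fun p => by
      rw [yg, ← invG_spec e s (zc p q0), ← hgs, (key e s p).2]
      simpa [mul_assoc] using c.ι_V_mem_K _
    have hmN : gs⁻¹ * g ∈ c.N := by
      refine c.mem_N_of_conj hwK (orderOf_eq_prime (by rw [pow_two]; exact hww) hw1) ?_
      rw [show gs⁻¹ * g * w * (gs⁻¹ * g)⁻¹ = gs⁻¹ * c.yg q1 * gs by simp only [w]; group]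
      exact hVY q1
    obtain ⟨i', hi'⟩ := c.conj_vg hmN i
    have ex : x' = c.ι (th0 (act ⟨q1, q1, e, s⟩ (zc q0 i'))) := by
      rw [← hgs, show c.ι (zc q0 i') = c.vg i' from rfl, ← hi', ← hgr]; group
    have h0 := hg e₁
    have hy2L : y₂ = c.ι (th0 (act ⟨q1, q1, e, s⟩ (zc q0 i')) * (zc (qmul qv cc) q0)⁻¹) := by
      rw [map_mul, map_inv, ← ex, hx', mul_inv_cancel_right]
    rw [hy2L, ← map_inv, ← map_mul, ← map_mul] at h0
    have h1 := congrArg TC.a (c.inj h0)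
    rw [(conj_ab _ _).1] at h1
    exact absurd h1 (by decide)

/-- Involutions with a swap in their outer type are not fused. -/
theorem not_fus_swap {x : G} (hx : x ∈ c.N) (hs : (c.eps ⟨x, hx⟩).2 = true) : ¬ c.Fus x := by
  intro hF
  haveI : Fact (Nat.Prime 2) := ⟨Nat.prime_two⟩
  obtain ⟨hxx, hx1⟩ := hF.sq
  obtain ⟨l, hl, hlx⟩ := c.exists_conj_NT (P := Subgroup.zpowers x)
    (IsPGroup.of_card (p := 2) (n := 1) (by
      rw [Nat.card_zpowers, orderOf_eq_prime (by rw [pow_two]; exact hxx) hx1, pow_one]))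
    (Subgroup.zpowers_le.mpr hx)
  set y := l * x * l⁻¹
  have hy : y ∈ c.NT := hlx x (Subgroup.mem_zpowers _)
  have hos : (c.code ⟨y, hy⟩).out.2 = true := by
    rw [← c.eps_NT hy, show (⟨y, hy.1⟩ : c.N) = ⟨l, c.L_le_N hl⟩ * ⟨x, hx⟩ * ⟨l, c.L_le_N hl⟩⁻¹ from rfl,
      eps_conj]
    exact hs
  obtain ⟨hp, hq, t, ht⟩ := c.code_spec ⟨y, hy⟩
  set k := c.code ⟨y, hy⟩
  by_cases hke : k.e = false
  · exact not_fus_gam hy (Prod.ext hke hos) (hF.conj l)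
  obtain ⟨g, e, s, hg⟩ := exists_plain_swap (c := c)
  obtain ⟨-, hV⟩ := swap_out k hp hq hos (Bool.eq_true_of_not_eq_false hke) e s
  have hgi : ∀ z, c.ι z = g * c.ι (invG e s z) * g⁻¹ := fun z => by rw [hg, invG_spec]
  set T' := th0 (act ⟨q1, q1, e, s⟩ t)
  have hconj : ∀ z, g * y * g⁻¹ * c.ι z * (g * y * g⁻¹)⁻¹ =
      c.ι (T' * th0 (act ⟨q1, q1, e, s⟩ (act k (invG e s z))) * T'⁻¹) := fun z => by
    rw [hgi z, show g * y * g⁻¹ * (g * c.ι (invG e s z) * g⁻¹) * (g * y * g⁻¹)⁻¹ =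
      g * (y * c.ι (invG e s z) * y⁻¹) * g⁻¹ by group, ht, hg]
    congr 1
    show (th0H.comp (actH ⟨q1, q1, e, s⟩)) (t * act k (invG e s z) * t⁻¹) = _
    rw [map_mul, map_mul, map_inv]
    rfl
  have hzN : g * y * g⁻¹ ∈ c.N := by
    refine c.mem_N_of_conj (c.vg_mem_K q1) (vg_invol (by decide)) ?_
    rw [vg, hconj, hV q1, c.ι_mem_K_iff]
    have key : ∀ e s : Bool, ∀ p : Q4, inV (th0 (act ⟨q1, q1, e, s⟩ (zc p q0))) = true := by decide +kernel
    have h := key e s (act k (invG e s (zc q0 q1))).c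
    revert h
    generalize th0 (act ⟨q1, q1, e, s⟩ (zc (act k (invG e s (zc q0 q1))).c q0)) = w
    intro h
    simp only [inV, Bool.and_eq_true, decide_eq_true_eq] at h
    rw [show w = zc q0 w.v from TC.ext h.1.1 h.1.2 h.2 rfl, conj_central]
    simp [inV, zc]
  have hzNT : g * y * g⁻¹ ∈ c.NT := by
    refine ⟨hzN, Subgroup.mem_normalizer_iff.mpr fun u => ⟨?_, fun hu => ?_⟩⟩
    · rintro ⟨z, rfl⟩; rw [hconj]; exact c.ι_mem_T _
    · let f : c.T → c.T := fun u => ⟨g * y * g⁻¹ * u * (g * y * g⁻¹)⁻¹, by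
        obtain ⟨z, hz⟩ := u.2
        rw [← hz, hconj]; exact c.ι_mem_T _⟩
      have hinj : Function.Injective f := fun a b e =>
        Subtype.ext (mul_left_cancel (mul_right_cancel (congrArg Subtype.val e) :))
      obtain ⟨w, hw⟩ := (Finite.injective_iff_surjective.mp hinj) ⟨_, hu⟩
      have h1 : g * y * g⁻¹ * (w : G) * (g * y * g⁻¹)⁻¹ = g * y * g⁻¹ * u * (g * y * g⁻¹)⁻¹ :=
        congrArg Subtype.val hw
      exact (mul_left_cancel (mul_right_cancel h1 :)) ▸ w.2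
  obtain ⟨hp', hq', t', ht'⟩ := c.code_spec ⟨g * y * g⁻¹, hzNT⟩
  refine not_fus_gam hzNT ?_ ((hF.conj l).conj g)
  rw [← (swap_out k hp hq hos (Bool.eq_true_of_not_eq_false hke) e s).1]
  rw [← readK_act (c.code ⟨g * y * g⁻¹, hzNT⟩) hp' hq']
  have ea := fun z => congrArg TC.a (c.inj ((ht' z).symm.trans (hconj z)))
  have eb := fun z => congrArg TC.b (c.inj ((ht' z).symm.trans (hconj z)))
  simp only [(conj_ab _ _).1, (conj_ab _ _).2] at ea eb
  exact congrArg AK.out (readK_congr (ea _) (eb _) (ea _) (eb _) (ea _) (eb _))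

end Ctx

end CfsgLib.HeStd
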