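import Cfsg.Agent.Lib.HeStd.TopDec

/-!
# Finite facts for the transfer out of the swapping involutions
-/

set_option autoImplicit false
set_option maxHeartbeats 2000000
set_option synthInstance.maxHeartbeats 400000
set_option synthInstance.maxSize 1024

namespace CfsgLib.HeStd

theorem swap_axis : ∀ k : AK, k.p ≠ q0 → k.q ≠ q0 → k.s = true →
    (∀ cc v : Q4, act k (act k (zc cc v)) = zc cc v) →
    ∃ r s : Q4, r ≠ q0 ∧ s ≠ q0 ∧ act k (act ⟨r, s, false, false⟩ zz) = act ⟨r, s, false, false⟩ zz ∧
      act k (act ⟨r, s, false, false⟩ (zc q0 q1)) = act ⟨r, s, false, false⟩ (zc q0 q1) := by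
  decide +kernel

theorem act_zc : ∀ k : AK, ∀ cc v : Q4, (act k (zc cc v)).a = q0 ∧ (act k (zc cc v)).b = q0 := by decide +kernel

theorem swap_lw : ∀ e : Bool, decide (((act ⟨q1, q1, e, true⟩ (zc qw qw), false, false) : QE) ∈ LA) = false := by
  decide +kernel

theorem actE_actE : ∀ e f : Bool, ∀ x : TC, actE e f (actE e f x) = x := by decide +kernel

theorem outer_split : (allTC.all fun t => [false, true].all fun e => !decide (qm (t, e, true) (t, e, true) = qone) ||
    isPQ (t, e, true) || allTC.any fun s => (let x := s⁻¹ * t * actE e true s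
      fusT x && decide (actE e true x = x))) = true := by decide +kernel

/-- Generators of the coordinates. -/
def gensQ : List QE :=
  [(e₁, false, false), (e₂, false, false), (e₃, false, false), (e₄, false, false), (1, true, false), (1, false, true)]

theorem center_QE : ∀ t : TC, ∀ e f : Bool, (∀ s ∈ gensQ, qm (t, e, f) s = qm s (t, e, f)) →
    (t, e, f) = qone ∨ (t, e, f) = qz := by decide +kernel

theorem fixed_pair : (allQ.all fun a => !(isPQ a && gensQ.all fun s => decide (qm s a = qm a s) ||
    decide (qm s a = qm (qm a qz) s)) || decide (a = (zc q0 q1, false, false)) ||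
      decide (a = qm (zc q0 q1, false, false) qz)) = true := by decide +kernel

end CfsgLib.HeStd
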