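import Cfsg.Agent.Lib.HeStd.Quot
import Cfsg.Agent.Lib.HeStd.GammaDec
import Cfsg.Agent.Lib.Transfer.Thompson

/-!
# No involution of `N` exchanges the two root sides
-/

set_option autoImplicit false
set_option linter.style.haveILetI false
set_option linter.unusedSectionVars false

namespace CfsgLib.HeStd

universe u

namespace Ctx

variable {G : Type u} [Group G] {c : Ctx G} [Finite G] [IsSimpleGroup G] (B : Base c)

/-- The coordinates as a subgroup. -/
def QM : Subgroup G where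
  carrier := Set.range (qel B)
  one_mem' := ⟨qone, qel_one B⟩
  mul_mem' := by
    rintro x y ⟨a, rfl⟩ ⟨b, rfl⟩
    exact ⟨qm a b, qel_mul B a b⟩
  inv_mem' := by
    rintro x ⟨⟨u, e, f⟩, rfl⟩
    refine ⟨(actE e f u⁻¹, e, f), eq_inv_of_mul_eq_one_right ?_⟩
    rw [← qel_mul, qm, actE_actE, mul_inv_cancel, Bool.xor_self, Bool.xor_self]
    exact qel_one B

theorem card_QM : Nat.card (QM B) = 1024 := by
  show Nat.card (Set.range (qel B)) = 1024
  rw [Nat.card_range_of_injective (qel_inj B), Nat.card_prod, Nat.card_prod, card_TC, Nat.card_eq_fintype_card,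
    Fintype.card_bool]

theorem qel_wq (e f : Bool) : qel B (1, e, f) = wq B e f := by rw [qel, map_one, one_mul]

theorem qel_x₀ : qel B (1, true, false) = B.x₀ := by rw [qel_semi, map_one, one_mul]

theorem qel_qo : qel B (1, false, true) = B.qo := by simp [qel, wq]

theorem qel_split (a : QE) : qel B a = qel B (a.1, false, false) * qel B (1, a.2.1, a.2.2) := by
  rw [qel_inner, qel_wq]; rfl

theorem QS_le_QM : c.QS ≤ QM B := fun q hq => by
  obtain ⟨a, -, e⟩ := exists_qel B hq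
  exact ⟨a, e⟩

theorem QM_le_NA : QM B ≤ NA B := by
  rintro _ ⟨⟨u, e, f⟩, rfl⟩
  rw [qel_split, qel_inner, qel_wq, wq]
  refine mul_mem (ι_mem_NA B u) (mul_mem ?_ ?_)
  · cases e
    exacts [one_mem _, x₀_mem_NA B]
  · cases f
    exacts [one_mem _, qo_mem_NA B]

theorem vg_moves {m : G} (hm : m ∈ QM B) : m * c.vg q1 * m⁻¹ = c.vg q1 ∨ m * c.vg q1 * m⁻¹ = c.vg q1 * c.zg := by
  obtain ⟨⟨u, e, f⟩, rfl⟩ := hm
  rw [vg, zg, ← map_mul, show qel B (u, e, f) * c.ι (zc q0 q1) * (qel B (u, e, f))⁻¹ =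
    c.ι u * (wq B e f * c.ι (zc q0 q1) * (wq B e f)⁻¹) * (c.ι u)⁻¹ by simp only [qel]; group, wq_act,
    ← map_inv, ← map_mul, ← map_mul]
  have key : ∀ e f : Bool, ∀ u : TC, u * actE e f (zc q0 q1) * u⁻¹ = zc q0 q1 ∨
      u * actE e f (zc q0 q1) * u⁻¹ = zc q0 q1 * zz := by decide +kernel
  rcases key e f u with h | h <;> rw [h]
  exacts [Or.inl rfl, Or.inr rfl]

/-- An involution of the coordinates is fused or conjugate to `z`. -/
theorem qm_invol {m : G} (hm : m ∈ QM B) (h2 : m * m = 1) (h1 : m ≠ 1) :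
    c.Fus m ∨ ∃ h, h * c.zg * h⁻¹ = m := by
  obtain ⟨⟨t, e, f⟩, rfl⟩ := hm
  cases f
  · cases e
    · rw [qel_inner] at h2 h1 ⊢
      cases hb : fusT t
      · obtain ⟨n, -, hn⟩ := inner_to_z (c := c) (c.inj (by rw [map_mul, map_one, h2]))
          (fun e' => h1 (by rw [e', map_one])) hb
        exact Or.inr ⟨n⁻¹, by rw [← hn]; group⟩
      · exact Or.inl (fus_iff.mpr hb)
    · rw [qel_semi] at h2 ⊢
      obtain ⟨hx0, -⟩ := code_sigma B
      have hmNT : c.ι t * B.x₀ ∈ c.NT := c.NT.mul_mem (c.ι_mem_NT t) hx0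
      have hk : c.code ⟨_, hmNT⟩ = ⟨q1, q1, true, false⟩ := by
        refine c.code_eq (n := ⟨_, hmNT⟩) ⟨by decide, by decide, t, fun x => ?_⟩
        show c.ι t * B.x₀ * c.ι x * (c.ι t * B.x₀)⁻¹ = _
        rw [show c.ι t * B.x₀ * c.ι x * (c.ι t * B.x₀)⁻¹ = c.ι t * (B.x₀ * c.ι x * B.x₀⁻¹) * (c.ι t)⁻¹ by group,
          B.hxA, ← map_inv, ← map_mul, ← map_mul]
        rfl
      obtain ⟨w, hw⟩ := sig_class (dx_of_inX B.hx.1) B.hxA hmNT hk h2
      exact Or.inl (hw ▸ (Fus.conj_iff _).mpr B.hx.1.1)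
  have hsq : qm (t, e, true) (t, e, true) = qone := qel_inj B (by rw [qel_mul, h2, qel_one])
  have h := List.all_eq_true.mp (List.all_eq_true.mp outer_split t (mem_allTC t)) e (by cases e <;> simp)
  simp only [hsq, decide_true, Bool.not_true, Bool.false_or, Bool.or_eq_true, List.any_eq_true,
    Bool.and_eq_true, decide_eq_true_eq] at h
  rcases h with h | ⟨s, -, hx, hfix⟩
  · exact Or.inl (pair_of_isPQ B h).1.1
  set x := s⁻¹ * t * actE e true s
  have ht : s * x * (actE e true s)⁻¹ = t := by simp only [x]; group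
  have hP : c.Pair (wq B e true) := by
    cases e
    · simpa [wq] using B.hq
    · simpa [wq] using B.hxq
  have hc : c.ι x * wq B e true = wq B e true * c.ι x :=
    (mul_inv_eq_iff_eq_mul.mp ((wq_act B e true x).trans (congrArg c.ι hfix))).symm
  have hne : c.ι x * wq B e true ≠ 1 := fun h' => by
    have := qel_eq_one B (a := (x, e, true)) h'
    simp [qone] at this
  rw [← ht, qel_outer_conj]
  rcases mul_cases (ι_inX hx) hP.1 hc hne with ⟨hF, -⟩ | ⟨h, hh⟩
  · exact Or.inl ((Fus.conj_iff _).mpr hF)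
  · exact Or.inr ⟨c.ι s * h, by rw [← hh]; group⟩

/-- A swapping involution can be taken in the frame of `z` and `vg q1`. -/
theorem exists_swap_frame {x : G} (hx : x ∈ c.N) (hxx : x * x = 1) (hs : (c.eps ⟨x, hx⟩).2 = true) :
    ∃ w : G, w * w = 1 ∧ w * c.zg = c.zg * w ∧ w * c.vg q1 = c.vg q1 * w ∧
      ∃ hw : w ∈ c.NT, (c.code ⟨w, hw⟩).s = true ∧ (c.code ⟨w, hw⟩).p = q1 ∧ (c.code ⟨w, hw⟩).q = q1 := by
  haveI : Fact (Nat.Prime 2) := ⟨Nat.prime_two⟩
  have hx1 : x ≠ 1 := fun e => by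
    subst e
    rw [show (⟨1, hx⟩ : c.N) = (⟨1, c.L_le_N (one_mem _)⟩ : c.N) from rfl,
      c.eps_L (n := ⟨1, c.L_le_N (one_mem _)⟩) (one_mem c.L)] at hs
    exact Bool.false_ne_true hs
  obtain ⟨l, hl, hlx⟩ := c.exists_conj_NT (P := Subgroup.zpowers x)
    (IsPGroup.of_card (p := 2) (n := 1) (by
      rw [Nat.card_zpowers, orderOf_eq_prime (by rw [pow_two]; exact hxx) hx1, pow_one]))
    (Subgroup.zpowers_le.mpr hx)
  set y := l * x * l⁻¹ with hy'
  have hy : y ∈ c.NT := hlx x (Subgroup.mem_zpowers _)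
  have hyy : y * y = 1 := by
    rw [hy', show l * x * l⁻¹ * (l * x * l⁻¹) = l * (x * x) * l⁻¹ by group, hxx]; group
  have hye : (c.eps ⟨y, hy.1⟩).2 = true := by
    rw [show (⟨y, hy.1⟩ : c.N) = ⟨l, c.L_le_N hl⟩ * ⟨x, hx⟩ * ⟨l, c.L_le_N hl⟩⁻¹ from rfl, eps_conj]
    exact hs
  obtain ⟨hp, hq, t, ht⟩ := c.code_spec ⟨y, hy⟩
  set k := c.code ⟨y, hy⟩ with hk
  have hks : k.s = true := by
    rw [c.eps_NT hy] at hye
    exact hye
  have hz : ∀ cc v, y * c.ι (zc cc v) * y⁻¹ = c.ι (act k (zc cc v)) := fun cc v => by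
    refine (ht _).trans (congrArg c.ι ?_)
    obtain ⟨ha, hb⟩ := act_zc k cc v
    rw [show act k (zc cc v) = zc (act k (zc cc v)).c (act k (zc cc v)).v from TC.ext ha hb rfl rfl, zc_comm,
      mul_inv_cancel_right]
  have hkk : ∀ cc v, act k (act k (zc cc v)) = zc cc v := fun cc v => c.inj (by
    obtain ⟨ha, hb⟩ := act_zc k cc v
    have e : act k (zc cc v) = zc (act k (zc cc v)).c (act k (zc cc v)).v := TC.ext ha hb rfl rfl
    rw [e, ← hz, ← e, ← hz, show y * (y * c.ι (zc cc v) * y⁻¹) * y⁻¹ = (y * y) * c.ι (zc cc v) * (y * y)⁻¹ by group,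
      hyy]
    group)
  obtain ⟨r, s, hr, hs', h1, h2⟩ := swap_axis k hp hq hks hkk
  obtain ⟨n, hn, hna⟩ := exists_scl (c := c) hr hs'
  have hfix : ∀ cc v, act k (act ⟨r, s, false, false⟩ (zc cc v)) = act ⟨r, s, false, false⟩ (zc cc v) →
      n⁻¹ * y * n * c.ι (zc cc v) = c.ι (zc cc v) * (n⁻¹ * y * n) := by
    intro cc v h
    obtain ⟨ha, hb⟩ := act_zc ⟨r, s, false, false⟩ cc v
    have e : act ⟨r, s, false, false⟩ (zc cc v) =
        zc (act ⟨r, s, false, false⟩ (zc cc v)).c (act ⟨r, s, false, false⟩ (zc cc v)).v := TC.ext ha hb rfl rfl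
    have hc : y * (n * c.ι (zc cc v) * n⁻¹) = (n * c.ι (zc cc v) * n⁻¹) * y := by
      rw [hna, e]
      refine mul_inv_eq_iff_eq_mul.mp ((hz _ _).trans (congrArg c.ι ?_))
      rw [← e]
      exact h
    calc n⁻¹ * y * n * c.ι (zc cc v) = n⁻¹ * (y * (n * c.ι (zc cc v) * n⁻¹)) * n := by group
      _ = n⁻¹ * ((n * c.ι (zc cc v) * n⁻¹) * y) * n := by rw [hc]
      _ = _ := by group
  set w := n⁻¹ * y * n with hw
  have hwz : w * c.zg = c.zg * w := hfix q1 q1 h1
  have hwv : w * c.vg q1 = c.vg q1 * w := hfix q0 q1 h2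
  obtain ⟨h, hpw, hqw, -⟩ := frame_code (c := c) (j := q1) (by decide) hwz hwv
  refine ⟨w, by rw [hw, show n⁻¹ * y * n * (n⁻¹ * y * n) = n⁻¹ * (y * y) * n by group, hyy]; group, hwz, hwv,
    h, ?_, hpw, hqw⟩
  have e := congrArg Prod.snd (c.eps_NT h)
  rw [show (⟨w, h.1⟩ : c.N) = ⟨n, hn.1⟩⁻¹ * ⟨y, hy.1⟩ * (⟨n, hn.1⟩⁻¹)⁻¹ from Subtype.ext (by
    show w = n⁻¹ * y * n⁻¹⁻¹
    rw [inv_inv, hw]), eps_conj, hye] at e
  exact e.symm

/-- No involution of `N` exchanges the two root sides. -/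
theorem no_swap (x : G) (hx : x ∈ c.N) (hxx : x * x = 1) : (c.eps ⟨x, hx⟩).2 = false := by
  classical
  haveI : Fact (Nat.Prime 2) := ⟨Nat.prime_two⟩
  by_contra hs
  obtain ⟨B⟩ := exists_base (c := c)
  obtain ⟨w, hww, hwz, hwv, hwNT, hws, hwp, hwq⟩ :=
    exists_swap_frame hx hxx (Bool.eq_true_of_not_eq_false hs)
  have hwi : w⁻¹ = w := inv_eq_of_mul_eq_one_right hww
  have hwe : (c.eps ⟨w, hwNT.1⟩).2 = true := by rw [c.eps_NT hwNT]; exact hws
  have hwlw : w * qel B lw * w⁻¹ ∉ LAg B := by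
    rintro ⟨a, ha, e⟩
    obtain ⟨-, -, t, ht⟩ := c.code_spec ⟨w, hwNT⟩
    set k := c.code ⟨w, hwNT⟩
    have hk : k = ⟨q1, q1, k.e, true⟩ := AK.ext hwp hwq rfl hws
    obtain ⟨hza, hzb⟩ := act_zc k qw qw
    rw [lw, qel_inner, show w * c.ι (zc qw qw) * w⁻¹ = c.ι (t * act k (zc qw qw) * t⁻¹) from ht _,
      show act k (zc qw qw) = zc (act k (zc qw qw)).c (act k (zc qw qw)).v from TC.ext hza hzb rfl rfl, zc_comm,
      mul_inv_cancel_right, ← TC.ext (x := act k (zc qw qw))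
        (y := zc (act k (zc qw qw)).c (act k (zc qw qw)).v) hza hzb rfl rfl, hk, ← qel_inner B] at e
    have h := swap_lw k.e
    rw [← qel_inj B e, decide_eq_false_iff_not] at h
    exact h ha
  have hwA : w ∉ NA B := fun h => hwlw
    ((Subgroup.mem_normalizer_iff.mp h.2 _).mp ⟨lw, lw_facts.1, rfl⟩)
  have hwM : w ∉ QM B := fun h => hwA (QM_le_NA B h)
  have hwfix : w * c.zg * w⁻¹ = c.zg := conj_zg_of_comm hwz
  have hconjM : ∀ m ∈ QM B, w * m * w⁻¹ ∈ QM B := by
    rintro _ ⟨⟨u, e, f⟩, rfl⟩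
    have hT : w * c.ι u * w⁻¹ ∈ QM B := by
      obtain ⟨-, -, t, ht⟩ := c.code_spec ⟨w, hwNT⟩
      exact ⟨(_, false, false), (qel_inner B _).trans (ht u).symm⟩
    have hq : ∀ p : G, c.Pair p → w * p * w⁻¹ ∈ QM B := fun p hp =>
      QS_le_QM B (Subgroup.subset_closure (hp.conj hwfix))
    rw [qel_split, qel_inner, qel_wq, wq,
      show w * (c.ι u * ((bif e then B.x₀ else 1) * bif f then B.qo else 1)) * w⁻¹ =
        (w * c.ι u * w⁻¹) * ((w * (bif e then B.x₀ else 1) * w⁻¹) * (w * (bif f then B.qo else 1) * w⁻¹)) by group]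
    refine mul_mem hT (mul_mem ?_ ?_)
    · cases e
      · simp [cond_false]
      · exact hq _ B.hx
    · cases f
      · simp [cond_false]
      · exact hq _ B.hq
  let R : Subgroup G :=
    { carrier := {g | g ∈ QM B ∨ g * w ∈ QM B}
      one_mem' := Or.inl (one_mem _)
      mul_mem' := by
        rintro a b (ha | ha) (hb | hb)
        · exact Or.inl (mul_mem ha hb)
        · refine Or.inr ?_
          rw [mul_assoc]
          exact mul_mem ha hb
        · refine Or.inr ?_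
          have := mul_mem ha (hconjM b hb)
          rwa [show a * w * (w * b * w⁻¹) = a * (w * w) * b * w⁻¹ by group, hww, mul_one, hwi] at this
        · refine Or.inl ?_
          have := mul_mem ha (hconjM _ hb)
          rwa [show a * w * (w * (b * w) * w⁻¹) = a * (w * w) * b by group, hww, mul_one] at this
      inv_mem' := by
        rintro a (ha | ha)
        · exact Or.inl (inv_mem ha)
        · refine Or.inr ?_
          have := hconjM _ (inv_mem ha)
          rwa [show w * (a * w)⁻¹ * w⁻¹ = (w * w⁻¹) * a⁻¹ * w⁻¹ by group, mul_inv_cancel, one_mul, hwi] at this }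
  have hMR : QM B ≤ R := fun m hm => Or.inl hm
  have hwR : w ∈ R := Or.inr (by rw [hww]; exact one_mem _)
  have hidx : (QM B).relIndex R = 2 := by
    rw [Subgroup.relIndex, Subgroup.index_eq_two_iff]
    refine ⟨⟨w, hwR⟩, fun a => ?_⟩
    rw [Subgroup.mem_subgroupOf, Subgroup.mem_subgroupOf]
    show Xor ((a : G) * w ∈ QM B) ((a : G) ∈ QM B)
    rcases a.2 with h | h
    · refine Or.inr ⟨h, fun h' => hwM ?_⟩
      have := mul_mem (inv_mem h) h'
      rwa [inv_mul_cancel_left] at this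
    · refine Or.inl ⟨h, fun h' => hwM ?_⟩
      have := mul_mem (inv_mem h') h
      rwa [inv_mul_cancel_left] at this
  have hcardR : Nat.card R = 2 ^ 11 := by
    have h := Subgroup.card_mul_index ((QM B).subgroupOf R)
    rw [Nat.card_congr (Subgroup.subgroupOfEquivOfLe hMR).toEquiv, card_QM] at h
    rw [← h]
    rw [Subgroup.relIndex] at hidx
    rw [hidx]
    norm_num
  obtain ⟨P, hP⟩ := (IsPGroup.of_card (p := 2) hcardR).exists_le_sylow
  have hRP : (P : Subgroup G) = R := by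
    refine le_antisymm ?_ hP
    by_contra hne
    have hlt : R.subgroupOf (P : Subgroup G) < ⊤ := lt_top_iff_ne_top.mpr fun h =>
      hne (Subgroup.subgroupOf_eq_top.mp h)
    haveI : Group.IsNilpotent (P : Subgroup G) := P.2.isNilpotent
    obtain ⟨g₀, hg₀, hg₀R⟩ := SetLike.exists_of_lt (Group.normalizerCondition_of_isNilpotent _ hlt)
    set g : G := (g₀ : G) with hgdef
    have hgR : g ∉ R := fun h => hg₀R (Subgroup.mem_subgroupOf.mpr h)
    have hgn : ∀ r ∈ R, g * r * g⁻¹ ∈ R := fun r hr =>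
      Subgroup.mem_subgroupOf.mp
        ((Subgroup.mem_normalizer_iff.mp hg₀ ⟨r, hP hr⟩).mp (Subgroup.mem_subgroupOf.mpr hr))
    have hgn' : ∀ r ∈ R, g⁻¹ * r * g ∈ R := fun r hr => by
      have h := Subgroup.mem_subgroupOf.mp ((Subgroup.mem_normalizer_iff.mp (inv_mem hg₀) ⟨r, hP hr⟩).mp
        (Subgroup.mem_subgroupOf.mpr hr))
      simpa using h
    -- `z` is the only involution in the centre of `R`
    have hcen : ∀ r ∈ R, (∀ s ∈ R, r * s = s * r) → r = 1 ∨ r = c.zg := by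
      intro r hr hc
      rcases hr with hr | hr
      · obtain ⟨⟨t, e, f⟩, rfl⟩ := hr
        rcases center_QE t e f fun s _ => qel_inj B (by
          rw [qel_mul, qel_mul]; exact hc _ (hMR ⟨s, rfl⟩)) with h | h <;> rw [h]
        exacts [Or.inl (qel_one B), Or.inr (qel_qz B)]
      · exfalso
        have hlwA : qel B lw ∈ LAg B := ⟨lw, lw_facts.1, rfl⟩
        have hm := (Subgroup.mem_normalizer_iff.mp (QM_le_NA B hr).2 (w * qel B lw * w⁻¹)).mpr
        refine hwlw (hm ?_)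
        rw [show r * w * (w * qel B lw * w⁻¹) * (r * w)⁻¹ =
          r * (w * w) * qel B lw * (w * w)⁻¹ * r⁻¹ by group, hww, inv_one, mul_one, mul_one,
          hc _ (hMR ⟨lw, rfl⟩), mul_inv_cancel_right]
        exact hlwA
    have hz1 : c.zg ≠ 1 := fun e => by
      rw [zg, ← map_one c.ι] at e
      exact absurd (c.inj e) (by decide +kernel)
    have hRz : ∀ s ∈ R, c.zg * s = s * c.zg := by
      rintro s (h | h)
      · exact (mem_cent.mp (QM_le_NA B h).1).symm
      · have h1 := mem_cent.mp (QM_le_NA B h).1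
        rw [show s = s * w * w by rw [mul_assoc, hww, mul_one], ← mul_assoc, ← h1, mul_assoc (s * w) c.zg,
          ← hwz, ← mul_assoc]
    have hgz : g * c.zg * g⁻¹ = c.zg := by
      rcases hcen _ (hgn _ (hMR ⟨qz, qel_qz B⟩)) (fun s hs => by
        calc g * c.zg * g⁻¹ * s = g * (c.zg * (g⁻¹ * s * g)) * g⁻¹ := by group
          _ = g * ((g⁻¹ * s * g) * c.zg) * g⁻¹ := by rw [hRz _ (hgn' s hs)]
          _ = _ := by group) with h | h
      · exact absurd (conj_eq_one_iff.mp h) hz1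
      · exact h
    have horb : ∀ r ∈ R, r * c.vg q1 * r⁻¹ = c.vg q1 ∨ r * c.vg q1 * r⁻¹ = c.vg q1 * c.zg := by
      rintro r (h | h)
      · exact vg_moves B h
      · rw [show r * c.vg q1 * r⁻¹ = r * w * (w⁻¹ * c.vg q1 * w) * (r * w)⁻¹ by group,
          show w⁻¹ * c.vg q1 * w = c.vg q1 by rw [mul_assoc, ← hwv, inv_mul_cancel_left]]
        exact vg_moves B h
    -- the image of `vg q1`
    have hpP : c.Pair (g * c.vg q1 * g⁻¹) := pair_vg.conj hgz
    have hpQ : g * c.vg q1 * g⁻¹ ∈ c.QS := Subgroup.subset_closure hpP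
    obtain ⟨a, ha, hae⟩ := exists_qel B hpQ
    have hPQ : isPQ a = true := by
      by_contra hb
      have h := List.all_eq_true.mp good_split a ha
      have hsq : qm a a = qone := qel_inj B (by rw [qel_mul, hae, qel_one, hpP.1.1.sq.1])
      simp only [hsq, Bool.eq_false_of_not_eq_true hb, decide_true, Bool.not_false, Bool.and_self,
        Bool.not_true, Bool.false_or, Bool.or_eq_true, decide_eq_true_eq] at h
      rcases h with h | h
      · exact la_nf B h (hae ▸ hpP.1.1)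
      · exact lb_nf B h (hae ▸ hpP.1.1)
    have hall : (gensQ.all fun s => decide (qm s a = qm a s) || decide (qm s a = qm (qm a qz) s)) = true :=
      List.all_eq_true.mpr fun s _ => by
        rw [Bool.or_eq_true, decide_eq_true_eq, decide_eq_true_eq]
        have hsR : qel B s ∈ R := hMR ⟨s, rfl⟩
        have e1 : qel B s * qel B a * (qel B s)⁻¹ =
            g * ((g⁻¹ * qel B s * g) * c.vg q1 * (g⁻¹ * qel B s * g)⁻¹) * g⁻¹ := by rw [hae]; group
        rcases horb _ (hgn' _ hsR) with h | h <;> rw [h] at e1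
        · refine Or.inl (qel_inj B ?_)
          rw [qel_mul, qel_mul]
          exact mul_inv_eq_iff_eq_mul.mp (e1.trans hae.symm)
        · refine Or.inr (qel_inj B ?_)
          rw [qel_mul, qel_mul, qel_mul, qel_qz]
          refine mul_inv_eq_iff_eq_mul.mp (e1.trans ?_)
          rw [hae, show g * (c.vg q1 * c.zg) * g⁻¹ = g * c.vg q1 * g⁻¹ * (g * c.zg * g⁻¹) by group, hgz]
    have hfp := List.all_eq_true.mp fixed_pair a ha
    simp only [hPQ, hall, Bool.and_self, Bool.not_true, Bool.false_or, Bool.or_eq_true, decide_eq_true_eq] at hfp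
    -- correct by `qo`
    have hqoR : B.qo ∈ R := hMR ⟨_, qel_qo B⟩
    have hgz' : g * c.zg = c.zg * g := mul_inv_eq_iff_eq_mul.mp hgz
    obtain ⟨g', hg'P, hg'R, hg'z, hg'v⟩ : ∃ g' ∈ (P : Subgroup G), g' ∉ R ∧ g' * c.zg = c.zg * g' ∧
        g' * c.vg q1 = c.vg q1 * g' := by
      rcases hfp with rfl | rfl
      · exact ⟨g, g₀.2, hgR, hgz', mul_inv_eq_iff_eq_mul.mp (by rw [← hae, qel_inner]; rfl)⟩
      · refine ⟨B.qo * g, mul_mem (hP hqoR) g₀.2, fun h => hgR ?_, ?_, mul_inv_eq_iff_eq_mul.mp ?_⟩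
        · have := mul_mem (inv_mem hqoR) h
          rwa [inv_mul_cancel_left] at this
        · rw [mul_assoc, hgz', ← mul_assoc, B.hq.1.2, mul_assoc]
        · rw [show B.qo * g * c.vg q1 * (B.qo * g)⁻¹ = B.qo * (g * c.vg q1 * g⁻¹) * B.qo⁻¹ by group, ← hae,
            qel_mul, qel_inner, qel_qz, ← vg,
            show B.qo * (c.vg q1 * c.zg) * B.qo⁻¹ = B.qo * c.vg q1 * B.qo⁻¹ * (B.qo * c.zg * B.qo⁻¹) by group,
            qo_vg, conj_zg_of_comm B.hq.1.2, mul_assoc, zg_sq, mul_one]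
    obtain ⟨hg'NT, -⟩ := frame_code (c := c) (j := q1) (by decide) hg'z hg'v
    obtain ⟨hx0, hk0⟩ := code_sigma B
    have hx0R : B.x₀ ∈ R := hMR ⟨_, qel_x₀ B⟩
    obtain ⟨i, hi, hiR, hio⟩ : ∃ i : G, ∃ hi : i ∈ c.NT, i ∈ R ∧
        oadd (c.code ⟨g', hg'NT⟩).out (c.code ⟨i, hi⟩).out = (false, false) := by
      have hwo : (c.code ⟨w, hwNT⟩).out = ((c.code ⟨w, hwNT⟩).e, true) := Prod.ext rfl hws
      have hxo : (c.code ⟨B.x₀, hx0⟩).out = (true, false) := by rw [hk0]; rfl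
      have hxwo : (c.code ⟨B.x₀ * w, c.NT.mul_mem hx0 hwNT⟩).out =
          oadd (true, false) ((c.code ⟨w, hwNT⟩).e, true) := by
        rw [← hxo, ← hwo]; exact c.out_mul ⟨_, hx0⟩ ⟨_, hwNT⟩
      have h1o : (c.code ⟨(1 : G), c.NT.one_mem⟩).out = (false, false) := by
        have := c.code_ι (1 : TC)
        simpa only [map_one] using this
      rcases hout : (c.code ⟨g', hg'NT⟩).out with ⟨e, s⟩
      cases s
      · cases e
        · exact ⟨1, c.NT.one_mem, one_mem _, by rw [h1o]; rfl⟩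
        · exact ⟨B.x₀, hx0, hx0R, by rw [hxo]; rfl⟩
      · by_cases he : (c.code ⟨w, hwNT⟩).e = e
        · exact ⟨w, hwNT, hwR, by rw [hwo, he]; cases e <;> rfl⟩
        · exact ⟨B.x₀ * w, _, mul_mem hx0R hwR, by
            rw [hxwo]
            revert he
            cases e <;> cases (c.code ⟨w, hwNT⟩).e <;> simp [oadd]⟩
    set g'' := g' * i with hg''
    have hg''NT : g'' ∈ c.NT := c.NT.mul_mem hg'NT hi
    have ho : (c.code ⟨g'', hg''NT⟩).out = (false, false) := (c.out_mul ⟨g', hg'NT⟩ ⟨i, hi⟩).trans hio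
    obtain ⟨j, hj⟩ := P.2 ⟨g'', mul_mem hg'P (hP hiR)⟩
    have hj' : g'' ^ 2 ^ j = 1 := congrArg Subtype.val hj
    obtain ⟨u, hu⟩ := c.mem_TK (n := ⟨g'', hg''NT⟩) hj' ho
    set d := (c.ι u)⁻¹ * g'' with hd
    have e : g'' = c.ι u * d := (mul_inv_cancel_left _ _).symm
    have hcomm : Commute (c.ι u) d := c.comm_K hu u
    have hd4 : d ^ 2 ^ (j + 2) = 1 := by
      have h : g'' ^ 2 ^ (j + 2) = 1 := by rw [pow_add, pow_mul, hj', one_pow]
      rw [e, hcomm.mul_pow, ← map_pow] at h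
      have hu' : u ^ 2 ^ (j + 2) = 1 := by rw [pow_add, mul_comm, pow_mul, pow_four, one_pow]
      rwa [hu', map_one, one_mul] at h
    obtain ⟨v, hv⟩ := K_two hu hd4
    have hg''R : g'' ∈ R := hMR ⟨(u * zc q0 v, false, false), by rw [qel_inner, map_mul, ← vg, ← hv, ← e]⟩
    refine hg'R ?_
    have := mul_mem hg''R (inv_mem hiR)
    rwa [hg'', mul_inv_cancel_right] at this
  have hidx' : (QM B).relIndex (P : Subgroup G) = 2 := by rw [hRP]; exact hidx
  rcases CfsgLib.Transfer.thompson_transfer P hidx' hww (by rw [hRP]; exact hwR) hwM with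
    ⟨M', hM', hidx2, -⟩ | ⟨g, -, hg⟩
  · rcases hM'.eq_bot_or_eq_top with e | e <;> rw [e] at hidx2
    · rw [Subgroup.index_bot] at hidx2
      have := Nat.card_le_card_of_injective c.ι c.inj
      rw [card_TC] at this
      omega
    · rw [Subgroup.index_top] at hidx2
      omega
  · have hw1 : w ≠ 1 := fun e => hwM (e ▸ one_mem _)
    rcases qm_invol B hg (by rw [show g * w * g⁻¹ * (g * w * g⁻¹) = g * (w * w) * g⁻¹ by group, hww]; group)
      (fun e => hw1 (conj_eq_one_iff.mp e)) with h | ⟨h, hh⟩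
    · exact not_fus_swap hwNT.1 hwe ((Fus.conj_iff g).mp h)
    · have h0 := zg_conj_inner (h := g⁻¹ * h) hwNT.1 (by
        rw [show g⁻¹ * h * c.zg * (g⁻¹ * h)⁻¹ = g⁻¹ * (h * c.zg * h⁻¹) * g by group, hh]; group)
      rw [h0] at hwe
      exact Bool.false_ne_true hwe

end Ctx

end CfsgLib.HeStd
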