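import Cfsg.Agent.Lib.ZStar.Main
import Cfsg.Agent.Lib.Invol.StronglyEmbedded
import Cfsg.Agent.Lib.Coprime.Generation

/-!
# An isolated involution, and the middle of two involutions
-/

set_option autoImplicit false
set_option linter.style.haveILetI false

namespace CfsgLib.HeStd

universe u

variable {G : Type u} [Group G] [Finite G]

/-- A subgroup with an isolated involution and a four-group whose centralisers lie in `N` lies in `N`. -/
theorem le_of_isolated {H N : Subgroup G} {r a b : G} (hrH : r ∈ H) (hr2 : orderOf r = 2)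
    (hrN : ∀ h ∈ H, h * r = r * h → h ∈ N)
    (hiso : ∀ h ∈ H, Commute r (h * r * h⁻¹) → h * r * h⁻¹ = r)
    (ha : a ∈ H) (hb : b ∈ H) (ha2 : a * a = 1) (hb2 : b * b = 1) (hab : a * b = b * a)
    (ha1 : a ≠ 1) (hb1 : b ≠ 1) (hne : a ≠ b)
    (hca : ∀ h ∈ H, h * a = a * h → h ∈ N) (hcb : ∀ h ∈ H, h * b = b * h → h ∈ N)
    (hcab : ∀ h ∈ H, h * (a * b) = a * b * h → h ∈ N) : H ≤ N := by
  classical
  set r' : H := ⟨r, hrH⟩ with hr'
  have hr'2 : orderOf r' = 2 := by rw [← Subgroup.orderOf_coe]; exact hr2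
  have hiso' : Cfsg.IsIsolatedInvolution r' := ⟨hr'2, fun g hg =>
    Subtype.ext (hiso g g.2 (congrArg Subtype.val hg.eq :))⟩
  have hco := ZStar.commutatorsInCore_of_isolated hiso'
  set O := Cfsg.pPrimeCore 2 H with hO
  haveI : O.Normal := Transfer.pPrimeCore_normal 2 H
  set a' : H := ⟨a, ha⟩
  set b' : H := ⟨b, hb⟩
  set A : Subgroup H := Subgroup.closure {a', b'} with hA
  haveI : IsMulCommutative A := Subgroup.isMulCommutative_closure (by
    rintro x (rfl | rfl) y (rfl | rfl) <;> first | rfl | exact Subtype.ext hab | exact Subtype.ext hab.symm)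
  have aa : a' * a' = 1 := Subtype.ext ha2
  have bb : b' * b' = 1 := Subtype.ext hb2
  have ba : b' * a' = a' * b' := Subtype.ext hab.symm
  have hab1 : a' * b' * (a' * b') = 1 := by
    calc a' * b' * (a' * b') = a' * (b' * a') * b' := by group
      _ = (a' * a') * (b' * b') := by rw [ba]; group
      _ = 1 := by rw [aa, bb, one_mul]
  let F4' : Subgroup H :=
    { carrier := {x | x = 1 ∨ x = a' ∨ x = b' ∨ x = a' * b'}
      one_mem' := Or.inl rfl
      mul_mem' := by
        have e1 : a' * (a' * b') = b' := by rw [← mul_assoc, aa, one_mul]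
        have e2 : a' * b' * a' = b' := by rw [mul_assoc, ba, e1]
        have e3 : b' * (a' * b') = a' := by rw [← mul_assoc, ba, mul_assoc, bb, mul_one]
        have e4 : a' * b' * b' = a' := by rw [mul_assoc, bb, mul_one]
        rintro x y (rfl | rfl | rfl | rfl) (rfl | rfl | rfl | rfl) <;>
          simp only [Set.mem_setOf_eq, one_mul, mul_one, aa, bb, ba, e1, e2, e3, e4, hab1, true_or, or_true]
      inv_mem' := by
        rintro x (rfl | rfl | rfl | rfl)
        · exact Or.inl inv_one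
        · exact Or.inr (Or.inl (inv_eq_of_mul_eq_one_right aa))
        · exact Or.inr (Or.inr (Or.inl (inv_eq_of_mul_eq_one_right bb)))
        · exact Or.inr (Or.inr (Or.inr (inv_eq_of_mul_eq_one_right hab1))) }
  have hmem : ∀ x ∈ A, x = 1 ∨ x = a' ∨ x = b' ∨ x = a' * b' := fun x hx =>
    (Subgroup.closure_le F4').mpr (by rintro y (rfl | rfl) <;> simp [F4']) hx
  have hA2 : ∀ x ∈ A, x ^ 2 = 1 := by
    intro x hx
    rw [pow_two]
    rcases hmem x hx with rfl | rfl | rfl | rfl
    · exact one_mul 1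
    · exact aa
    · exact bb
    · exact hab1
  have hA3 : 2 < Nat.card A := by
    haveI : Fintype A := Fintype.ofFinite _
    rw [Nat.card_eq_fintype_card]
    refine lt_of_lt_of_le (by norm_num : 2 < 3) ?_
    have hA' : a' ∈ A := Subgroup.subset_closure (by simp)
    have hB' : b' ∈ A := Subgroup.subset_closure (by simp)
    refine le_trans (le_of_eq (Finset.card_eq_three.mpr
      ⟨(1 : A), ⟨a', hA'⟩, ⟨b', hB'⟩, ?_, ?_, ?_, rfl⟩).symm) (Finset.card_le_univ _)
    · exact fun h => ha1 (congrArg (fun z : A => ((z : H) : G)) h).symm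
    · exact fun h => hb1 (congrArg (fun z : A => ((z : H) : G)) h).symm
    · exact fun h => hne (congrArg (fun z : A => ((z : H) : G)) h)
  have hcop : (Nat.card A).Coprime (Nat.card O) := by
    haveI : Fact (Nat.Prime 2) := ⟨Nat.prime_two⟩
    obtain ⟨k, hk⟩ := IsPGroup.iff_card.mp (show IsPGroup 2 A from fun x => ⟨1, Subtype.ext (by simpa using hA2 x x.2)⟩)
    rw [hk]
    exact (Nat.coprime_two_left.mpr ZStar.odd_card_core).pow_left k
  have hON : O ≤ N.subgroupOf H := by
    refine Coprime.le_of_centralizer_le (Coprime.not_isCyclic_of_exponent hA2 (by norm_num) hA3)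
      (le_top.trans (Subgroup.normalizer_eq_top_iff.mpr ‹O.Normal›).ge) hcop fun g hg hg1 x hx => ?_
    have hxg : (x : G) * g = g * x :=
      congrArg Subtype.val (Subgroup.mem_centralizer_singleton_iff.mp hx.2)
    rw [Subgroup.mem_subgroupOf]
    rcases hmem g hg with rfl | rfl | rfl | rfl
    · exact absurd rfl hg1
    · exact hca x x.2 hxg
    · exact hcb x x.2 hxg
    · exact hcab x x.2 hxg
  intro h hh
  set g : H := ⟨h, hh⟩
  set s := g * r' * g⁻¹
  have hs2 : orderOf s = 2 := by show orderOf (g * r' * g⁻¹) = 2; rw [← MulAut.conj_apply, MulEquiv.orderOf_eq, hr'2]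
  have rr : r' * r' = 1 := by rw [← pow_two, ← hr'2, pow_orderOf_eq_one]
  have hrs : r' * s ∈ O := by
    have h1 := hco g
    rwa [inv_eq_of_mul_eq_one_right rr, show r' * g * r' * g⁻¹ = r' * s by simp only [s]; group] at h1
  have hodd : Odd (orderOf (r' * s)) := by
    refine (ZStar.odd_card_core (G := H)).of_dvd_nat ?_
    exact Subgroup.orderOf_dvd_natCard _ hrs
  obtain ⟨k, hk⟩ := Invol.exists_zpow_conj_of_odd hr'2 hs2 hodd
  set c := (r' * s) ^ k
  have hc : (c : G) ∈ N := Subgroup.mem_subgroupOf.mp (hON (O.zpow_mem hrs k))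
  have hcg : c⁻¹ * g * r' = r' * (c⁻¹ * g) := by
    calc c⁻¹ * g * r' = c⁻¹ * s * g := by simp only [s]; group
      _ = _ := by rw [← hk]; group
  have h2 := hrN ((c⁻¹ * g : H) : G) (c⁻¹ * g).2 (congrArg Subtype.val hcg)
  have : (c : G) * ((c⁻¹ * g : H) : G) ∈ N := N.mul_mem hc h2
  simpa [g] using this

omit [Finite G] in
theorem mem_normalizer_of_sq {E : Subgroup G} {x : G} (h : ∀ e ∈ E, x * e * x⁻¹ ∈ E) (hx : x * x ∈ E) :
    x ∈ Subgroup.normalizer (E : Set G) :=
  Subgroup.mem_normalizer_iff.mpr fun e => ⟨h e, fun he => by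
    have h1 := E.mul_mem (E.mul_mem (E.inv_mem hx) (h _ he)) hx
    rwa [show (x * x)⁻¹ * (x * (x * e * x⁻¹) * x⁻¹) * (x * x) = e by group] at h1⟩

/-- Two involutions modulo `E`: either conjugate modulo `E`, or there is an involution modulo `E`
commuting with both modulo `E`. -/
theorem exists_mid {E : Subgroup G} {x y : G} (hx : x ∈ Subgroup.normalizer (E : Set G))
    (hy : y ∈ Subgroup.normalizer (E : Set G)) (hx2 : x * x ∈ E) (hy2 : y * y ∈ E) (hx1 : x ∉ E)
    (hy1 : y ∉ E) :
    (∃ d ∈ Subgroup.closure ({x, y} : Set G), y⁻¹ * (d * x * d⁻¹) ∈ E) ∨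
      ∃ s ∈ Subgroup.closure ({x, y} : Set G), s ∈ Subgroup.normalizer (E : Set G) ∧ s ∉ E ∧ s * s ∈ E ∧
        x⁻¹ * s⁻¹ * x * s ∈ E ∧ y⁻¹ * s⁻¹ * y * s ∈ E := by
  classical
  set M := Subgroup.normalizer (E : Set G)
  set E' := E.subgroupOf M with hE'
  haveI : E'.Normal := Subgroup.normal_in_normalizer
  set π := QuotientGroup.mk' E'
  set X : M := ⟨x, hx⟩
  set Y : M := ⟨y, hy⟩
  have hmem : ∀ m : M, π m = 1 ↔ (m : G) ∈ E := fun m => by
    rw [QuotientGroup.mk'_apply, QuotientGroup.eq_one_iff, hE', Subgroup.mem_subgroupOf]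
  have oX : orderOf (π X) = 2 := by
    haveI : Fact (Nat.Prime 2) := ⟨Nat.prime_two⟩
    exact orderOf_eq_prime (by rw [pow_two, ← map_mul, hmem]; exact hx2) (by rw [Ne, hmem]; exact hx1)
  have oY : orderOf (π Y) = 2 := by
    haveI : Fact (Nat.Prime 2) := ⟨Nat.prime_two⟩
    exact orderOf_eq_prime (by rw [pow_two, ← map_mul, hmem]; exact hy2) (by rw [Ne, hmem]; exact hy1)
  have hxyM : ∀ m ∈ Subgroup.closure ({X, Y} : Set M), (m : G) ∈ Subgroup.closure ({x, y} : Set G) := by
    intro m hm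
    have := Subgroup.mem_map_of_mem M.subtype hm
    rw [MonoidHom.map_closure, Set.image_pair] at this
    exact this
  have hXY : X * Y ∈ Subgroup.closure ({X, Y} : Set M) :=
    mul_mem (Subgroup.subset_closure (by simp)) (Subgroup.subset_closure (by simp))
  rcases Nat.even_or_odd (orderOf (π X * π Y)) with he | ho
  · right
    obtain ⟨m, hm⟩ := he
    set s : M := (X * Y) ^ m
    have hπs : π s = (π X * π Y) ^ m := by simp [s]
    have hm0 : 0 < m := by
      have := orderOf_pos (π X * π Y)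
      omega
    have hs2 : π s * π s = 1 := by rw [hπs, ← pow_add, ← hm, pow_orderOf_eq_one]
    have hs1 : π s ≠ 1 := by
      rw [hπs]
      exact pow_ne_one_of_lt_orderOf hm0.ne' (by omega)
    have X2 : π X * π X = 1 := by rw [← pow_two, ← oX, pow_orderOf_eq_one]
    have Y2 : π Y * π Y = 1 := by rw [← pow_two, ← oY, pow_orderOf_eq_one]
    have hinv : (π s)⁻¹ = π s := inv_eq_of_mul_eq_one_right hs2
    have cX : π X * π s = π s * π X := by
      have e : π X * (π X * π Y) * (π X)⁻¹ = (π X * π Y)⁻¹ := by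
        rw [mul_inv_rev, inv_eq_of_mul_eq_one_right X2, inv_eq_of_mul_eq_one_right Y2, ← mul_assoc, X2,
          one_mul]
      calc π X * π s = π X * π s * (π X)⁻¹ * π X := by group
        _ = ((π X * π Y)⁻¹) ^ m * π X := by rw [hπs, ← conj_pow, e]
        _ = (π s)⁻¹ * π X := by rw [hπs, inv_pow]
        _ = π s * π X := by rw [hinv]
    have cY : π Y * π s = π s * π Y := by
      have e : π Y * (π X * π Y) * (π Y)⁻¹ = (π X * π Y)⁻¹ := by
        rw [mul_inv_rev, inv_eq_of_mul_eq_one_right X2, inv_eq_of_mul_eq_one_right Y2]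
        simp [mul_assoc, Y2]
      calc π Y * π s = π Y * π s * (π Y)⁻¹ * π Y := by group
        _ = ((π X * π Y)⁻¹) ^ m * π Y := by rw [hπs, ← conj_pow, e]
        _ = (π s)⁻¹ * π Y := by rw [hπs, inv_pow]
        _ = π s * π Y := by rw [hinv]
    refine ⟨s, hxyM _ (pow_mem hXY m), s.2, fun h => hs1 ((hmem s).mpr h), ?_, ?_, ?_⟩
    · exact (hmem (s * s)).mp (by rw [map_mul, hs2])
    · exact (hmem (X⁻¹ * s⁻¹ * X * s)).mp (by
        rw [map_mul, map_mul, map_mul, map_inv, map_inv, mul_assoc, cX]; group)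
    · exact (hmem (Y⁻¹ * s⁻¹ * Y * s)).mp (by
        rw [map_mul, map_mul, map_mul, map_inv, map_inv, mul_assoc, cY]; group)
  · left
    obtain ⟨k, hk⟩ := Invol.exists_zpow_conj_of_odd oX oY ho
    set d : M := (X * Y) ^ k
    refine ⟨d, hxyM _ (Subgroup.zpow_mem _ hXY k), ?_⟩
    refine (hmem (Y⁻¹ * (d * X * d⁻¹))).mp ?_
    rw [map_mul, map_mul, map_mul, map_inv, map_inv, map_zpow, map_mul, hk, inv_mul_cancel]

end CfsgLib.HeStd
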