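import Cfsg.Agent.Lib.HeStd.Eps
import Cfsg.Agent.Lib.HeStd.Gen

/-!
# Centralisers inside the normaliser when no involution of the centraliser is fused outside it
-/

set_option autoImplicit false
set_option linter.style.haveILetI false
set_option linter.unusedSectionVars false

namespace CfsgLib.HeStd

universe u

/-- The action of a code on the centre of the cover. -/
def fV (k : AK) (v : Q4) : Q4 := (act k (zc q0 v)).v

theorem act_V : ∀ k : AK, ∀ v, act k (zc q0 v) = zc q0 (fV k v) := by decide +kernel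

theorem common_fixed : ∀ p a b : Q4, p ≠ q0 → ¬ (a = q0 ∧ b = q0) → ∃ r : Q4, r ≠ q0 ∧
    ∀ k : AK, k.p ≠ q0 → k.q ≠ q0 → (act k (zc p q0)).c = p →
      (act k ⟨a, b, q0, q0⟩).a = a → (act k ⟨a, b, q0, q0⟩).b = b → fV k r = r := by
  decide +kernel

theorem act_ab : ∀ k : AK, ∀ a b c v : Q4,
    (act k ⟨a, b, c, v⟩).a = (act k ⟨a, b, q0, q0⟩).a ∧ (act k ⟨a, b, c, v⟩).b = (act k ⟨a, b, q0, q0⟩).b := by
  decide +kernel

theorem semilinear_fixed : ∀ k : AK, k.p ≠ q0 → k.q ≠ q0 → xor k.e k.s = true →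
    ∃ r : Q4, r ≠ q0 ∧ fV k r = r ∧ ∀ v, fV k v = v → v = q0 ∨ v = r := by
  decide +kernel

theorem conj_central (t : TC) (c v : Q4) : t * zc c v * t⁻¹ = zc c v := by
  rw [zc_comm, mul_inv_cancel_right]

namespace Ctx

variable {G : Type u} [Group G] (c : Ctx G)

/-- An element of the centre of the cover. -/
def vg (v : Q4) : G := c.ι (zc q0 v)

/-- An element of the complement in the centre of the Sylow subgroup. -/
def yg (p : Q4) : G := c.ι (zc p q0)

theorem vg_mem_K (v : Q4) : c.vg v ∈ c.K := c.ι_V_mem_K v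

theorem vg_mem_N (v : Q4) : c.vg v ∈ c.N := c.ι_mem_N _

theorem yg_mem_N (p : Q4) : c.yg p ∈ c.N := c.ι_mem_N _

theorem vg_comm_ι (v : Q4) (x : TC) : c.ι x * c.vg v = c.vg v * c.ι x := by
  rw [vg, ← map_mul, ← map_mul, zc_comm]

theorem vg_comm_K (v : Q4) {k : G} (hk : k ∈ c.K) : k * c.vg v = c.vg v * k := (c.comm_K hk _).symm

theorem vg_comm_ιK (v : Q4) (x : TC) {k : G} (hk : k ∈ c.K) :
    c.ι x * k * c.vg v = c.vg v * (c.ι x * k) := by
  rw [mul_assoc, c.vg_comm_K v hk, ← mul_assoc, c.vg_comm_ι, mul_assoc]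

theorem conj_vg {n : G} (hn : n ∈ c.N) (v : Q4) : ∃ w, n * c.vg v * n⁻¹ = c.vg w := by
  have hL := c.conj_L hn (c.ι_mem_L (zc q0 v))
  obtain ⟨w, hw⟩ := (c.d.center_iff ⟨_, hL⟩).mp (Subgroup.mem_center_iff.mpr fun l =>
    Subtype.ext (c.mem_K.mp (c.conj_K hn (c.ι_V_mem_K v)) l l.2))
  exact ⟨w, congrArg Subtype.val hw⟩

theorem code_vg {n : G} {k : AK} (h : c.IsCode n k) (v : Q4) : n * c.vg v * n⁻¹ = c.vg (fV k v) := by
  obtain ⟨-, -, t, ht⟩ := h
  rw [vg, vg, ht, act_V, conj_central]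

/-- An element conjugate to an involution of `K`. -/
def Fus (x : G) : Prop := ∃ g r, r ∈ c.K ∧ orderOf r = 2 ∧ g * r * g⁻¹ = x

/-- No involution of `K` is fused out of `K` inside `N`. -/
def Bad : Prop := ∀ x ∈ c.N, c.Fus x → x ∈ c.K

/-- The centraliser of the set lies in `N`. -/
def Good (S : Set G) : Prop := ∀ h : G, (∀ e ∈ S, h * e = e * h) → h ∈ c.N

variable {c}

theorem Good.mono {S S' : Set G} (h : c.Good S) (hS : S ⊆ S') : c.Good S' :=
  fun g hg => h g fun e he => hg e (hS he)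

variable [Finite G]

theorem Good.of_mem_K {S : Set G} {u : G} (hu : u ∈ S) (huK : u ∈ c.K) (h2 : orderOf u = 2) : c.Good S :=
  fun _ hh => c.centralizer_le huK h2 (hh u hu)

theorem Bad.mem_N (hb : c.Bad) {g r : G} (hr : r ∈ c.K) (h2 : orderOf r = 2) (h : g * r * g⁻¹ ∈ c.N) :
    g ∈ c.N :=
  c.mem_N_of_conj hr h2 (hb _ h ⟨g, r, hr, h2, rfl⟩)

theorem Good.normalizes (hb : c.Bad) {S : Set G} (hS : c.Good S) {r n : G} (hr : r ∈ c.K)
    (h2 : orderOf r = 2) (hrS : ∀ e ∈ S, r * e = e * r)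
    (hn : ∀ e ∈ S, n⁻¹ * e * n ∈ Subgroup.closure S) : n ∈ c.N := by
  refine hb.mem_N hr h2 (hS _ fun e he => ?_)
  have hc : r * (n⁻¹ * e * n) = n⁻¹ * e * n * r := by
    have hle : Subgroup.closure S ≤ Subgroup.centralizer ({r} : Set G) := by
      rw [Subgroup.closure_le]
      exact fun x hx => Subgroup.mem_centralizer_singleton_iff.mpr (hrS x hx).symm
    exact (Subgroup.mem_centralizer_singleton_iff.mp (hle (hn e he))).symm
  calc n * r * n⁻¹ * e = n * (r * (n⁻¹ * e * n)) * n⁻¹ := by group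
    _ = n * (n⁻¹ * e * n * r) * n⁻¹ := by rw [hc]
    _ = _ := by group

theorem Good.of_isolated (hb : c.Bad) {S : Set G} {r a b : G} (hr : r ∈ c.K) (h2 : orderOf r = 2)
    (hrS : ∀ e ∈ S, r * e = e * r)
    (hfix : ∀ n ∈ c.N, (∀ e ∈ S, n * e = e * n) → n * r = r * n)
    (ha : ∀ e ∈ S, a * e = e * a) (hb' : ∀ e ∈ S, b * e = e * b) (ha2 : a * a = 1) (hb2 : b * b = 1)
    (hab : a * b = b * a) (ha1 : a ≠ 1) (hb1 : b ≠ 1) (hne : a ≠ b) (hca : c.Good (insert a S))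
    (hcb : c.Good (insert b S)) (hcab : c.Good (insert (a * b) S)) : c.Good S := by
  have hmem : ∀ x : G, x ∈ Subgroup.centralizer S ↔ ∀ e ∈ S, x * e = e * x := fun x => by
    rw [Subgroup.mem_centralizer_iff]; exact forall₂_congr fun e _ => eq_comm
  intro h hh
  refine le_of_isolated (H := Subgroup.centralizer S) (N := c.N) ((hmem r).mpr hrS) h2
    (fun x _ hx => c.centralizer_le hr h2 hx) (fun x hx hcx => ?_) ((hmem a).mpr ha) ((hmem b).mpr hb') ha2
    hb2 hab ha1 hb1 hne (fun x hx e => hca x ?_) (fun x hx e => hcb x ?_) (fun x hx e => hcab x ?_)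
    ((hmem h).mpr hh)
  · have hxN := hb.mem_N hr h2 (c.centralizer_le hr h2 hcx.eq.symm)
    exact mul_inv_eq_iff_eq_mul.mpr (hfix x hxN ((hmem x).mp hx))
  all_goals
    rintro e' (rfl | he')
    · exact e
    · exact (hmem x).mp hx e' he'

theorem vg_sq (v : Q4) : c.vg v * c.vg v = 1 := by
  rw [vg, ← map_mul, zc_mul, qadd_self, qadd_self]; exact map_one c.ι

theorem vg_ne {v : Q4} (hv : v ≠ q0) : c.vg v ≠ 1 := fun e =>
  hv (congrArg TC.v (c.inj (e.trans (map_one c.ι).symm)))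

theorem vg_invol {v : Q4} (hv : v ≠ q0) : orderOf (c.vg v) = 2 := c.V_invol hv

theorem Good.of_fixed (hb : c.Bad) {S : Set G} {r : G} (hr : r ∈ c.K) (h2 : orderOf r = 2)
    (hrS : ∀ e ∈ S, r * e = e * r) (hfix : ∀ n ∈ c.N, (∀ e ∈ S, n * e = e * n) → n * r = r * n)
    (hV : ∀ e ∈ S, ∀ v, e * c.vg v = c.vg v * e) : c.Good S := by
  refine Good.of_isolated hb hr h2 hrS hfix (a := c.vg q1) (b := c.vg qw) (fun e he => (hV e he _).symm)
    (fun e he => (hV e he _).symm) (vg_sq _) (vg_sq _) (c.vg_comm_ι _ _) (vg_ne (by decide)) (vg_ne (by decide))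
    (fun e => absurd (congrArg TC.v (c.inj e)) (by decide))
    (Good.of_mem_K (Set.mem_insert _ _) (c.vg_mem_K _) (vg_invol (by decide)))
    (Good.of_mem_K (Set.mem_insert _ _) (c.vg_mem_K _) (vg_invol (by decide))) ?_
  refine Good.of_mem_K (Set.mem_insert _ _) ?_ ?_ <;> rw [vg, vg, ← map_mul, zc_mul]
  · exact c.ι_V_mem_K _
  · exact c.V_invol (by decide)

theorem fix_split {n : G} (hn : n ∈ c.N) (u : TC) {k : G} (hk : k ∈ c.K)
    (h : n * (c.ι u * k) = c.ι u * k * n) : ∃ v, n * c.ι u * n⁻¹ = c.ι (u * zc q0 v) := by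
  set m := (c.ι u)⁻¹ * (n * c.ι u * n⁻¹)
  have e : m = k * (n * k * n⁻¹)⁻¹ := by
    calc m = (c.ι u)⁻¹ * (n * (c.ι u * k)) * (n * k)⁻¹ := by simp only [m]; group
      _ = (c.ι u)⁻¹ * (c.ι u * k * n) * (n * k)⁻¹ := by rw [h]
      _ = _ := by group
  have hmK : m ∈ c.K := e ▸ c.K.mul_mem hk (c.K.inv_mem (c.conj_K hn hk))
  have hmL : m ∈ c.L := c.L.mul_mem (c.L.inv_mem (c.ι_mem_L u)) (c.conj_L hn (c.ι_mem_L u))
  obtain ⟨v, hv⟩ := (c.d.center_iff ⟨m, hmL⟩).mp (Subgroup.mem_center_iff.mpr fun l =>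
    Subtype.ext (c.mem_K.mp hmK l l.2))
  refine ⟨v, ?_⟩
  have hv' : m = c.ι (zc q0 v) := congrArg Subtype.val hv
  rw [map_mul, ← hv']
  simp only [m, mul_inv_cancel_left]

theorem fix_Y {n : G} (hn : n ∈ c.N) {p v : Q4} (hp : p ≠ q0) (h : n * c.yg p * n⁻¹ = c.ι (zc p v)) :
    n ∈ c.NT ∧ v = q0 := by
  have key : ∀ x, n * c.ι x * n⁻¹ ∈ c.T := fun x => by
    refine c.mem_T_of_cent (c.conj_L hn (c.ι_mem_L x)) (v := v) hp ?_
    rw [← h, yg, show n * c.ι x * n⁻¹ * (n * c.ι (zc p q0) * n⁻¹) = n * (c.ι x * c.ι (zc p q0)) * n⁻¹ by group,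
      ← map_mul, zc_comm, map_mul]
    group
  have hNT : n ∈ c.NT := by
    refine ⟨hn, Subgroup.mem_normalizer_iff.mpr fun t => ⟨?_, fun ht => ?_⟩⟩
    · rintro ⟨x, rfl⟩; exact key x
    · let f : c.T → c.T := fun s => ⟨n * s * n⁻¹, by
        obtain ⟨x, hx⟩ := s.2
        rw [← hx]; exact key x⟩
      have hinj : Function.Injective f := fun a b e =>
        Subtype.ext (mul_left_cancel (mul_right_cancel (congrArg Subtype.val e) :))
      obtain ⟨s, hs⟩ := (Finite.injective_iff_surjective.mp hinj) ⟨_, ht⟩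
      have h1 : n * (s : G) * n⁻¹ = n * t * n⁻¹ := congrArg Subtype.val hs
      exact (mul_left_cancel (mul_right_cancel h1 :)) ▸ s.2
  refine ⟨hNT, ?_⟩
  obtain ⟨φ, hi, hφ⟩ := c.exists_phi hNT
  have e : φ (zc p q0) = zc p v := c.inj (by rw [← hφ]; exact h)
  have := (phi_Y hi (fun x hx => c.phi_inV hNT hφ hx) (x := zc p q0) ⟨rfl, rfl, rfl⟩).2.2
  rwa [e] at this

theorem mem_NT_of_comm {n : G} (hn : n ∈ c.N) {p : Q4} (hp : p ≠ q0) (h : n * c.yg p = c.yg p * n) :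
    n ∈ c.NT :=
  (fix_Y hn hp (v := q0) (by rw [h, mul_inv_cancel_right]; rfl)).1

/-- Root involutions times involutions of `K`. -/
theorem good_ztype (hb : c.Bad) {p : Q4} (hp : p ≠ q0) {k : G} (hk : k ∈ c.K) (h2 : orderOf k = 2) :
    c.Good {c.yg p * k} := by
  refine Good.of_fixed hb hk h2 ?_ ?_ ?_
  · rintro e rfl
    rw [← mul_assoc, yg, ← c.comm_K hk, mul_assoc]
  · intro n hn hc
    have hc' : n * (c.yg p * k) = c.yg p * k * n := hc _ rfl
    obtain ⟨v, hv⟩ := fix_split hn _ hk hc'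
    rw [zc_mul, (qadd_zero _).1, (qadd_zero _).2] at hv
    obtain ⟨-, rfl⟩ := fix_Y hn hp hv
    have e : n * c.yg p = c.yg p * n := mul_inv_eq_iff_eq_mul.mp hv
    rw [← mul_assoc, e, mul_assoc, mul_assoc] at hc'
    exact mul_left_cancel hc'
  · rintro e rfl v
    exact c.vg_comm_ιK v _ hk

/-- A root involution with an element of the Sylow subgroup outside its centre. -/
theorem good_yt (hb : c.Bad) {S : Set G} {p : Q4} (hp : p ≠ q0) (hy : c.yg p ∈ S) {u : TC}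
    (hu : ¬ (u.a = q0 ∧ u.b = q0)) {k : G} (hk : k ∈ c.K) (huk : c.ι u * k ∈ S)
    (hV : ∀ e ∈ S, ∀ v, e * c.vg v = c.vg v * e) : c.Good S := by
  obtain ⟨r, hr, hfix⟩ := common_fixed p u.a u.b hp hu
  refine Good.of_fixed hb (c.vg_mem_K r) (vg_invol hr) (fun e he => (hV e he r).symm) (fun n hn hc => ?_) hV
  have hNT := mem_NT_of_comm hn hp (hc _ hy)
  obtain ⟨k', hk'⟩ := c.exists_code hNT
  obtain ⟨hp', hq', t, ht⟩ := hk'
  obtain ⟨v, hv⟩ := fix_split hn u hk (hc _ huk)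
  have e1 : act k' (zc p q0) = zc p q0 := by
    have h1 := ht (zc p q0)
    rw [show n * c.ι (zc p q0) * n⁻¹ = c.ι (zc p q0) from mul_inv_eq_iff_eq_mul.mpr (hc _ hy)] at h1
    have h2 := c.inj h1
    calc act k' (zc p q0) = t⁻¹ * (t * act k' (zc p q0) * t⁻¹) * t := by group
      _ = _ := by rw [← h2, mul_assoc, ← zc_comm, inv_mul_cancel_left]
  have h3 := c.inj ((ht u).symm.trans hv)
  have hab := conj_ab t (act k' u)
  rw [h3] at hab
  have hmul : ∀ a b : Q4, qadd a q0 = a ∧ qadd b q0 = b := by decide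
  have ea : (act k' u).a = u.a := by
    rw [← hab.1, mul_def]; exact (hmul u.a u.b).1
  have eb : (act k' u).b = u.b := by
    rw [← hab.2, mul_def]; exact (hmul u.a u.b).2
  obtain ⟨ha', hb''⟩ := act_ab k' u.a u.b u.c u.v
  have := hfix k' hp' hq' (by rw [e1]; rfl) (ha'.symm.trans ea) (hb''.symm.trans eb)
  refine mul_inv_eq_iff_eq_mul.mp ?_
  rw [c.code_vg ⟨hp', hq', t, ht⟩, this]

/-- An element moving the centre of the cover. -/
theorem good_move (hb : c.Bad) {S : Set G} {e : G} (he : e ∈ S) (heN : e ∈ c.N) {r : Q4} (hr : r ≠ q0)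
    (hrS : ∀ x ∈ S, c.vg r * x = x * c.vg r)
    (honly : ∀ v, e * c.vg v = c.vg v * e → v = q0 ∨ v = r)
    {a : G} (ha : ∀ x ∈ S, a * x = x * a) (ha2 : a * a = 1) (ha1 : a ≠ 1) (hne : a ≠ c.vg r)
    (hab : a * c.vg r = c.vg r * a) (hca : c.Good (insert a S)) (hcab : c.Good (insert (a * c.vg r) S)) :
    c.Good S := by
  refine Good.of_isolated hb (c.vg_mem_K r) (vg_invol hr) hrS (fun n hn hc => ?_) ha hrS ha2 (vg_sq r) hab ha1
    (vg_ne hr) hne hca (Good.of_mem_K (Set.mem_insert _ _) (c.vg_mem_K r) (vg_invol hr)) hcab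
  obtain ⟨w, hw⟩ := c.conj_vg hn r
  have hwe : e * c.vg w = c.vg w * e := by
    rw [← hw]
    calc e * (n * c.vg r * n⁻¹) = (e * n) * c.vg r * n⁻¹ := by group
      _ = (n * e) * c.vg r * n⁻¹ := by rw [hc e he]
      _ = n * (c.vg r * e) * n⁻¹ := by rw [hrS e he]; group
      _ = n * c.vg r * (n⁻¹ * (n * e) * n⁻¹) := by group
      _ = n * c.vg r * (n⁻¹ * (e * n) * n⁻¹) := by rw [hc e he]
      _ = _ := by group
  rcases honly w hwe with rfl | rfl
  · exact absurd (conj_eq_one_iff.mp (hw.trans (map_one c.ι))) (vg_ne hr)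
  · exact mul_inv_eq_iff_eq_mul.mp hw

end Ctx

end CfsgLib.HeStd
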