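import Cfsg.Agent.Lib.HeStd.NotBad
import Cfsg.Agent.Lib.HeStd.FusedSet

/-!
# An involution of the centraliser is fused to an inner involution
-/

set_option autoImplicit false
set_option linter.style.haveILetI false
set_option linter.unusedSectionVars false

namespace CfsgLib.HeStd

universe u

namespace Ctx

variable {G : Type u} [Group G] {c : Ctx G} [Finite G]

theorem Fus.sq {x : G} (h : c.Fus x) : x * x = 1 ∧ x ≠ 1 := by
  obtain ⟨g, r, -, hr, rfl⟩ := h
  have rr : r * r = 1 := by rw [← pow_two, ← hr, pow_orderOf_eq_one]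
  refine ⟨by rw [show g * r * g⁻¹ * (g * r * g⁻¹) = g * (r * r) * g⁻¹ by group, rr]; group, fun e => ?_⟩
  rw [conj_eq_one_iff] at e
  rw [e, orderOf_one] at hr
  omega

theorem Fus.conj {x : G} (h : c.Fus x) (a : G) : c.Fus (a * x * a⁻¹) := by
  obtain ⟨g, r, hr, hr2, rfl⟩ := h
  exact ⟨a * g, r, hr, hr2, by group⟩

theorem eps_conj {n : c.N} {x : c.N} : c.eps (n * x * n⁻¹) = c.eps x := by
  have h := c.eps_mul (n * x * n⁻¹) n
  rw [inv_mul_cancel_right, c.eps_mul] at h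
  revert h
  generalize c.eps n = a
  generalize c.eps x = b
  generalize c.eps (n * x * n⁻¹) = d
  revert a b d
  decide

/-- Some conjugate of an involution of `K` is inner outside `K`. -/
theorem exists_inner [IsSimpleGroup G] :
    ∃ x, ∃ hx : x ∈ c.N, c.Fus x ∧ x ∉ c.K ∧ c.eps ⟨x, hx⟩ = (false, false) := by
  classical
  haveI : Fact (Nat.Prime 2) := ⟨Nat.prime_two⟩
  by_contra hcon
  push Not at hcon
  have hno : ∀ x (hx : x ∈ c.N), c.Fus x → c.eps ⟨x, hx⟩ = (false, false) → x ∈ c.K := fun x hx hf he => by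
    by_contra h
    exact hcon x hx hf h he
  have hbad := not_bad (c := c)
  simp only [Bad, not_forall] at hbad
  obtain ⟨x₀, hx₀, hf₀, hK₀⟩ := hbad
  obtain ⟨hxx₀, hx1⟩ := hf₀.sq
  obtain ⟨l, hl, hlx⟩ := c.exists_conj_NT (P := Subgroup.zpowers x₀)
    (IsPGroup.of_card (p := 2) (n := 1) (by
      rw [Nat.card_zpowers, orderOf_eq_prime (by rw [pow_two]; exact hxx₀) hx1, pow_one]))
    (Subgroup.zpowers_le.mpr hx₀)
  set x := l * x₀ * l⁻¹
  have hxNT : x ∈ c.NT := hlx x₀ (Subgroup.mem_zpowers _)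
  have hfx : c.Fus x := hf₀.conj l
  have hxx : x * x = 1 := hfx.sq.1
  have hxK : x ∉ c.K := fun h => hK₀ (by
    have := c.conj_K (c.N.inv_mem (c.L_le_N hl)) h
    rwa [show l⁻¹ * (l * x₀ * l⁻¹) * l⁻¹⁻¹ = x₀ by group] at this)
  have ho : (c.code ⟨x, hxNT⟩).out ≠ (false, false) := fun h =>
    hxK (hno x hxNT.1 hfx (by rw [c.eps_NT hxNT]; exact h))
  obtain ⟨hkp, hkq, t, ht⟩ := c.code_spec ⟨x, hxNT⟩
  set k := c.code ⟨x, hxNT⟩
  set t₀ : TC := ⟨t.a, t.b, q0, q0⟩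
  have htw : ∀ z, x * c.ι z * x⁻¹ = c.ι (tw k t₀ z) := fun z => by
    rw [ht, conj_twist]; rfl
  have hcheck := fused_check
  simp only [List.all_eq_true] at hcheck
  have h8 := hcheck k (mem_outerList k hkp hkq fun h => ho (Prod.ext h.1 h.2)) t₀ (mem_twists _ _)
  rw [show ([e₁, e₂, e₃, e₄].all fun e => decide (tw k t₀ (tw k t₀ e) = e)) = true from
    List.all_eq_true.mpr fun e _ => decide_eq_true (c.inj (by
      rw [← htw, ← htw, show x * (x * c.ι e * x⁻¹) * x⁻¹ = (x * x) * c.ι e * (x * x)⁻¹ by group, hxx]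
      group)), cond_true] at h8
  simp only [Bool.and_eq_true, decide_eq_true_eq, List.all_eq_true, List.any_eq_true] at h8
  obtain ⟨⟨⟨hlen, hnodup⟩, hfixed⟩, hclosed⟩ := h8
  obtain ⟨g, r, hrK, hr2, hgr⟩ := hfx
  -- the pull-back of the translations
  have hprop : ∀ z ∈ fusedList k t₀, ∃ h : g⁻¹ * c.ι z * g ∈ c.N, c.eps ⟨_, h⟩ = (false, false) → z = 1 := by
    intro z hz
    obtain ⟨s, hs⟩ := fusedList_spec hz
    obtain ⟨hfix, hzz⟩ := hfixed z hz
    have hcomm : c.ι z * x = x * c.ι z := by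
      have := htw z
      rw [hfix, mul_inv_eq_iff_eq_mul] at this
      exact this.symm
    have hN : g⁻¹ * c.ι z * g ∈ c.N := by
      refine c.centralizer_le hrK hr2 ?_
      have e : r = g⁻¹ * x * g := by rw [← hgr]; group
      rw [e]
      calc g⁻¹ * c.ι z * g * (g⁻¹ * x * g) = g⁻¹ * (c.ι z * x) * g := by group
        _ = g⁻¹ * (x * c.ι z) * g := by rw [hcomm]
        _ = _ := by group
    refine ⟨hN, fun he => ?_⟩
    by_contra hz1
    set w := g⁻¹ * c.ι z * g with hw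
    have hwι : c.ι z = g * w * g⁻¹ := by rw [hw]; group
    have hxz : c.ι s * x * (c.ι s)⁻¹ = x * c.ι z := by
      rw [← hs, map_mul, map_inv, ← htw]
      calc c.ι s * x * (c.ι s)⁻¹ = (x * x) * c.ι s * x⁻¹ * (c.ι s)⁻¹ := by
            rw [hxx, one_mul, show x⁻¹ = x from inv_eq_of_mul_eq_one_right hxx]
        _ = _ := by group
    have hfz : c.Fus (r * w) := by
      refine ⟨g⁻¹ * (c.ι s * g), r, hrK, hr2, ?_⟩
      calc g⁻¹ * (c.ι s * g) * r * (g⁻¹ * (c.ι s * g))⁻¹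
          = g⁻¹ * (c.ι s * (g * r * g⁻¹) * (c.ι s)⁻¹) * g := by group
        _ = g⁻¹ * (c.ι s * x * (c.ι s)⁻¹) * g := by rw [hgr]
        _ = g⁻¹ * (x * c.ι z) * g := by rw [hxz]
        _ = _ := by rw [← hgr, hw]; group
    have hrwK := hno (r * w) (c.N.mul_mem (c.K_le_N hrK) hN) hfz (by
      rw [show (⟨r * w, c.N.mul_mem (c.K_le_N hrK) hN⟩ : c.N) = ⟨r, c.K_le_N hrK⟩ * ⟨w, hN⟩ from rfl,
        c.eps_mul, c.eps_K (n := ⟨r, c.K_le_N hrK⟩) hrK, he]
      rfl)
    have hwK : w ∈ c.K := by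
      have := c.K.mul_mem (c.K.inv_mem hrK) hrwK
      rwa [inv_mul_cancel_left] at this
    have hw2 : orderOf w = 2 := by
      rw [hw, show g⁻¹ * c.ι z * g = MulAut.conj g⁻¹ (c.ι z) by simp [MulAut.conj_apply], MulEquiv.orderOf_eq,
        orderOf_injective c.ι c.inj]
      exact orderOf_eq_prime (by rw [pow_two]; exact hzz) hz1
    have hzK : c.ι z ∈ c.K := hno _ (c.ι_mem_N z) ⟨g, w, hwK, hw2, hwι.symm⟩
      (c.eps_L (n := ⟨c.ι z, c.ι_mem_N z⟩) (c.ι_mem_L z))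
    have hgN : g ∈ c.N := c.mem_N_of_conj hwK hw2 (hwι ▸ hzK)
    exact hxK (hgr ▸ c.conj_K hgN hrK)
  choose hN hone using hprop
  let f : Fin (fusedList k t₀).length → Bool × Bool := fun i =>
    c.eps ⟨_, hN ((fusedList k t₀).get i) (List.get_mem _ _)⟩
  obtain ⟨i, j, hij, hfij⟩ := Fintype.exists_ne_map_eq_of_card_lt f (by simp [hlen])
  obtain ⟨y, hy, hye⟩ := hclosed _ (List.get_mem (fusedList k t₀) i) _ (List.get_mem (fusedList k t₀) j)
  have h1 := hone y hy (by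
    have e : (⟨g⁻¹ * c.ι y * g, hN y hy⟩ : c.N) =
        ⟨_, hN ((fusedList k t₀).get i) (List.get_mem _ _)⟩ * ⟨_, hN ((fusedList k t₀).get j) (List.get_mem _ _)⟩ :=
      Subtype.ext (by
        show g⁻¹ * c.ι y * g = g⁻¹ * c.ι _ * g * (g⁻¹ * c.ι _ * g)
        rw [hye, map_mul]; group)
    rw [e, c.eps_mul, oadd_self]
    exact hfij)
  obtain ⟨-, hjj⟩ := hfixed _ (List.get_mem (fusedList k t₀) j)
  rw [h1] at hye
  refine hij ((List.nodup_iff_injective_get.mp hnodup) ?_)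
  rw [eq_inv_of_mul_eq_one_left hye.symm, inv_eq_of_mul_eq_one_right hjj]

end Ctx

end CfsgLib.HeStd
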