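import Cfsg.Agent.Lib.HeStd.Theta

/-!
# Two-elements centralising the centre of the Sylow subgroup
-/

set_option autoImplicit false
set_option linter.style.haveILetI false
set_option linter.unusedSectionVars false

namespace CfsgLib.HeStd

universe u

theorem center_code : ∀ k : AK, k.p ≠ q0 → k.q ≠ q0 →
    (∀ p : Q4, act k (zc p q0) = zc p q0) → (∀ v : Q4, act k (zc q0 v) = zc q0 v) →
    ∀ y : TC, act k y = y := by decide +kernel

theorem swap_yT : ∀ k : AK, k.p ≠ q0 → k.q ≠ q0 → ∀ x : TC, yT x = true → ¬ (x.a = q0 ∧ x.b = q0) →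
    yT (act k x) = true ∧ ¬ ((act k x).a = q0 ∧ (act k x).b = q0) ∧
      yT (th0 x) = true ∧ ¬ ((th0 x).a = q0 ∧ (th0 x).b = q0) := by decide +kernel

theorem conj_yT : ∀ t ∈ twists, ∀ x : TC, yT x = true → ¬ (x.a = q0 ∧ x.b = q0) →
    yT (t * x * t⁻¹) = true := by decide +kernel

namespace Ctx

variable {G : Type u} [Group G] {c : Ctx G} [Finite G] [IsSimpleGroup G]

/-- A 2-element centralising the centre of the Sylow subgroup lies in the Sylow subgroup. -/
theorem mem_T_of_center {n : G} (hc : ∀ p v : Q4, n * c.ι (zc p v) = c.ι (zc p v) * n) {j : ℕ}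
    (hj : n ^ 2 ^ j = 1) : ∃ x, n = c.ι x := by
  have hN : n ∈ c.N := c.centralizer_le (c.vg_mem_K q1) (vg_invol (by decide)) (hc q0 q1)
  have hNT : n ∈ c.NT := mem_NT_of_comm hN (p := q1) (by decide) (hc q1 q0)
  obtain ⟨k, hp, hq, t, ht⟩ := c.exists_code hNT
  have hid : ∀ y, act k y = y := by
    have e : ∀ p v : Q4, act k (zc p v) = zc p v := fun p v => by
      have h := c.inj ((ht (zc p v)).symm.trans (mul_inv_eq_iff_eq_mul.mpr (hc p v)))
      calc act k (zc p v) = t⁻¹ * (t * act k (zc p v) * t⁻¹) * t := by group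
        _ = _ := by rw [h, mul_assoc, ← zc_comm, inv_mul_cancel_left]
    exact center_code k hp hq (fun p => e p q0) (fun v => e q0 v)
  have hTc : ∀ y, ((c.ι t)⁻¹ * n) * c.ι y = c.ι y * ((c.ι t)⁻¹ * n) := fun y => by
    have h := ht y
    rw [hid, map_mul, map_mul, map_inv] at h
    calc (c.ι t)⁻¹ * n * c.ι y = (c.ι t)⁻¹ * (n * c.ι y * n⁻¹) * n := by group
      _ = _ := by rw [h]; group
  obtain ⟨cc, hk⟩ := c.kernel (c.N.mul_mem (c.N.inv_mem (c.ι_mem_N t)) hN) hTc
  set k' := c.ι (zc cc q0) * ((c.ι t)⁻¹ * n) with hk'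
  have e : n = c.ι (t * (zc cc q0)⁻¹) * k' := by rw [hk', map_mul, map_inv]; group
  set u := t * (zc cc q0)⁻¹
  clear_value k'
  have hcomm : Commute (c.ι u) k' := c.comm_K hk u
  have h4 : k' ^ 2 ^ (j + 2) = 1 := by
    have h : n ^ 2 ^ (j + 2) = 1 := by rw [pow_add, pow_mul, hj, one_pow]
    rw [e, hcomm.mul_pow, ← map_pow] at h
    have hu : u ^ 2 ^ (j + 2) = 1 := by rw [pow_add, mul_comm, pow_mul, pow_four, one_pow]
    rwa [hu, map_one, one_mul] at h
  obtain ⟨v, rfl⟩ := K_two hk h4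
  exact ⟨u * zc q0 v, by rw [e]; exact (map_mul c.ι u _).symm⟩

/-- An element preserving the centre of the Sylow subgroup normalises the Sylow subgroup. -/
theorem conj_mem_T {m : G}
    (hm : ∀ p v : Q4, ∃ p' v', m⁻¹ * c.ι (zc p v) * m = c.ι (zc p' v')) (x : TC) :
    ∃ y, m * c.ι x * m⁻¹ = c.ι y := by
  refine mem_T_of_center (fun p v => ?_) (j := 2) ?_
  · obtain ⟨p', v', e⟩ := hm p v
    calc m * c.ι x * m⁻¹ * c.ι (zc p v) = m * (c.ι x * (m⁻¹ * c.ι (zc p v) * m)) * m⁻¹ := by group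
      _ = m * ((m⁻¹ * c.ι (zc p v) * m) * c.ι x) * m⁻¹ := by rw [e, ← map_mul, ← map_mul, zc_comm]
      _ = _ := by group
  · rw [conj_pow, ← map_pow, pow_four, map_one, mul_one, mul_inv_cancel]

/-- The shape of an element normalising the Sylow subgroup and taking `Y` into `V`. -/
theorem swap_model {m : G} (hT : ∀ x, ∃ y, m * c.ι x * m⁻¹ = c.ι y)
    (hY : ∀ p : Q4, ∃ v, m * c.yg p * m⁻¹ = c.vg v) :
    ∃ k : AK, k.p ≠ q0 ∧ k.q ≠ q0 ∧ ∃ t : TC, ∀ x, m * c.ι x * m⁻¹ = c.ι (t * th0 (act k x) * t⁻¹) := by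
  choose f hf using hT
  let φ : TC →* TC := MonoidHom.mk' f fun a b => c.inj (by rw [map_mul, ← hf, ← hf, ← hf, map_mul]; group)
  have hφ : ∀ x, m * c.ι x * m⁻¹ = c.ι (φ x) := hf
  have hi : Function.Injective φ := fun a b e => c.inj (by
    have h := congrArg c.ι e
    rw [← hφ, ← hφ] at h
    exact mul_left_cancel (mul_right_cancel h :))
  obtain ⟨g, k₀, hp₀, hq₀, t₀, hg⟩ := exists_swap (c := c)
  -- `m g⁻¹` fixes `V`
  have hVg : ∀ v, ∃ p, g⁻¹ * c.vg v * g = c.yg p := by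
    intro v
    obtain ⟨p, hp⟩ := (Finite.injective_iff_surjective.mp (show Function.Injective
      (fun p => (th0 (act k₀ (zc p q0))).v) from by
        have key : ∀ k : AK, k.p ≠ q0 → k.q ≠ q0 → ∀ p q : Q4,
            (th0 (act k (zc p q0))).v = (th0 (act k (zc q q0))).v → p = q := by decide +kernel
        exact fun p q e => key k₀ hp₀ hq₀ p q e)) v
    refine ⟨p, ?_⟩
    have key : ∀ k : AK, ∀ p : Q4, th0 (act k (zc p q0)) = zc q0 (th0 (act k (zc p q0))).v := by decide +kernel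
    have h := hg (zc p q0)
    simp only at hp
    rw [key, hp, conj_central] at h
    rw [vg, ← h, yg]
    group
  have hn : ∀ v, ∃ w, (m * g⁻¹) * c.vg v * (m * g⁻¹)⁻¹ = c.vg w := by
    intro v
    obtain ⟨p, hp⟩ := hVg v
    obtain ⟨w, hw⟩ := hY p
    exact ⟨w, by rw [← hw, ← hp]; group⟩
  have hnN : m * g⁻¹ ∈ c.N := by
    obtain ⟨w, hw⟩ := hn q1
    exact c.mem_N_of_conj (c.vg_mem_K q1) (vg_invol (by decide)) (hw ▸ c.vg_mem_K w)
  have hsur : ∀ y, ∃ x, t₀ * th0 (act k₀ x) * t₀⁻¹ = y := by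
    refine Finite.injective_iff_surjective.mp fun a b e => c.inj ?_
    have h := congrArg c.ι e
    rw [← hg, ← hg] at h
    exact mul_left_cancel (mul_right_cancel h :)
  have key : ∀ y, (m * g⁻¹) * c.ι y * (m * g⁻¹)⁻¹ ∈ c.T := fun y => by
    obtain ⟨x, hx⟩ := hsur y
    rw [← hx, ← hg, show m * g⁻¹ * (g * c.ι x * g⁻¹) * (m * g⁻¹)⁻¹ = m * c.ι x * m⁻¹ by group, hφ]
    exact c.ι_mem_T _
  have hnNT : m * g⁻¹ ∈ c.NT := by
    refine ⟨hnN, Subgroup.mem_normalizer_iff.mpr fun t => ⟨?_, fun ht => ?_⟩⟩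
    · rintro ⟨x, rfl⟩; exact key x
    · let F : c.T → c.T := fun s => ⟨m * g⁻¹ * s * (m * g⁻¹)⁻¹, by
        obtain ⟨x, hx⟩ := s.2
        rw [← hx]; exact key x⟩
      have hinj : Function.Injective F := fun a b e =>
        Subtype.ext (mul_left_cancel (mul_right_cancel (congrArg Subtype.val e) :))
      obtain ⟨s, hs⟩ := (Finite.injective_iff_surjective.mp hinj) ⟨_, ht⟩
      have h1 : m * g⁻¹ * (s : G) * (m * g⁻¹)⁻¹ = m * g⁻¹ * t * (m * g⁻¹)⁻¹ := congrArg Subtype.val hs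
      exact (mul_left_cancel (mul_right_cancel h1 :)) ▸ s.2
  obtain ⟨k₁, hp₁, hq₁, t₁, ht₁⟩ := c.exists_code hnNT
  have hcomp : ∀ x, φ x = t₁ * act k₁ (t₀ * th0 (act k₀ x) * t₀⁻¹) * t₁⁻¹ := fun x => c.inj (by
    rw [← hφ, ← ht₁, ← hg]; group)
  obtain ⟨k, hp, hq, t, ht⟩ := exists_model (φ := th0H.comp φ)
    (fun a b e => hi (by
      have h := congrArg th0 (show th0 (φ a) = th0 (φ b) from e)
      rwa [th0_th0, th0_th0] at h))
    (fun x hx => by
      show yT (th0 (φ x)) = true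
      by_cases hz : x.a = q0 ∧ x.b = q0
      · have e : x = zc x.c q0 := TC.ext hz.1 hz.2 rfl ((yT_central x.c x.v).1.mp
          ((show x = zc x.c x.v from TC.ext hz.1 hz.2 rfl rfl) ▸ hx))
        obtain ⟨v, hv⟩ := hY x.c
        rw [e, show φ (zc x.c q0) = zc q0 v from c.inj ((hφ _).symm.trans hv), (yT_central _ _).2.2]
        exact (yT_central _ _).1.mpr rfl
      · obtain ⟨h1, h2, -, -⟩ := swap_yT k₀ hp₀ hq₀ x hx hz
        obtain ⟨-, -, h3, h4⟩ := swap_yT k₀ hp₀ hq₀ _ h1 h2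
        have h5 : yT (t₀ * th0 (act k₀ x) * t₀⁻¹) = true := by
          rw [conj_twist]; exact conj_yT _ (mem_twists _ _) _ h3 h4
        have h6 : ¬ ((t₀ * th0 (act k₀ x) * t₀⁻¹).a = q0 ∧ (t₀ * th0 (act k₀ x) * t₀⁻¹).b = q0) := by
          rwa [(conj_ab _ _).1, (conj_ab _ _).2]
        obtain ⟨h7, h8, -, -⟩ := swap_yT k₁ hp₁ hq₁ _ h5 h6
        have h9 : yT (φ x) = true := by
          rw [hcomp, conj_twist]; exact conj_yT _ (mem_twists _ _) _ h7 h8
        have h10 : ¬ ((φ x).a = q0 ∧ (φ x).b = q0) := by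
          rwa [hcomp, (conj_ab _ _).1, (conj_ab _ _).2]
        exact (th0_facts _ h9).1 h10)
    (fun x hx => by
      show inV (th0 (φ x)) = true
      simp only [inV, Bool.and_eq_true, decide_eq_true_eq] at hx
      rw [show x = zc q0 x.v from TC.ext hx.1.1 hx.1.2 hx.2 rfl]
      obtain ⟨p, hp⟩ := hVg x.v
      obtain ⟨w, hw⟩ := hn x.v
      have hp' : g * c.yg p * g⁻¹ = c.vg x.v := by rw [← hp]; group
      obtain ⟨ha, hb⟩ := phi_Z hi (x := zc q0 x.v) ⟨rfl, rfl⟩
      rw [show φ (zc q0 x.v) = zc (φ (zc q0 x.v)).c (φ (zc q0 x.v)).v from TC.ext ha hb rfl rfl,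
        (yT_central _ _).2.2]
      refine (yT_central _ _).2.1.mpr ?_
      by_contra hne
      -- the images of `V` are fused
      have hF : c.Fus (c.ι (φ (zc q0 x.v))) := by
        have hv0 : x.v ≠ q0 := fun h0 => hne (by rw [h0]; exact congrArg TC.v (map_one φ))
        obtain ⟨g', r, hr, hr2, hg'⟩ := fus_vg (c := c) hv0
        exact ⟨m * g', r, hr, hr2, by rw [← hφ, show c.ι (zc q0 x.v) = c.vg x.v from rfl, ← hg']; group⟩
      rw [show φ (zc q0 x.v) = zc (φ (zc q0 x.v)).c (φ (zc q0 x.v)).v from TC.ext ha hb rfl rfl] at hF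
      rcases fus_central hF with h0 | h0
      · -- then it lies in `V`, which is the image of `Y`
        obtain ⟨p', hp'⟩ := (Finite.injective_iff_surjective.mp (show Function.Injective
          (fun p' => (φ (zc p' q0)).v) from fun a b e => by
            obtain ⟨va, hva⟩ := hY a
            obtain ⟨vb, hvb⟩ := hY b
            have ea : φ (zc a q0) = zc q0 va := c.inj ((hφ _).symm.trans hva)
            have eb : φ (zc b q0) = zc q0 vb := c.inj ((hφ _).symm.trans hvb)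
            simp only [ea, eb] at e
            exact congrArg TC.c (hi (ea.trans ((show va = vb from e) ▸ eb.symm)))))
          (φ (zc q0 x.v)).v
        simp only at hp'
        obtain ⟨vp, hvp⟩ := hY p'
        have ep : φ (zc p' q0) = zc q0 vp := c.inj ((hφ _).symm.trans hvp)
        have e2 : φ (zc p' q0) = φ (zc q0 x.v) := by
          rw [ep, show vp = (φ (zc q0 x.v)).v by rw [← hp', ep]; rfl]
          exact TC.ext ha.symm hb.symm h0.symm rfl
        have h := hi e2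
        exact hne (by rw [show x.v = q0 from (congrArg TC.v h).symm]; exact congrArg TC.v (map_one φ))
      · exact hne h0)
    (fun x hx => by
      obtain ⟨h1, h2⟩ : (φ x).a = q0 ∧ (φ x).b = q0 := phi_Z hi hx
      exact ⟨h1, by show qsq (φ x).b = q0; rw [h2]; decide⟩)
  refine ⟨k, hp, hq, th0 t, fun x => ?_⟩
  rw [hφ]
  congr 1
  have h := congrArg th0 (show th0 (φ x) = t * act k x * t⁻¹ from ht x)
  rwa [th0_th0, show th0 (t * act k x * t⁻¹) = th0 t * th0 (act k x) * (th0 t)⁻¹ from by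
    show th0H (t * act k x * t⁻¹) = _
    rw [map_mul, map_mul, map_inv]; rfl] at h

end Ctx

end CfsgLib.HeStd
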