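import Cfsg.Agent.Lib.HeStd.Swapper
import Cfsg.Agent.Lib.HeStd.TorCent

/-!
# Moving fused involutions of the Sylow subgroup into `V`, fixing `z`
-/

set_option autoImplicit false
set_option linter.style.haveILetI false
set_option linter.unusedSectionVars false

namespace CfsgLib.HeStd

universe u

/-- The distinguished involution of the centre of the Sylow subgroup. -/
def zz : TC := zc q1 q1

/-- Conjugation in the coordinates. -/
def cjt (s x : TC) : TC := s * x * s⁻¹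

/-- The moves on `b = 0`. -/
def movesA : List (TC → TC) :=
  [id, fun x => swapA (swA' (swapA x)),
    fun x => swapA (cjt e₃ (swA' x)), fun x => swA' (cjt e₃ (swapA x)),
    fun x => swapA (cjt e₃ (swA' (cjt e₄ x))), fun x => swA' (cjt e₃ (swapA (cjt e₄ x)))]

/-- The moves on `a = 0`. -/
def movesB : List (TC → TC) :=
  [id, fun x => swapB (swB' (swapB x)),
    fun x => swapB (cjt e₁ (swB' x)), fun x => swB' (cjt e₁ (swapB x)),
    fun x => swapB (cjt e₁ (swB' (cjt e₂ x))), fun x => swB' (cjt e₁ (swapB (cjt e₂ x)))]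

/-- The root or centre type: the fused elements of the Sylow subgroup. -/
def fusT (x : TC) : Bool := !decide (x = 1) && (inV x || yT x)

theorem cover_A : ∀ x : TC, fusT x = true → x.b = q0 →
    movesA.any (fun f => decide (f zz = zz) && inV (f x)) = true := by decide +kernel

theorem cover_B : ∀ x : TC, fusT x = true → x.a = q0 →
    movesB.any (fun f => decide (f zz = zz) && inV (f x)) = true := by decide +kernel

theorem fusT_shape : ∀ x : TC, fusT x = true → (x.a = q0 ∨ x.b = q0) ∧ x * x = 1 := by decide +kernel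

theorem to_z : ∀ a v : Q4, a ≠ q0 → v ≠ q0 → ∃ p q : Q4, p ≠ q0 ∧ q ≠ q0 ∧
    act ⟨p, q, false, false⟩ (zc a v) = zz := by decide +kernel

namespace Ctx

variable {G : Type u} [Group G] {c : Ctx G} [Finite G] [IsSimpleGroup G]

/-- A partial symmetry of `b = 0`. -/
def MovA (c : Ctx G) (n : G) (f : TC → TC) : Prop :=
  ∀ x : TC, x.b = q0 → (f x).b = q0 ∧ n * c.ι x * n⁻¹ = c.ι (f x)

/-- A partial symmetry of `a = 0`. -/
def MovB (c : Ctx G) (n : G) (f : TC → TC) : Prop :=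
  ∀ x : TC, x.a = q0 → (f x).a = q0 ∧ n * c.ι x * n⁻¹ = c.ι (f x)

theorem MovA.comp {n m : G} {f g : TC → TC} (h : c.MovA n f) (h' : c.MovA m g) :
    c.MovA (n * m) fun x => f (g x) := fun x hx => by
  obtain ⟨h1, h2⟩ := h' x hx
  obtain ⟨h3, h4⟩ := h _ h1
  exact ⟨h3, by rw [← h4, ← h2]; group⟩

theorem MovB.comp {n m : G} {f g : TC → TC} (h : c.MovB n f) (h' : c.MovB m g) :
    c.MovB (n * m) fun x => f (g x) := fun x hx => by
  obtain ⟨h1, h2⟩ := h' x hx
  obtain ⟨h3, h4⟩ := h _ h1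
  exact ⟨h3, by rw [← h4, ← h2]; group⟩

theorem exists_movA {f : TC → TC} (hf : f ∈ movesA) : ∃ n, c.MovA n f := by
  obtain ⟨w, hw⟩ := exists_swA' (c := c)
  have hA : c.MovA (c.d.w₁ : G) swapA := fun x hx => ⟨hx, c.w₁_conj hx⟩
  have hA' : c.MovA w swA' := fun x hx => ⟨hx, hw x hx⟩
  have hS : ∀ s, c.MovA (c.ι s) (cjt s) := fun s x hx =>
    ⟨(conj_ab s x).2.trans hx, by rw [cjt, map_mul, map_mul, map_inv]⟩
  simp only [movesA, List.mem_cons, List.not_mem_nil, or_false] at hf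
  rcases hf with rfl | rfl | rfl | rfl | rfl | rfl
  · exact ⟨1, fun x hx => ⟨hx, by simp⟩⟩
  · exact ⟨_, hA.comp (hA'.comp hA)⟩
  · exact ⟨_, hA.comp ((hS e₃).comp hA')⟩
  · exact ⟨_, hA'.comp ((hS e₃).comp hA)⟩
  · exact ⟨_, hA.comp ((hS e₃).comp (hA'.comp (hS e₄)))⟩
  · exact ⟨_, hA'.comp ((hS e₃).comp (hA.comp (hS e₄)))⟩

theorem exists_movB {f : TC → TC} (hf : f ∈ movesB) : ∃ n, c.MovB n f := by
  obtain ⟨w, hw⟩ := exists_swB' (c := c)
  have hA : c.MovB (c.d.w₂ : G) swapB := fun x hx => ⟨hx, c.w₂_conj hx⟩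
  have hA' : c.MovB w swB' := fun x hx => ⟨hx, hw x hx⟩
  have hS : ∀ s, c.MovB (c.ι s) (cjt s) := fun s x hx =>
    ⟨(conj_ab s x).1.trans hx, by rw [cjt, map_mul, map_mul, map_inv]⟩
  simp only [movesB, List.mem_cons, List.not_mem_nil, or_false] at hf
  rcases hf with rfl | rfl | rfl | rfl | rfl | rfl
  · exact ⟨1, fun x hx => ⟨hx, by simp⟩⟩
  · exact ⟨_, hA.comp (hA'.comp hA)⟩
  · exact ⟨_, hA.comp ((hS e₁).comp hA')⟩
  · exact ⟨_, hA'.comp ((hS e₁).comp hA)⟩
  · exact ⟨_, hA.comp ((hS e₁).comp (hA'.comp (hS e₂)))⟩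
  · exact ⟨_, hA'.comp ((hS e₁).comp (hA.comp (hS e₂)))⟩

/-- The distinguished involution. -/
def zg (c : Ctx G) : G := c.ι zz

theorem move_T {x : TC} (hx : fusT x = true) :
    ∃ n, n * c.zg * n⁻¹ = c.zg ∧ ∃ j, j ≠ q0 ∧ n * c.ι x * n⁻¹ = c.vg j := by
  obtain ⟨hs, -⟩ := fusT_shape x hx
  have fin : ∀ (f : TC → TC) (n : G), f zz = zz → inV (f x) = true → n * c.ι zz * n⁻¹ = c.ι (f zz) →
      n * c.ι x * n⁻¹ = c.ι (f x) → ∃ n, n * c.zg * n⁻¹ = c.zg ∧ ∃ j, j ≠ q0 ∧ n * c.ι x * n⁻¹ = c.vg j := by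
    intro f n h1 h2 h3 h4
    refine ⟨n, by rw [zg, h3, h1], (f x).v, fun h0 => ?_, ?_⟩
    · simp only [inV, Bool.and_eq_true, decide_eq_true_eq] at h2
      have h5 : c.ι x = 1 := by
        rw [show f x = 1 from TC.ext h2.1.1 h2.1.2 h2.2 h0, map_one, conj_eq_one_iff] at h4
        exact h4
      simp [fusT, c.inj (h5.trans (map_one c.ι).symm)] at hx
    · simp only [inV, Bool.and_eq_true, decide_eq_true_eq] at h2
      rw [h4, vg, show f x = zc q0 (f x).v from TC.ext h2.1.1 h2.1.2 h2.2 rfl]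
      rfl
  rcases hs with ha | hb
  · obtain ⟨f, hf, h⟩ := List.any_eq_true.mp (cover_B x hx ha)
    simp only [Bool.and_eq_true, decide_eq_true_eq] at h
    obtain ⟨n, hn⟩ := exists_movB (c := c) hf
    exact fin f n h.1 h.2 (hn zz rfl).2 (hn x ha).2
  · obtain ⟨f, hf, h⟩ := List.any_eq_true.mp (cover_A x hx hb)
    simp only [Bool.and_eq_true, decide_eq_true_eq] at h
    obtain ⟨n, hn⟩ := exists_movA (c := c) hf
    exact fin f n h.1 h.2 (hn zz rfl).2 (hn x hb).2

/-- The fused elements of the Sylow subgroup. -/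
theorem fus_iff {x : TC} : c.Fus (c.ι x) ↔ fusT x = true := by
  constructor
  · intro h
    obtain ⟨hxx, hx1⟩ := h.sq
    have hne : x ≠ 1 := fun e => hx1 (by rw [e, map_one])
    have hsq : x * x = 1 := c.inj (by rw [map_mul, hxx, map_one])
    have hs := sq_one_shape x hsq
    simp only [fusT, Bool.and_eq_true, Bool.not_eq_true', decide_eq_false_iff_not, Bool.or_eq_true]
    refine ⟨hne, ?_⟩
    cases hV : inV x
    · refine Or.inr ?_
      obtain ⟨m, hm, a, v, ha, hma⟩ := exists_root (c := c) hs hV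
      refine (c.yT_iff hs).mpr ⟨m, hm, a, ?_⟩
      have hF := h.conj m
      rw [hma] at hF
      rw [hma, (fus_central hF).resolve_left ha]
    · exact Or.inl rfl
  · intro h
    obtain ⟨n, -, j, hj, e⟩ := move_T (c := c) h
    have h2 := (fus_vg (c := c) hj).conj n⁻¹
    rwa [← e, show n⁻¹ * (n * c.ι x * n⁻¹) * n⁻¹⁻¹ = c.ι x by group] at h2

theorem zg_not_fus : ¬ c.Fus c.zg := fun h => by
  have h2 := fus_iff.mp h
  revert h2
  decide +kernel

/-- The other involutions of the Sylow subgroup are conjugate to `z` in `N`. -/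
theorem inner_to_z {x : TC} (hsq : x * x = 1) (hne : x ≠ 1) (hF : fusT x = false) :
    ∃ n ∈ c.N, n * c.ι x * n⁻¹ = c.zg := by
  have hs := sq_one_shape x hsq
  simp only [fusT, Bool.and_eq_false_iff, Bool.not_eq_false', decide_eq_true_eq, Bool.or_eq_false_iff] at hF
  obtain ⟨hV, hy⟩ := hF.resolve_left hne
  obtain ⟨m, hm, a, v, ha, hma⟩ := exists_root (c := c) hs hV
  have hv : v ≠ q0 := fun e => by
    subst e
    have := (c.yT_iff hs).mpr ⟨m, hm, a, hma⟩
    rw [hy] at this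
    exact Bool.false_ne_true this
  obtain ⟨p, q, hp, hq, hpq⟩ := to_z a v ha hv
  obtain ⟨n, hn, hn'⟩ := exists_scl (c := c) hp hq
  refine ⟨n * m, c.N.mul_mem hn.1 (c.L_le_N hm), ?_⟩
  rw [show n * m * c.ι x * (n * m)⁻¹ = n * (m * c.ι x * m⁻¹) * n⁻¹ by group, hma, hn', hpq]
  rfl

end Ctx

end CfsgLib.HeStd
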