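import Cfsg.Agent.Lib.HeStd.Bad

/-!
# Some involution of the centraliser is fused into the normaliser outside it: conclusion
-/

set_option autoImplicit false
set_option linter.style.haveILetI false
set_option linter.unusedSectionVars false

namespace CfsgLib.HeStd

universe u

theorem span_two : ∀ p q r : Q4, p ≠ q0 → q ≠ q0 → q ≠ p →
    r = q0 ∨ r = p ∨ r = q ∨ r = qadd p q := by decide

theorem sq_inV : ∀ u : TC, inV (u * u) = true → (u.a = q0 ∨ u.b = q0) ∧ u * u = 1 := by decide +kernel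

theorem invol_fixed : ∀ k : AK, k.p ≠ q0 → k.q ≠ q0 → k.out ≠ (false, false) →
    (∀ p : Q4, act k (act k (zc p q0)) = zc p q0) → (∀ v : Q4, act k (act k (zc q0 v)) = zc q0 v) →
    (∃ p, p ≠ q0 ∧ act k (zc p q0) = zc p q0) ∧ ∃ r, r ≠ q0 ∧ fV k r = r := by decide +kernel

theorem out_xor : ∀ a b : Bool × Bool, a ≠ (false, false) → b ≠ (false, false) → a ≠ b →
    xor a.1 a.2 = true ∨ xor b.1 b.2 = true := by decide

theorem oadd_self : ∀ a b : Bool × Bool, (oadd a b = (false, false) ↔ a = b) := by decide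

namespace Ctx

variable {G : Type u} [Group G] {c : Ctx G} [Finite G]

/-- Every element of the centre complement commutes with something commuting with two of them. -/
theorem comm_yg {h : G} {p q : Q4} (hp : p ≠ q0) (hq : q ≠ q0) (hne : q ≠ p) (h1 : h * c.yg p = c.yg p * h)
    (h2 : h * c.yg q = c.yg q * h) (r : Q4) : h * c.yg r = c.yg r * h := by
  rcases span_two p q r hp hq hne with rfl | rfl | rfl | rfl
  · rw [show c.yg q0 = 1 from map_one c.ι, mul_one, one_mul]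
  · exact h1
  · exact h2
  · have e : c.yg (qadd p q) = c.yg p * c.yg q := by
      rw [yg, yg, yg, ← map_mul, zc_mul, qadd_self]
    rw [e, ← mul_assoc, h1, mul_assoc, h2, mul_assoc]

theorem good_Y (hb : c.Bad) : c.Good {c.yg q1, c.yg qw} := by
  refine good_core hb (p := q1) (by decide) (Set.mem_insert _ _) ?_ (fun q hq => absurd ?_ hq)
  · rintro e (rfl | rfl)
    exacts [⟨_, rfl⟩, ⟨_, rfl⟩]
  · have m1 : c.yg q1 ∈ Subgroup.closure ({c.yg q1, c.yg qw} : Set G) :=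
      Subgroup.subset_closure (Set.mem_insert _ _)
    have mw : c.yg qw ∈ Subgroup.closure ({c.yg q1, c.yg qw} : Set G) :=
      Subgroup.subset_closure (Set.mem_insert_of_mem _ rfl)
    rcases span_two q1 qw q (by decide) (by decide) (by decide) with rfl | rfl | rfl | rfl
    · rw [show c.yg q0 = 1 from map_one c.ι]; exact one_mem _
    · exact m1
    · exact mw
    · have e : c.yg (qadd q1 qw) = c.yg q1 * c.yg qw := by
        rw [yg, yg, yg, ← map_mul, zc_mul, qadd_self]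
      rw [e]; exact mul_mem m1 mw

theorem good_y (hb : c.Bad) {p : Q4} (hp : p ≠ q0) : c.Good {c.yg p} := by
  refine good_core hb hp rfl (fun e he => ⟨p, he⟩) fun q hq => ?_
  have hq0 : q ≠ q0 := fun e => hq (by rw [e, show c.yg q0 = 1 from map_one c.ι]; exact one_mem _)
  have hqp : q ≠ p := fun e => hq (e ▸ Subgroup.subset_closure rfl)
  intro h hh
  refine good_Y hb h ?_
  rintro e (rfl | rfl) <;>
    exact comm_yg hp hq0 hqp (hh _ (Set.mem_insert_of_mem _ rfl)) (hh _ (Set.mem_insert _ _)) _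

theorem exists_root {u : TC} (hs : u.a = q0 ∨ u.b = q0) (hV : inV u = false) :
    ∃ m ∈ c.L, ∃ a v, a ≠ q0 ∧ m * c.ι u * m⁻¹ = c.ι (zc a v) := by
  rcases yT_shape u hs with ⟨ha, hb, -⟩ | ⟨t, -, a, v, hane, -, ht⟩
  · refine ⟨1, c.L.one_mem, u.c, u.v, fun e => ?_, ?_⟩
    · simp [inV, ha, hb, e] at hV
    · rw [one_mul, inv_one, mul_one, show zc u.c u.v = u from TC.ext ha.symm hb.symm rfl rfl]
  · rcases ht with ht | ht
    · refine ⟨(c.d.w₁ : G) * c.ι t, c.L.mul_mem c.d.w₁.2 (c.ι_mem_L t), a, v, hane, ?_⟩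
      rw [show (c.d.w₁ : G) * c.ι t * c.ι u * ((c.d.w₁ : G) * c.ι t)⁻¹ =
        c.d.w₁ * (c.ι t * c.ι u * (c.ι t)⁻¹) * (c.d.w₁ : G)⁻¹ by group,
        ← map_inv, ← map_mul, ← map_mul, ht, c.w₁_conj rfl]
      rfl
    · refine ⟨(c.d.w₂ : G) * c.ι t, c.L.mul_mem c.d.w₂.2 (c.ι_mem_L t), a, v, hane, ?_⟩
      rw [show (c.d.w₂ : G) * c.ι t * c.ι u * ((c.d.w₂ : G) * c.ι t)⁻¹ =
        c.d.w₂ * (c.ι t * c.ι u * (c.ι t)⁻¹) * (c.d.w₂ : G)⁻¹ by group,
        ← map_inv, ← map_mul, ← map_mul, ht, c.w₂_conj rfl]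
      rfl

theorem good_conj {x m : G} (hm : m ∈ c.N) (h : c.Good {m * x * m⁻¹}) : c.Good {x} := by
  intro g hg
  have hx : g * x = x * g := hg x rfl
  have h1 := h (m * g * m⁻¹) (by
    rintro e rfl
    calc m * g * m⁻¹ * (m * x * m⁻¹) = m * (g * x) * m⁻¹ := by group
      _ = m * (x * g) * m⁻¹ := by rw [hx]
      _ = _ := by group)
  have := c.N.mul_mem (c.N.mul_mem (c.N.inv_mem hm) h1) hm
  rwa [show m⁻¹ * (m * g * m⁻¹) * m = g by group] at this

theorem good_inner (hb : c.Bad) (u : TC) {k : G} (hk : k ∈ c.K) (hsq : c.ι u * k * (c.ι u * k) = 1)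
    (hne : c.ι u * k ≠ 1) : c.Good {c.ι u * k} := by
  haveI : Fact (Nat.Prime 2) := ⟨Nat.prime_two⟩
  have e : c.ι (u * u) * (k * k) = 1 := by
    rw [map_mul, ← hsq, mul_assoc (c.ι u) (c.ι u), ← mul_assoc (c.ι u) k k, ← mul_assoc (c.ι u) (c.ι u * k),
      ← mul_assoc (c.ι u) (c.ι u), mul_assoc (c.ι u) k (c.ι u * k), ← mul_assoc k, ← c.comm_K hk]
    group
  have hK : c.ι (u * u) ∈ c.K := by
    rw [mul_eq_one_iff_eq_inv.mp e]; exact c.K.inv_mem (c.K.mul_mem hk hk)
  obtain ⟨hs, huu⟩ := sq_inV u (c.ι_mem_K_iff.mp hK)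
  rw [huu, map_one, one_mul] at e
  cases hV : inV u
  swap
  · exact Good.of_mem_K rfl (c.K.mul_mem (c.ι_mem_K_iff.mpr hV) hk)
      (orderOf_eq_prime (by rw [pow_two]; exact hsq) hne)
  obtain ⟨m, hm, a, v, ha, hma⟩ := exists_root (c := c) hs hV
  refine good_conj (c.L_le_N hm) ?_
  set k' := c.vg v * k with hk'
  have hk'K : k' ∈ c.K := c.K.mul_mem (c.vg_mem_K v) hk
  have hx : m * (c.ι u * k) * m⁻¹ = c.yg a * k' := by
    rw [show m * (c.ι u * k) * m⁻¹ = (m * c.ι u * m⁻¹) * (m * k * m⁻¹) by group, hma, c.mem_K.mp hk m hm,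
      mul_inv_cancel_right, hk', ← mul_assoc, yg, vg, ← map_mul, zc_mul, (qadd_zero _).1, (qadd_zero _).2]
  rw [hx]
  by_cases h1 : k' = 1
  · rw [h1, mul_one]; exact good_y hb ha
  refine good_ztype hb ha hk'K (orderOf_eq_prime ?_ h1)
  rw [pow_two, hk', mul_assoc, ← mul_assoc k, c.vg_comm_K v hk, ← mul_assoc, ← mul_assoc, vg_sq, one_mul, e]

theorem good_outer_NT (hb : c.Bad) {x : G} (hx : x ∈ c.NT) (hxx : x * x = 1)
    (ho : (c.code ⟨x, hx⟩).out ≠ (false, false)) : c.Good {x} := by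
  classical
  haveI : Fact (Nat.Prime 2) := ⟨Nat.prime_two⟩
  obtain ⟨hkp, hkq, u, hu⟩ := c.code_spec ⟨x, hx⟩
  set k := c.code ⟨x, hx⟩
  have hinj : Function.Injective (actH k) := by
    intro a b e
    have h1 := congrArg (fun y => u * y * u⁻¹) e
    simp only [actH_apply] at h1
    rw [← c.inj.eq_iff, ← hu, ← hu] at h1
    exact c.inj (mul_left_cancel (mul_right_cancel h1 :))
  have hinv : ∀ z : TC, z.a = q0 → z.b = q0 → act k (act k z) = z := by
    intro z za zb
    have hz1 : (act k z).a = q0 ∧ (act k z).b = q0 := phi_Z (φ := actH k) hinj ⟨za, zb⟩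
    have hz2 : (act k (act k z)).a = q0 ∧ (act k (act k z)).b = q0 := phi_Z (φ := actH k) hinj hz1
    have e2 : ∀ y : TC, y.a = q0 → y.b = q0 → u * y * u⁻¹ = y := fun y ya yb => by
      rw [show y = zc y.c y.v from TC.ext ya yb rfl rfl, conj_central]
    have h1 : x * (x * c.ι z * x⁻¹) * x⁻¹ = c.ι z := by
      rw [show x * (x * c.ι z * x⁻¹) * x⁻¹ = (x * x) * c.ι z * (x * x)⁻¹ by group, hxx]; group
    rw [hu, e2 _ hz1.1 hz1.2, hu, e2 _ hz2.1 hz2.2] at h1
    exact c.inj h1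
  obtain ⟨⟨p, hp, hpf⟩, r₀, hr₀, hr₀f⟩ := invol_fixed k hkp hkq ho (fun p => hinv _ rfl rfl)
    (fun v => hinv _ rfl rfl)
  set y := c.yg p
  have hxy : x * y = y * x := mul_inv_eq_iff_eq_mul.mp (by
    show x * c.ι (zc p q0) * x⁻¹ = _
    rw [hu, hpf, conj_central]; rfl)
  have hxr : x * c.vg r₀ = c.vg r₀ * x :=
    mul_inv_eq_iff_eq_mul.mp (by rw [c.code_vg ⟨hkp, hkq, u, hu⟩, hr₀f])
  have hxL : x ∉ c.L := fun hL => ho (c.out_L ⟨x, hx⟩ hL)
  have hxK : x ∉ c.K := fun hK => ho (by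
    rw [← c.eps_NT hx]; exact c.eps_K (n := ⟨x, hx.1⟩) hK)
  intro h hh
  have hhx : h * x = x * h := hh x rfl
  set r := c.vg r₀
  have hrK : r ∈ c.K := c.vg_mem_K _
  have hr2 : orderOf r = 2 := vg_invol hr₀
  refine hb.mem_N hrK hr2 ?_
  set x' := h * r * h⁻¹
  have x'sq : x' * x' = 1 := by
    show h * r * h⁻¹ * (h * r * h⁻¹) = 1
    rw [show h * r * h⁻¹ * (h * r * h⁻¹) = h * (r * r) * h⁻¹ by group, vg_sq, mul_one, mul_inv_cancel]
  have x'x : x' * x = x * x' := by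
    show h * r * h⁻¹ * x = x * (h * r * h⁻¹)
    have e1 : h⁻¹ * x * h = x := by rw [mul_assoc, ← hhx, inv_mul_cancel_left]
    calc h * r * h⁻¹ * x = h * (r * (h⁻¹ * x * h)) * h⁻¹ := by group
      _ = h * (x * r) * h⁻¹ := by rw [e1, hxr]
      _ = _ := by rw [← mul_assoc h, hhx]; group
  set E := Subgroup.closure ({x} : Set G)
  have hEmem : ∀ m ∈ E, m = 1 ∨ m = x := by
    intro m hm
    induction hm using Subgroup.closure_induction with
    | mem a ha => exact Or.inr ha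
    | one => exact Or.inl rfl
    | mul a b _ _ ha hb' => rcases ha with rfl | rfl <;> rcases hb' with rfl | rfl <;> simp [hxx]
    | inv a _ ha =>
      rcases ha with rfl | rfl
      · exact Or.inl inv_one
      · exact Or.inr (inv_eq_of_mul_eq_one_right hxx)
  have hnorm : ∀ {g : G}, g * x = x * g → g * g = 1 → g ∈ Subgroup.normalizer (E : Set G) :=
    fun {g} hg hg2 => mem_normalizer_of_sq (fun e he => by
      rcases hEmem e he with rfl | rfl
      · simp
      · rw [hg, mul_inv_cancel_right]; exact he) (hg2 ▸ E.one_mem)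
  by_cases hx'E : x' ∈ E
  · rcases hEmem _ hx'E with e | e <;> rw [e]
    exacts [c.N.one_mem, hx.1]
  have hyE : y ∉ E := fun hy => by
    rcases hEmem _ hy with e | e
    · exact hp (congrArg TC.c (c.inj (e.trans (map_one c.ι).symm)))
    · exact hxL (e ▸ c.ι_mem_L _)
  rcases exists_mid (hnorm x'x x'sq) (hnorm hxy.symm (yg_sq p)) (x'sq ▸ E.one_mem)
      (show y * y ∈ E from (yg_sq (c := c) p).symm ▸ E.one_mem) hx'E hyE with
    ⟨d, -, hdE⟩ | ⟨s, hs, -, hsE, hs2, hsx', hsy⟩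
  · exfalso
    have e0 : ∀ m, y⁻¹ * (d * x' * d⁻¹) = m → d * h * r * (d * h)⁻¹ = y * m := fun m hm => by
      rw [← hm, mul_inv_cancel_left]
      show d * h * r * (d * h)⁻¹ = d * (h * r * h⁻¹) * d⁻¹
      group
    rcases hEmem _ hdE with e | e
    · have e' := e0 _ e
      rw [mul_one] at e'
      have hK := hb _ (e' ▸ c.yg_mem_N p) ⟨d * h, r, hrK, hr2, rfl⟩
      rw [e'] at hK
      have := c.ι_mem_K_iff.mp hK
      simp [inV, zc, hp] at this
    · have e' := e0 _ e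
      have hmN : y * x ∈ c.N := c.N.mul_mem (c.yg_mem_N p) hx.1
      have hK := hb _ (e' ▸ hmN) ⟨d * h, r, hrK, hr2, rfl⟩
      rw [e'] at hK
      apply ho
      have h1 : c.eps ⟨y * x, hmN⟩ = (false, false) := c.eps_K (n := ⟨y * x, hmN⟩) hK
      rw [show (⟨y * x, hmN⟩ : c.N) = ⟨y, c.yg_mem_N p⟩ * ⟨x, hx.1⟩ from rfl, c.eps_mul,
        c.eps_L (n := ⟨y, c.yg_mem_N p⟩) (c.ι_mem_L _), oadd_self] at h1
      rw [← c.eps_NT hx]; exact h1.symm
  have hsx : s * x = x * s := by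
    have hle : Subgroup.closure ({x', y} : Set G) ≤ Subgroup.centralizer ({x} : Set G) := by
      rw [Subgroup.closure_le]
      rintro g (rfl | rfl)
      · exact Subgroup.mem_centralizer_singleton_iff.mpr x'x
      · exact Subgroup.mem_centralizer_singleton_iff.mpr hxy.symm
    exact Subgroup.mem_centralizer_singleton_iff.mp (hle hs)
  have hygood : c.Good {x, y} := Good.mono (good_y hb hp) (Set.subset_insert _ _)
  have hsN : s ∈ c.N := by
    refine hygood.normalizes hb hrK hr2 ?_ ?_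
    · rintro e (rfl | rfl)
      · exact hxr.symm
      · exact (c.vg_comm_ι _ _).symm
    · rintro e (rfl | rfl)
      · rw [mul_assoc, ← hsx, inv_mul_cancel_left]
        exact Subgroup.subset_closure (Set.mem_insert _ _)
      · rw [show s⁻¹ * y * s = y * (y⁻¹ * s⁻¹ * y * s) by group]
        refine mul_mem (Subgroup.subset_closure (Set.mem_insert_of_mem _ rfl)) ?_
        exact Subgroup.closure_mono (by simp) hsy
  have hsy' : s * y = y * s := by
    rcases hEmem _ hsy with e | e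
    · calc s * y = s * (y * (y⁻¹ * s⁻¹ * y * s)) := by rw [e, mul_one]
        _ = _ := by group
    · exfalso
      refine hxL ?_
      rw [← e, show y⁻¹ * s⁻¹ * y * s = y⁻¹ * (s⁻¹ * y * s⁻¹⁻¹) by group]
      exact c.L.mul_mem (c.L.inv_mem (c.ι_mem_L _)) (c.conj_L (c.N.inv_mem hsN) (c.ι_mem_L _))
  have hss : s * s = 1 := by
    rcases hEmem _ hs2 with e | e
    · exact e
    · exfalso
      apply ho
      rw [← c.eps_NT hx, show (⟨x, hx.1⟩ : c.N) = ⟨s, hsN⟩ * ⟨s, hsN⟩ from Subtype.ext e.symm, c.eps_mul,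
        oadd_self]
  have hsNT : s ∈ c.NT := mem_NT_of_comm hsN hp hsy'
  -- a fixed involution of the centre
  obtain ⟨w, hw0, hwx, hws⟩ : ∃ w, w ≠ q0 ∧ x * c.vg w = c.vg w * x ∧ s * c.vg w = c.vg w * s := by
    obtain ⟨w, hw⟩ := c.conj_vg hsN r₀
    by_cases e : w = r₀
    · exact ⟨r₀, hr₀, hxr, mul_inv_eq_iff_eq_mul.mp (e ▸ hw)⟩
    have hxw : x * c.vg w = c.vg w * x := by
      rw [← hw]
      calc x * (s * c.vg r₀ * s⁻¹) = (x * s) * c.vg r₀ * s⁻¹ := by group
        _ = (s * x) * c.vg r₀ * s⁻¹ := by rw [hsx]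
        _ = s * (x * c.vg r₀) * s⁻¹ := by group
        _ = s * (c.vg r₀ * x) * s⁻¹ := by rw [hxr]
        _ = s * c.vg r₀ * (x * s⁻¹) := by group
        _ = _ := by
            have : x * s⁻¹ = s⁻¹ * x := by rw [inv_eq_of_mul_eq_one_right hss, hsx]
            rw [this]; group
    have hsw : s * c.vg w * s⁻¹ = c.vg r₀ := by
      rw [← hw, show s * (s * c.vg r₀ * s⁻¹) * s⁻¹ = (s * s) * c.vg r₀ * (s * s)⁻¹ by group, hss]
      group
    have hm : c.vg (qadd r₀ w) = c.vg r₀ * c.vg w := by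
      rw [vg, vg, vg, ← map_mul, zc_mul, qadd_self]
    refine ⟨qadd r₀ w, fun h0 => e ?_, ?_, ?_⟩
    · exact ((show ∀ a b : Q4, qadd a b = q0 → b = a by decide) _ _ h0)
    · rw [hm, ← mul_assoc, hxr, mul_assoc, hxw, mul_assoc]
    · refine mul_inv_eq_iff_eq_mul.mp ?_
      rw [hm, show s * (c.vg r₀ * c.vg w) * s⁻¹ = (s * c.vg r₀ * s⁻¹) * (s * c.vg w * s⁻¹) by group, hw, hsw]
      exact c.vg_comm_ι _ _
  suffices hfin : c.Good {x, s} by
    show x' ∈ c.N
    refine hfin.normalizes hb (c.vg_mem_K w) (vg_invol hw0) ?_ ?_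
    · rintro e (rfl | rfl)
      · exact hwx.symm
      · exact hws.symm
    · rintro e (he | he) <;> rw [he]
      · rw [mul_assoc, ← x'x, inv_mul_cancel_left]
        exact Subgroup.subset_closure (Set.mem_insert _ _)
      · rw [show x'⁻¹ * s * x' = s * (x'⁻¹ * s⁻¹ * x' * s)⁻¹ by rw [inv_eq_of_mul_eq_one_right x'sq]; simp [mul_inv_rev, mul_assoc, inv_eq_of_mul_eq_one_right x'sq]]
        refine mul_mem (Subgroup.subset_closure (Set.mem_insert_of_mem _ rfl)) (inv_mem ?_)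
        exact Subgroup.closure_mono (by simp) hsx'
  have hs1 : s ≠ 1 := fun e => hsE (e ▸ E.one_mem)
  have hinner : ∀ z : c.NT, (z : G) * z = 1 → (z : G) ≠ 1 → (c.code z).out = (false, false) →
      c.Good {(z : G)} := by
    intro z hz hz1 hzo
    obtain ⟨uu, huu⟩ := c.mem_TK (n := z) (j := 1) (by rw [pow_one, pow_two]; exact hz) hzo
    have := good_inner hb uu huu (by rw [mul_inv_cancel_left]; exact hz) (by rw [mul_inv_cancel_left]; exact hz1)
    rwa [mul_inv_cancel_left] at this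
  by_cases hos : (c.code ⟨s, hsNT⟩).out = (false, false)
  · exact Good.mono (hinner ⟨s, hsNT⟩ hss hs1 hos) (by simp)
  by_cases hxs : (c.code ⟨x, hx⟩).out = (c.code ⟨s, hsNT⟩).out
  · have hsx1 : s * x ≠ 1 := fun e => hsE (by
      rw [eq_inv_of_mul_eq_one_left e, inv_eq_of_mul_eq_one_right hxx]
      exact Subgroup.subset_closure rfl)
    have hg := hinner (⟨s, hsNT⟩ * ⟨x, hx⟩) (by
      show s * x * (s * x) = 1
      calc s * x * (s * x) = s * (x * s) * x := by group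
        _ = (s * s) * (x * x) := by rw [← hsx]; group
        _ = 1 := by rw [hss, hxx, one_mul]) hsx1 (by rw [c.out_mul, oadd_self]; exact hxs.symm)
    intro g hg'
    refine hg g ?_
    rintro e rfl
    show g * (s * x) = s * x * g
    rw [← mul_assoc, hg' s (Set.mem_insert_of_mem _ rfl), mul_assoc, hg' x (Set.mem_insert _ _), mul_assoc]
  obtain ⟨e', he', heNT, heo⟩ : ∃ e', e' ∈ ({x, s} : Set G) ∧ ∃ he : e' ∈ c.NT,
      xor (c.code ⟨e', he⟩).e (c.code ⟨e', he⟩).s = true := by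
    rcases out_xor _ _ ho hos hxs with h1 | h1
    · exact ⟨x, Set.mem_insert _ _, hx, h1⟩
    · exact ⟨s, Set.mem_insert_of_mem _ rfl, hsNT, h1⟩
  obtain ⟨hep, heq', eu, heu⟩ := c.code_spec ⟨e', heNT⟩
  obtain ⟨r', hr', hr'f, honly⟩ := semilinear_fixed _ hep heq' heo
  have hcode : c.IsCode e' (c.code ⟨e', heNT⟩) := c.code_spec ⟨e', heNT⟩
  have honly' : ∀ v, e' * c.vg v = c.vg v * e' → v = q0 ∨ v = r' := fun v hv => honly v (by
    have e := c.code_vg hcode v
    rw [hv, mul_inv_cancel_right] at e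
    exact (congrArg TC.v (c.inj e)).symm)
  have hwr : w = r' := (honly' w (by rcases he' with rfl | rfl <;> assumption)).resolve_left hw0
  refine good_move hb he' heNT.1 hr' ?_ honly' (a := y) ?_ (yg_sq p)
    (fun e => hp (congrArg TC.c (c.inj (e.trans (map_one c.ι).symm))))
    (fun e => hp (congrArg TC.c (c.inj e))) (c.vg_comm_ι _ _) ?_ ?_
  · rintro e (rfl | rfl) <;> rw [← hwr]
    exacts [hwx.symm, hws.symm]
  · rintro e (rfl | rfl)
    exacts [hxy.symm, hsy'.symm]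
  · exact Good.mono (good_y hb hp) (by simp [y])
  · exact Good.mono (good_ztype hb hp (c.vg_mem_K r') (vg_invol hr')) (by simp [y])

theorem good_invol (hb : c.Bad) {x : G} (hx : x ∈ c.N) (hxx : x * x = 1) (hx1 : x ≠ 1) : c.Good {x} := by
  classical
  haveI : Fact (Nat.Prime 2) := ⟨Nat.prime_two⟩
  obtain ⟨l, hl, hlx⟩ := c.exists_conj_NT (P := Subgroup.zpowers x)
    (IsPGroup.of_card (p := 2) (n := 1) (by
      rw [Nat.card_zpowers, orderOf_eq_prime (by rw [pow_two]; exact hxx) hx1, pow_one]))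
    (Subgroup.zpowers_le.mpr hx)
  refine good_conj (c.L_le_N hl) ?_
  set x₁ := l * x * l⁻¹
  have h1 : x₁ ∈ c.NT := hlx x (Subgroup.mem_zpowers x)
  have h2 : x₁ * x₁ = 1 := by
    show l * x * l⁻¹ * (l * x * l⁻¹) = 1
    rw [show l * x * l⁻¹ * (l * x * l⁻¹) = l * (x * x) * l⁻¹ by group, hxx, mul_one, mul_inv_cancel]
  by_cases ho : (c.code ⟨x₁, h1⟩).out = (false, false)
  · obtain ⟨u, hu⟩ := c.mem_TK (n := ⟨x₁, h1⟩) (j := 1) (by rw [pow_one, pow_two]; exact h2) ho
    have := good_inner hb u hu (by rw [mul_inv_cancel_left]; exact h2) (by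
      rw [mul_inv_cancel_left]; exact fun e => hx1 (conj_eq_one_iff.mp e))
    rwa [mul_inv_cancel_left] at this
  · exact good_outer_NT hb h1 h2 ho

theorem L_ne_top [IsSimpleGroup G] : c.L ≠ ⊤ := fun e => by
  have hcen : c.vg q1 ∈ Subgroup.center G := Subgroup.mem_center_iff.mpr fun g =>
    c.mem_K.mp (c.vg_mem_K q1) g (e ▸ Subgroup.mem_top g)
  have htop : Subgroup.center G = ⊤ :=
    (Subgroup.Normal.eq_bot_or_eq_top inferInstance).resolve_left fun hb' => by
      rw [hb', Subgroup.mem_bot] at hcen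
      exact vg_ne (by decide) hcen
  have h := congrArg TC.c (c.inj (show c.ι (e₁ * e₃) = c.ι (e₃ * e₁) by
    rw [map_mul, map_mul]
    exact Subgroup.mem_center_iff.mp (htop ▸ Subgroup.mem_top (c.ι e₃)) (c.ι e₁)))
  exact absurd h (by decide)

theorem N_ne_top [IsSimpleGroup G] : c.N ≠ ⊤ := fun e => by
  haveI : c.L.Normal := Subgroup.normalizer_eq_top_iff.mp e
  rcases Subgroup.Normal.eq_bot_or_eq_top (inferInstance : c.L.Normal) with h | h
  · have := c.ι_mem_L e₁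
    rw [h, Subgroup.mem_bot] at this
    exact absurd (congrArg TC.a (c.inj (this.trans (map_one c.ι).symm))) (by decide)
  · exact L_ne_top h

theorem not_bad [IsSimpleGroup G] : ¬ c.Bad := by
  intro hb
  obtain ⟨g, -, hg⟩ := SetLike.exists_of_lt (lt_top_iff_ne_top.mpr (N_ne_top (c := c)))
  have hr2 : orderOf (c.vg q1) = 2 := vg_invol (by decide)
  refine hg (hb.mem_N (c.vg_mem_K q1) hr2 ?_)
  set x' := g * c.vg q1 * g⁻¹
  have x'sq : x' * x' = 1 := by
    show g * c.vg q1 * g⁻¹ * (g * c.vg q1 * g⁻¹) = 1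
    rw [show g * c.vg q1 * g⁻¹ * (g * c.vg q1 * g⁻¹) = g * (c.vg q1 * c.vg q1) * g⁻¹ by group, vg_sq, mul_one,
      mul_inv_cancel]
  set y := c.yg q1
  have hn : ∀ z : G, z * z = 1 → z ∈ Subgroup.normalizer ((⊥ : Subgroup G) : Set G) := fun z hz =>
    mem_normalizer_of_sq (fun e he => by rw [Subgroup.mem_bot] at he; subst he; simp) (hz ▸ one_mem _)
  by_cases h1 : x' = 1
  · rw [h1]; exact c.N.one_mem
  have hy1 : y ≠ 1 := fun e => absurd (congrArg TC.c (c.inj (e.trans (map_one c.ι).symm))) (by decide)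
  rcases exists_mid (hn _ x'sq) (hn y (yg_sq q1)) (x'sq ▸ one_mem _) (by rw [yg_sq]; exact one_mem _)
      (by rwa [Subgroup.mem_bot]) (by rwa [Subgroup.mem_bot]) with ⟨d, -, hd⟩ | ⟨s, hs, -, hs1, hs2, hsx, hsy⟩
  · rw [Subgroup.mem_bot, inv_mul_eq_one] at hd
    have hK : y ∈ c.K := hb y (c.yg_mem_N q1) ⟨d * g, c.vg q1, c.vg_mem_K q1, hr2, by
      rw [hd]
      show d * g * c.vg q1 * (d * g)⁻¹ = d * (g * c.vg q1 * g⁻¹) * d⁻¹
      group⟩
    exact absurd (c.ι_mem_K_iff.mp hK) (by decide)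
  rw [Subgroup.mem_bot] at hs1 hs2 hsx hsy
  have hsy' : s * y = y * s := by
    calc s * y = s * (y * (y⁻¹ * s⁻¹ * y * s)) := by rw [hsy, mul_one]
      _ = _ := by group
  have hsx' : s * x' = x' * s := by
    calc s * x' = s * (x' * (x'⁻¹ * s⁻¹ * x' * s)) := by rw [hsx, mul_one]
      _ = _ := by group
  have hsN : s ∈ c.N := good_y hb (by decide) s (fun e he => he ▸ hsy')
  exact good_invol hb hsN hs2 hs1 x' (fun e he => he ▸ hsx'.symm)

end Ctx

end CfsgLib.HeStd
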