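import Cfsg.Agent.Lib.HeStd.Conn

/-!
# The odd part of the centraliser of the component, and what preserves it
-/

set_option autoImplicit false
set_option linter.style.haveILetI false
set_option linter.unusedSectionVars false

namespace CfsgLib.HeStd

universe u

namespace Ctx

variable {G : Type u} [Group G]

/-- An element of odd order centralising the Sylow subgroup. -/
def Dset (c : Ctx G) (d : G) : Prop := Odd (orderOf d) ∧ ∀ x, d * c.ι x = c.ι x * d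

/-- The elements preserving the odd part. -/
def DStab (c : Ctx G) : Subgroup G where
  carrier := {g | ∀ d, c.Dset d ↔ c.Dset (g * d * g⁻¹)}
  one_mem' := fun d => by simp
  mul_mem' := fun {a b} ha hb d => by
    rw [hb d, ha (b * d * b⁻¹), show a * (b * d * b⁻¹) * a⁻¹ = a * b * d * (a * b)⁻¹ by group]
  inv_mem' := fun {a} ha d => by
    rw [ha (a⁻¹ * d * a⁻¹⁻¹), show a * (a⁻¹ * d * a⁻¹⁻¹) * a⁻¹ = d by group]

/-- A fused involution whose odd part is that of the component. -/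
def DX (c : Ctx G) (x : G) : Prop := ∃ g ∈ c.DStab, ∃ i, i ≠ q0 ∧ g * c.vg i * g⁻¹ = x

variable {c : Ctx G} [Finite G] [IsSimpleGroup G]

theorem Dset.mem_N {d : G} (h : c.Dset d) : d ∈ c.N :=
  c.centralizer_le (c.vg_mem_K q1) (vg_invol (by decide)) (h.2 _)

theorem Dset.mem_K {d : G} (h : c.Dset d) : d ∈ c.K := by
  obtain ⟨cc, hk⟩ := c.kernel h.mem_N h.2
  obtain ⟨m, hm⟩ := h.1
  have hcomm : Commute (c.ι (zc cc q0)) d := (h.2 _).symm
  have h2 : zc cc q0 * zc cc q0 = 1 := by rw [zc_mul, qadd_self, qadd_self]; rfl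
  have h1 : (c.ι (zc cc q0) * d) ^ (2 * m + 1) = c.ι (zc cc q0) := by
    rw [hcomm.mul_pow, ← hm, pow_orderOf_eq_one, mul_one, hm, pow_succ, pow_mul, pow_two, ← map_mul, h2,
      map_one, one_pow, one_mul]
  have h3 := c.K.pow_mem hk (2 * m + 1)
  rw [h1] at h3
  have := c.K.mul_mem h3 hk
  rwa [← mul_assoc, ← map_mul, h2, map_one, one_mul] at this

theorem Dset.of_K {d : G} (hk : d ∈ c.K) (ho : Odd (orderOf d)) : c.Dset d :=
  ⟨ho, fun x => (c.comm_K hk x).symm⟩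

theorem Dset.eq_one {d : G} (h : c.Dset d) (h2 : d * d = 1) : d = 1 := by
  refine orderOf_eq_one_iff.mp ?_
  have h' : orderOf d ∣ 2 := orderOf_dvd_of_pow_eq_one (by rw [pow_two, h2])
  rcases (Nat.dvd_prime Nat.prime_two).mp h' with e | e
  · exact e
  · exact absurd h.1 (by rw [e]; decide)

/-- The centraliser of the component is the product of `V` and its odd part. -/
theorem K_split {k : G} (hk : k ∈ c.K) : ∃ v, c.Dset (c.vg v * k) := by
  obtain ⟨a, m, hm, he⟩ := Nat.exists_eq_two_pow_mul_odd (orderOf_pos k).ne'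
  obtain ⟨v, hv⟩ := K_two (c.K.pow_mem hk m) (j := a) (by rw [← pow_mul, mul_comm, ← he, pow_orderOf_eq_one])
  refine ⟨v, Dset.of_K (c.K.mul_mem (c.vg_mem_K v) hk) (Odd.of_dvd_nat hm (orderOf_dvd_of_pow_eq_one ?_))⟩
  obtain ⟨j, hj⟩ := hm
  have hvk : Commute (c.vg v) k := (c.vg_comm_K v hk).symm
  rw [hvk.mul_pow, hv]
  conv_lhs => arg 1; rw [hj, pow_succ, pow_mul, pow_two, vg_sq, one_pow, one_mul]
  exact vg_sq v

theorem mem_DStab_of {g : G} (h1 : ∀ d, c.Dset d → c.Dset (g * d * g⁻¹))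
    (h2 : ∀ d, c.Dset d → c.Dset (g⁻¹ * d * g)) : g ∈ c.DStab := fun d => ⟨h1 d, fun h => by
  have := h2 _ h
  rwa [show g⁻¹ * (g * d * g⁻¹) * g = d by group] at this⟩

theorem orderOf_conj_eq (g d : G) : orderOf (g * d * g⁻¹) = orderOf d :=
  (MulAut.conj g).orderOf_eq d

/-- An element normalising the Sylow subgroup preserves the odd part. -/
theorem dstab_of_T {g : G} {f : TC → TC} (h : ∀ x, g * c.ι x * g⁻¹ = c.ι (f x)) : g ∈ c.DStab := by
  have hsur : Function.Surjective f := Finite.injective_iff_surjective.mp fun a b e => c.inj (by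
    have h' := congrArg c.ι e
    rw [← h, ← h] at h'
    exact mul_left_cancel (mul_right_cancel h'))
  refine mem_DStab_of (fun d hd => ⟨(orderOf_conj_eq g d).symm ▸ hd.1, fun y => ?_⟩)
    (fun d hd => ⟨?_, fun x => ?_⟩)
  · obtain ⟨x, rfl⟩ := hsur y
    rw [← h, show g * d * g⁻¹ * (g * c.ι x * g⁻¹) = g * (d * c.ι x) * g⁻¹ by group, hd.2]; group
  · have := orderOf_conj_eq g⁻¹ d
    rw [inv_inv] at this
    exact this.symm ▸ hd.1
  · calc g⁻¹ * d * g * c.ι x = g⁻¹ * (d * (g * c.ι x * g⁻¹)) * g := by group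
      _ = g⁻¹ * ((g * c.ι x * g⁻¹) * d) * g := by rw [h, hd.2]
      _ = _ := by group

theorem N_le_DStab : c.N ≤ c.DStab := fun n hn => by
  refine mem_DStab_of (fun d hd => ?_) (fun d hd => ?_)
  · exact Dset.of_K (c.conj_K hn hd.mem_K) ((orderOf_conj_eq n d).symm ▸ hd.1)
  · have h := Dset.of_K (c := c) (c.conj_K (c.N.inv_mem hn) hd.mem_K) ((orderOf_conj_eq n⁻¹ d).symm ▸ hd.1)
    rwa [inv_inv] at h

theorem exists_swA'_D : ∃ n ∈ c.DStab, ∀ x : TC, x.b = q0 → n * c.ι x * n⁻¹ = c.ι (swA' x) := by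
  obtain ⟨g, e, s, hg⟩ := exists_plain_swap (c := c)
  have hgD : g ∈ c.DStab := dstab_of_T hg
  refine ⟨g * (bif s then (c.d.w₂ : G) else (c.d.w₁ : G)) * g⁻¹, c.DStab.mul_mem (c.DStab.mul_mem hgD ?_)
    (c.DStab.inv_mem hgD), fun x hx => ?_⟩
  · cases s
    · exact N_le_DStab (c.L_le_N c.d.w₁.2)
    · exact N_le_DStab (c.L_le_N c.d.w₂.2)
  obtain ⟨h1, h2⟩ := swA'_spec e s x hx
  have e0 : c.ι x = g * c.ι (invG e s x) * g⁻¹ := by rw [hg, invG_spec]
  rw [e0, ← h2, ← hg]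
  cases s <;> simp only [cond_true, cond_false, decide_eq_true_eq] at h1 ⊢
  · rw [← c.w₁_conj h1]; group
  · rw [← c.w₂_conj h1]; group

theorem exists_swB'_D : ∃ n ∈ c.DStab, ∀ x : TC, x.a = q0 → n * c.ι x * n⁻¹ = c.ι (swB' x) := by
  obtain ⟨g, e, s, hg⟩ := exists_plain_swap (c := c)
  have hgD : g ∈ c.DStab := dstab_of_T hg
  refine ⟨g * (bif s then (c.d.w₁ : G) else (c.d.w₂ : G)) * g⁻¹, c.DStab.mul_mem (c.DStab.mul_mem hgD ?_)
    (c.DStab.inv_mem hgD), fun x hx => ?_⟩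
  · cases s
    · exact N_le_DStab (c.L_le_N c.d.w₂.2)
    · exact N_le_DStab (c.L_le_N c.d.w₁.2)
  obtain ⟨h1, h2⟩ := swB'_spec e s x hx
  have e0 : c.ι x = g * c.ι (invG e s x) * g⁻¹ := by rw [hg, invG_spec]
  rw [e0, ← h2, ← hg]
  cases s <;> simp only [cond_true, cond_false, decide_eq_true_eq] at h1 ⊢
  · rw [← c.w₂_conj h1]; group
  · rw [← c.w₁_conj h1]; group

theorem exists_movA_D {f : TC → TC} (hf : f ∈ movesA) : ∃ n ∈ c.DStab, c.MovA n f := by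
  obtain ⟨w, hwD, hw⟩ := exists_swA'_D (c := c)
  have hA : c.MovA (c.d.w₁ : G) swapA := fun x hx => ⟨hx, c.w₁_conj hx⟩
  have hA' : c.MovA w swA' := fun x hx => ⟨hx, hw x hx⟩
  have hS : ∀ s, c.MovA (c.ι s) (cjt s) := fun s x hx =>
    ⟨(conj_ab s x).2.trans hx, by rw [cjt, map_mul, map_mul, map_inv]⟩
  have d1 : (c.d.w₁ : G) ∈ c.DStab := N_le_DStab (c.L_le_N c.d.w₁.2)
  have ds : ∀ s, c.ι s ∈ c.DStab := fun s => N_le_DStab (c.ι_mem_N s)
  simp only [movesA, List.mem_cons, List.not_mem_nil, or_false] at hf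
  rcases hf with rfl | rfl | rfl | rfl | rfl | rfl
  · exact ⟨1, one_mem _, fun x hx => ⟨hx, by simp⟩⟩
  · exact ⟨_, mul_mem d1 (mul_mem hwD d1), hA.comp (hA'.comp hA)⟩
  · exact ⟨_, mul_mem d1 (mul_mem (ds _) hwD), hA.comp ((hS e₃).comp hA')⟩
  · exact ⟨_, mul_mem hwD (mul_mem (ds _) d1), hA'.comp ((hS e₃).comp hA)⟩
  · exact ⟨_, mul_mem d1 (mul_mem (ds _) (mul_mem hwD (ds _))), hA.comp ((hS e₃).comp (hA'.comp (hS e₄)))⟩
  · exact ⟨_, mul_mem hwD (mul_mem (ds _) (mul_mem d1 (ds _))), hA'.comp ((hS e₃).comp (hA.comp (hS e₄)))⟩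

theorem exists_movB_D {f : TC → TC} (hf : f ∈ movesB) : ∃ n ∈ c.DStab, c.MovB n f := by
  obtain ⟨w, hwD, hw⟩ := exists_swB'_D (c := c)
  have hA : c.MovB (c.d.w₂ : G) swapB := fun x hx => ⟨hx, c.w₂_conj hx⟩
  have hA' : c.MovB w swB' := fun x hx => ⟨hx, hw x hx⟩
  have hS : ∀ s, c.MovB (c.ι s) (cjt s) := fun s x hx =>
    ⟨(conj_ab s x).1.trans hx, by rw [cjt, map_mul, map_mul, map_inv]⟩
  have d1 : (c.d.w₂ : G) ∈ c.DStab := N_le_DStab (c.L_le_N c.d.w₂.2)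
  have ds : ∀ s, c.ι s ∈ c.DStab := fun s => N_le_DStab (c.ι_mem_N s)
  simp only [movesB, List.mem_cons, List.not_mem_nil, or_false] at hf
  rcases hf with rfl | rfl | rfl | rfl | rfl | rfl
  · exact ⟨1, one_mem _, fun x hx => ⟨hx, by simp⟩⟩
  · exact ⟨_, mul_mem d1 (mul_mem hwD d1), hA.comp (hA'.comp hA)⟩
  · exact ⟨_, mul_mem d1 (mul_mem (ds _) hwD), hA.comp ((hS e₁).comp hA')⟩
  · exact ⟨_, mul_mem hwD (mul_mem (ds _) d1), hA'.comp ((hS e₁).comp hA)⟩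
  · exact ⟨_, mul_mem d1 (mul_mem (ds _) (mul_mem hwD (ds _))), hA.comp ((hS e₁).comp (hA'.comp (hS e₂)))⟩
  · exact ⟨_, mul_mem hwD (mul_mem (ds _) (mul_mem d1 (ds _))), hA'.comp ((hS e₁).comp (hA.comp (hS e₂)))⟩

theorem move_T_D {x : TC} (hx : fusT x = true) :
    ∃ n ∈ c.DStab, n * c.zg * n⁻¹ = c.zg ∧ ∃ j, j ≠ q0 ∧ n * c.ι x * n⁻¹ = c.vg j := by
  obtain ⟨hs, -⟩ := fusT_shape x hx
  have hne : x ≠ 1 := fun e => by rw [e] at hx; exact absurd hx (by decide +kernel)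
  have fin : ∀ (f : TC → TC) (n : G), n ∈ c.DStab → f zz = zz → inV (f x) = true →
      n * c.ι zz * n⁻¹ = c.ι (f zz) → n * c.ι x * n⁻¹ = c.ι (f x) →
      ∃ n ∈ c.DStab, n * c.zg * n⁻¹ = c.zg ∧ ∃ j, j ≠ q0 ∧ n * c.ι x * n⁻¹ = c.vg j := by
    intro f n hn h1 h2 h3 h4
    simp only [inV, Bool.and_eq_true, decide_eq_true_eq] at h2
    refine ⟨n, hn, by rw [zg, h3, h1], (f x).v, fun h0 => hne ?_, ?_⟩
    · rw [show f x = 1 from TC.ext h2.1.1 h2.1.2 h2.2 h0, map_one, conj_eq_one_iff, ← map_one c.ι] at h4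
      exact c.inj h4
    · rw [h4, vg]
      congr 1
      exact TC.ext h2.1.1 h2.1.2 h2.2 rfl
  rcases hs with ha | hb
  · obtain ⟨f, hf, h⟩ := List.any_eq_true.mp (cover_B x hx ha)
    simp only [Bool.and_eq_true, decide_eq_true_eq] at h
    obtain ⟨n, hnD, hn⟩ := exists_movB_D (c := c) hf
    exact fin f n hnD h.1 h.2 (hn zz rfl).2 (hn x ha).2
  · obtain ⟨f, hf, h⟩ := List.any_eq_true.mp (cover_A x hx hb)
    simp only [Bool.and_eq_true, decide_eq_true_eq] at h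
    obtain ⟨n, hnD, hn⟩ := exists_movA_D (c := c) hf
    exact fin f n hnD h.1 h.2 (hn zz rfl).2 (hn x hb).2

theorem DX.conj {x : G} (h : c.DX x) {a : G} (ha : a ∈ c.DStab) : c.DX (a * x * a⁻¹) := by
  obtain ⟨g, hg, i, hi, rfl⟩ := h
  exact ⟨a * g, mul_mem ha hg, i, hi, by group⟩

theorem DX.fus {x : G} (h : c.DX x) : c.Fus x := by
  obtain ⟨g, -, i, hi, e⟩ := h
  exact ⟨g, c.vg i, c.vg_mem_K i, vg_invol hi, e⟩

theorem dx_vg {i : Q4} (hi : i ≠ q0) : c.DX (c.vg i) := ⟨1, one_mem _, i, hi, by group⟩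

theorem dx_ι {x : TC} (hx : fusT x = true) : c.DX (c.ι x) := by
  obtain ⟨n, hn, -, j, hj, e⟩ := move_T_D (c := c) hx
  exact ⟨n⁻¹, inv_mem hn, j, hj, by rw [← e]; group⟩

/-- Every frame of such an involution preserves the odd part. -/
theorem DX.frame {x h : G} (hx : c.DX x) {j : Q4} (e : h * x * h⁻¹ = c.vg j) : h ∈ c.DStab := by
  obtain ⟨g, hg, i, hi, rfl⟩ := hx
  have hN : h * g ∈ c.N := c.mem_N_of_conj (c.vg_mem_K i) (vg_invol hi) (by
    rw [show h * g * c.vg i * (h * g)⁻¹ = h * (g * c.vg i * g⁻¹) * h⁻¹ by group, e]; exact c.vg_mem_K j)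
  have := mul_mem (N_le_DStab hN) (inv_mem hg)
  rwa [mul_inv_cancel_right] at this

/-- Such an involution centralises the odd part. -/
theorem DX.comm {x d : G} (hx : c.DX x) (hd : c.Dset d) : x * d = d * x := by
  obtain ⟨g, hg, i, hi, rfl⟩ := hx
  have h : c.Dset (g⁻¹ * d * g) := by
    have := (inv_mem hg : g⁻¹ ∈ c.DStab) d
    rw [inv_inv] at this
    exact this.mp hd
  calc g * c.vg i * g⁻¹ * d = g * (c.vg i * (g⁻¹ * d * g)) * g⁻¹ := by group
    _ = g * ((g⁻¹ * d * g) * c.vg i) * g⁻¹ := by rw [c.vg_comm_K i h.mem_K]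
    _ = _ := by group

end Ctx

end CfsgLib.HeStd
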