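import Cfsg.Agent.Lib.HeStd.Moves

/-!
# Finite facts for the outer involutions of semilinear type
-/

set_option autoImplicit false
set_option maxHeartbeats 2000000
set_option synthInstance.maxHeartbeats 400000
set_option synthInstance.maxSize 1024

namespace CfsgLib.HeStd

/-- The semilinear map of the coordinates. -/
def sigT (x : TC) : TC := act ⟨q1, q1, true, false⟩ x

/-- The semilinear map followed by the exchange of `V` and `Y`. -/
def tgt (x : TC) : TC := th0 (sigT x)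

/-- The move used on `b = 0`. -/
def f1 (x : TC) : TC := swA' (cjt e₃ (swapA x))

/-- The move used on `a = 0`. -/
def f2 (x : TC) : TC := swB' (cjt e₁ (swapB x))

theorem f_mem : (f1 ∈ movesA) ∧ f2 ∈ movesB := by
  constructor
  · simp only [movesA, List.mem_cons]
    exact Or.inr (Or.inr (Or.inr (Or.inl rfl)))
  · simp only [movesB, List.mem_cons]
    exact Or.inr (Or.inr (Or.inr (Or.inl rfl)))

theorem q_action : ∀ y : TC, y.a = q0 → f2 (cjt e₁ y) = tgt (f2 y) := by decide +kernel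

theorem f2_surj : ∀ x : TC, x.a = q0 → ∃ y : TC, y.a = q0 ∧ f2 y = x := by decide +kernel

theorem f_facts : f2 zz = zz ∧ f1 zz = zz ∧ f1 (zc q0 q1) = e₁ ∧ f1 (zc q0 qw) = e₂ ∧ tgt e₁ = e₁ ∧
    tgt e₂ ≠ e₂ ∧ tgt zz = zz ∧ fusT e₁ = true ∧ fusT (e₁ * zz) = true ∧ e₁.b = q0 ∧ e₂.b = q0 := by
  decide +kernel

theorem tgt_zc : ∀ p v : Q4, ∃ p' v' : Q4, tgt (zc p v) = zc p' v' := by decide +kernel

theorem tgt_Y : ∀ p : Q4, ∃ v : Q4, tgt (zc p q0) = zc q0 v := by decide +kernel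

theorem q_shape : ∀ k : AK, k.p ≠ q0 → k.q ≠ q0 → ∀ t ∈ twists,
    (∀ e ∈ [e₃, e₄, zc q1 q0, zc qw q0, zc q0 q1, zc q0 qw], cjt t (th0 (act k e)) = tgt e) →
    k = ⟨q1, q1, true, false⟩ ∧ t.a = q0 := by decide +kernel

theorem qo_action : ∀ b : Q4, ∀ x : TC,
    cjt ⟨q0, b, q0, q0⟩ (tgt (cjt ⟨q0, b, q0, q0⟩ x)) = tgt x := by decide +kernel

theorem qo_facts : ∀ b : Q4, cjt ⟨q0, b, q0, q0⟩ (tgt ⟨q0, b, q0, q0⟩) = ⟨q0, b, q0, q0⟩ ∧
    (⟨q0, b, q0, q0⟩ : TC) * ⟨q0, b, q0, q0⟩ = 1 ∧ (b ≠ q0 → fusT ⟨q0, b, q0, q0⟩ = true) := by decide +kernel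

theorem tgt_vg : ¬ ∀ v : Q4, tgt (zc q0 v) = zc q0 v := by decide +kernel

theorem sig_facts : sigT zz = zz ∧ sigT (zc q0 q1) = zc q0 q1 ∧ ∀ x, sigT (sigT x) = x := by decide +kernel

theorem sig_shift : ∀ cc v : Q4, sigT (zc cc v) = zc cc v →
    ∃ p r : Q4, zc p r * sigT (zc p r) = zc cc v := by decide +kernel

theorem sig_normalise : ∀ k : AK, k.p ≠ q0 → k.q ≠ q0 → k.out = (true, false) → ∀ t ∈ twists,
    (∀ e ∈ [e₁, e₂, e₃, e₄], cjt t (act k (cjt t (act k e))) = e) →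
    ∃ r s : Q4, r ≠ q0 ∧ s ≠ q0 ∧ ∀ e ∈ [e₁, e₂, e₃, e₄],
      act ⟨r, s, false, false⟩ (cjt t (act k (act ⟨qsq r, qsq s, false, false⟩ e))) =
        cjt (act ⟨r, s, false, false⟩ t) (sigT e) := by decide +kernel

theorem perm_fixed : ∀ a b d : Q4,
    (let f : Q4 → Q4 := fun x => bif decide (x = q1) then a else bif decide (x = qw) then b else
      bif decide (x = qv) then d else q0
    a ≠ q0 → b ≠ q0 → d ≠ q0 → a ≠ b → a ≠ d → b ≠ d → f a = q1 → f b = qw → f d = qv →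
      a = q1 ∨ b = qw ∨ d = qv) := by decide +kernel

end CfsgLib.HeStd
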