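import Cfsg.Agent.Lib.HeStd.ConnDec
import Cfsg.Agent.Lib.HeStd.SigmaDec

/-!
# Finite facts for the pairs
-/

set_option autoImplicit false
set_option maxHeartbeats 2000000
set_option synthInstance.maxHeartbeats 400000
set_option synthInstance.maxSize 1024

namespace CfsgLib.HeStd

/-- The type of a pair in the Sylow subgroup. -/
def pairT (x : TC) : Bool := fusT x && fusT (x * zz)

/-- Equal modulo `z`. -/
def mzT (a b : TC) : Bool := decide (a = b) || decide (a = b * zz)

/-- The part in the Sylow subgroup of a conjugate of the semilinear involution. -/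
def kq (w : TC) : TC := w * (sigT w)⁻¹

/-- The action of an element exchanging `V` and `Y`. -/
def phiT (t : TC) (k : AK) (x : TC) : TC := cjt t (th0 (act k x))

/-- All pairs of this action commute modulo `z` with the acting element. -/
def goodF (f : TC → TC) : Bool :=
  (allTC.all fun u => !pairT u || mzT (f u) u) &&
    ([e₁, e₂, e₃, e₄].all fun e => decide (f (sigT e) = sigT (f e))) &&
      allTC.all fun w => mzT (kq (f w)) (kq w)

/-- A witness against an action. -/
def badW (f : TC → TC) : Bool :=
  allTC.any fun s => fusT s && !fusT (s * zz) && decide (f s = s) &&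
    ((movesA.any fun m => decide (m zz = zz) && allTC.any fun u => decide (u.b = q0) &&
        decide (m u = zc q0 q1) && decide (f (cjt s u) = u) && allTC.any fun e => decide (e.b = q0) &&
          decide (m e = zc q0 qw) && !decide (f (cjt s e) = e)) ||
      movesB.any fun m => decide (m zz = zz) && allTC.any fun u => decide (u.a = q0) &&
        decide (m u = zc q0 q1) && decide (f (cjt s u) = u) && allTC.any fun e => decide (e.a = q0) &&
          decide (m e = zc q0 qw) && !decide (f (cjt s e) = e))

theorem phi_classify : ∀ k : AK, (decide (k.p = q0) || decide (k.q = q0) || twists.all fun t =>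
    !(decide (phiT t k zz = zz) && decide (phiT t k (zc q0 q1) = zc q1 q0) &&
        [e₁, e₂, e₃, e₄].all fun e => decide (phiT t k (phiT t k e) = e)) ||
      (goodF (phiT t k) || badW (phiT t k))) = true := by decide +kernel

theorem pair_uu : ∀ u u' : TC, pairT u = true → pairT u' = true → mzT (cjt u u') u' = true := by
  decide +kernel

theorem pair_wu : ∀ w u' : TC, pairT u' = true → mzT (cjt w (sigT (cjt w⁻¹ u'))) u' = true := by
  decide +kernel

theorem pair_ww : ∀ w : TC, mzT (kq (sigT w)) (kq w) = true := by decide +kernel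

theorem gen_facts :
    e₁ = (⟨qv, q0, q0, q0⟩ : TC) * ⟨qw, q0, q0, q0⟩ ∧ e₂ = ⟨qw, q0, q0, q0⟩ ∧
    e₃ = (⟨q0, qv, q0, q0⟩ : TC) * ⟨q0, qw, q0, q0⟩ ∧ e₄ = ⟨q0, qw, q0, q0⟩ ∧
    ∀ x ∈ [(⟨qv, q0, q0, q0⟩ : TC), ⟨qw, q0, q0, q0⟩, ⟨q0, qv, q0, q0⟩, ⟨q0, qw, q0, q0⟩],
      fusT x = true ∧ fusT (x * zz) = false := by decide +kernel

theorem partner_unique : ∀ j ∈ [qw, qv], ∀ p : TC, pairT p = true → fusT (zc q0 j * p) = true →
    p = zc q0 q1 := by decide +kernel

theorem move_hit : ((movesA.all fun f => !decide (f zz = zz) || allTC.any fun e => decide (e.b = q0) &&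
      decide (f e = zc q0 q1)) && movesB.all fun f => !decide (f zz = zz) || allTC.any fun e =>
      decide (e.a = q0) && decide (f e = zc q0 q1)) = true := by decide +kernel

theorem sig_fixed : ∀ p v : Q4, sigT (zc p v) = zc p v → zc p v = 1 ∨ zc p v = zz ∨ zc p v = zc q0 q1 ∨
    zc p v = zc q1 q0 := by decide +kernel

theorem kq_central : ∀ w : TC, (∀ e ∈ [e₁, e₂, e₃, e₄], cjt (kq w) (sigT e) = sigT e) →
    ∃ p v : Q4, kq w = zc p v ∧ sigT (zc p v) = zc p v := by decide +kernel

theorem sigma_pair : ∃ p r : Q4, zc p r * sigT (zc p r) = zz :=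
  sig_shift q1 q1 (by decide +kernel)

theorem zz_facts : (∀ x : TC, x * zz * zz = x) ∧ sigT zz = zz := by decide +kernel

end CfsgLib.HeStd
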