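import Cfsg.Agent.Lib.HeStd.Sigma
import Cfsg.Agent.Lib.HeStd.PairsDec

/-!
# Pairs commute modulo `z`
-/

set_option autoImplicit false
set_option linter.style.haveILetI false
set_option linter.unusedSectionVars false

namespace CfsgLib.HeStd

universe u

theorem mem_of_gens (S : Subgroup TC) (h₁ : e₁ ∈ S) (h₂ : e₂ ∈ S) (h₃ : e₃ ∈ S) (h₄ : e₄ ∈ S) (x : TC) :
    x ∈ S := by
  rw [← build_eq x]
  have hp : ∀ (b : Bool) {z : TC}, z ∈ S → (bif b then z else 1) ∈ S := fun b z h => by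
    cases b <;> simp [h, S.one_mem]
  have hc : ∀ {a b : TC}, a ∈ S → b ∈ S → a * b * a⁻¹ * b⁻¹ ∈ S := fun ha hb =>
    S.mul_mem (S.mul_mem (S.mul_mem ha hb) (S.inv_mem ha)) (S.inv_mem hb)
  have ψ₁ := S.mul_mem (hc h₁ h₄) (hc h₂ h₃)
  have ψw := S.mul_mem (S.mul_mem (hc h₂ h₃) (hc h₁ h₃)) (hc h₂ h₄)
  have χ₁ := S.mul_mem (hc h₁ h₃) ψ₁
  have χw := S.mul_mem (hc h₁ h₃) (hc h₂ h₄)
  exact S.mul_mem (S.mul_mem (S.mul_mem (S.mul_mem (S.mul_mem (S.mul_mem (S.mul_mem (hp x.b.1 h₃) (hp x.b.2 h₄))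
    (hp x.a.1 h₁)) (hp x.a.2 h₂)) (hp x.c.1 χ₁)) (hp x.c.2 χw)) (hp x.v.1 ψ₁)) (hp x.v.2 ψw)

namespace Ctx

variable {G : Type u} [Group G]

/-- A fused involution commuting with `z` whose product with `z` is fused. -/
def Pair (c : Ctx G) (x : G) : Prop := c.InX x ∧ c.Fus (x * c.zg)

/-- Commutation modulo `z`. -/
def MZ (c : Ctx G) (a y : G) : Prop := y * a * y⁻¹ = a ∨ y * a * y⁻¹ = a * c.zg

/-- The graph of the pairs. -/
def PAdj (c : Ctx G) (a b : G) : Prop := c.Pair a ∧ c.Pair b ∧ a * b = b * a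

/-- Connectedness by pairs. -/
def PConn (c : Ctx G) (a b : G) : Prop := Relation.ReflTransGen c.PAdj a b

variable {c : Ctx G} [Finite G] [IsSimpleGroup G]

theorem Pair.conj {x : G} (h : c.Pair x) {n : G} (hn : n * c.zg * n⁻¹ = c.zg) : c.Pair (n * x * n⁻¹) := by
  refine ⟨h.1.conj hn, ?_⟩
  have := h.2.conj n
  rwa [show n * (x * c.zg) * n⁻¹ = n * x * n⁻¹ * (n * c.zg * n⁻¹) by group, hn] at this

theorem PAdj.symm {a b : G} (h : c.PAdj a b) : c.PAdj b a := ⟨h.2.1, h.1, h.2.2.symm⟩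

theorem zg_comm_ι (u : TC) : c.ι u * c.zg = c.zg * c.ι u := by rw [zg, ← map_mul, ← map_mul, zz_comm]

theorem ι_inX {u : TC} (h : fusT u = true) : c.InX (c.ι u) := ⟨fus_iff.mpr h, zg_comm_ι u⟩

theorem pair_ι {u : TC} : c.Pair (c.ι u) ↔ pairT u = true := by
  rw [pairT, Bool.and_eq_true, Pair, InX, fus_iff, zg, ← map_mul, fus_iff]
  exact ⟨fun h => ⟨h.1.1, h.2⟩, fun h => ⟨⟨h.1, by simp only [← map_mul, zz_comm]⟩, h.2⟩⟩

theorem pair_vg : c.Pair (c.vg q1) := pair_ι.mpr (by decide +kernel)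

/-- A frame of a pair. -/
theorem Pair.frame {x : G} (h : c.Pair x) : ∃ n, n * c.zg * n⁻¹ = c.zg ∧ n * x * n⁻¹ = c.vg q1 := by
  obtain ⟨n, hn, j, hj, e⟩ := gz_of_inX h.1
  refine ⟨n, hn, ?_⟩
  rcases q_cases j hj with rfl | hj'
  · exact e
  · exfalso
    have h2 := (h.conj hn).2
    rw [e] at h2
    exact vg_np hj' h2

theorem MZ.symm {a y : G} (ha : a * a = 1) (hy : y * y = 1) (hyz : y * c.zg = c.zg * y) (h : c.MZ a y) :
    c.MZ y a := by
  have hyi : y⁻¹ = y := inv_eq_of_mul_eq_one_right hy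
  have hai : a⁻¹ = a := inv_eq_of_mul_eq_one_right ha
  rcases h with h | h <;> rw [hyi] at h <;> [left; right] <;> rw [hai]
  · calc a * y * a = (y * a * y) * y * a := by rw [h]
      _ = y * a * (y * y) * a := by group
      _ = y * (a * a) := by rw [hy]; group
      _ = y := by rw [ha, mul_one]
  · have e : c.zg = a * (y * a * y) := by rw [h, ← mul_assoc, ha, one_mul]
    calc a * y * a = a * y * a * (y * y) := by rw [hy, mul_one]
      _ = a * (y * a * y) * y := by group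
      _ = y * c.zg := by rw [← e, hyz]

theorem MZ.conj {a y n : G} (hn : n * c.zg * n⁻¹ = c.zg) (h : c.MZ a y) :
    c.MZ (n * a * n⁻¹) (n * y * n⁻¹) := by
  rcases h with h | h
  · left
    rw [show n * y * n⁻¹ * (n * a * n⁻¹) * (n * y * n⁻¹)⁻¹ = n * (y * a * y⁻¹) * n⁻¹ by group, h]
  · right
    rw [show n * y * n⁻¹ * (n * a * n⁻¹) * (n * y * n⁻¹)⁻¹ = n * (y * a * y⁻¹) * n⁻¹ by group, h,
      show n * (a * c.zg) * n⁻¹ = n * a * n⁻¹ * (n * c.zg * n⁻¹) by group, hn]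

theorem mz_of_mzT {a b : TC} {r y : G} (h : mzT a b = true) (hr : y * r * y⁻¹ = c.ι a) (hb : r = c.ι b) :
    c.MZ r y := by
  simp only [mzT, Bool.or_eq_true, decide_eq_true_eq] at h
  rcases h with h | h
  · exact Or.inl (by rw [hr, h, hb])
  · exact Or.inr (by rw [hr, h, map_mul, hb]; rfl)

section Sigma

variable {x₀ : G} (hX : c.InX x₀) (hD : c.DX x₀) (hA : ∀ w, x₀ * c.ι w * x₀⁻¹ = c.ι (sigT w))
include hX hD hA

theorem kq_eq (w : TC) : c.ι w * x₀ * (c.ι w)⁻¹ = c.ι (kq w) * x₀ := by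
  rw [kq, map_mul, map_inv c.ι (sigT w), ← hA]; group

theorem sigma_conj_pair (w : TC) : c.Pair (c.ι w * x₀ * (c.ι w)⁻¹) := by
  have hn : c.ι w * c.zg * (c.ι w)⁻¹ = c.zg := by rw [zg_comm_ι, mul_inv_cancel_right]
  have hp : c.Pair x₀ := by
    refine ⟨hX, ?_⟩
    obtain ⟨p, r, hpr⟩ := sigma_pair
    have hxi : x₀⁻¹ = x₀ := inv_eq_of_mul_eq_one_right hX.1.sq.1
    have hp2 : (zc p r)⁻¹ = zc p r := inv_eq_of_mul_eq_one_right (by rw [zc_mul, qadd_self, qadd_self]; rfl)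
    have e : x₀ * c.zg = c.ι (zc p r) * x₀ * (c.ι (zc p r))⁻¹ := by
      rw [hX.2, zg, ← hpr, map_mul, ← hA, ← map_inv, hp2, hxi]
      calc c.ι (zc p r) * (x₀ * c.ι (zc p r) * x₀) * x₀ = c.ι (zc p r) * x₀ * c.ι (zc p r) * (x₀ * x₀) := by group
        _ = _ := by rw [hX.1.sq.1, mul_one]
    rw [e]
    exact hX.1.conj _
  exact hp.conj hn

theorem pair_nbr {y : G} (hy : c.Pair y) (hv : y * c.vg q1 = c.vg q1 * y) :
    (∃ u, pairT u = true ∧ y = c.ι u) ∨ ∃ w, y = c.ι w * x₀ * (c.ι w)⁻¹ := by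
  rcases y_cases (by decide) hy.1 hv with ⟨u, hu⟩ | ⟨-, h, hk⟩
  · exact Or.inl ⟨u, pair_ι.mp (hu ▸ hy), hu⟩
  · exact Or.inr (sig_class hD hA h hk hy.1.1.sq.1)

theorem sigma_on (w b : TC) :
    c.ι w * x₀ * (c.ι w)⁻¹ * c.ι b * (c.ι w * x₀ * (c.ι w)⁻¹)⁻¹ = c.ι (cjt w (sigT (cjt w⁻¹ b))) := by
  rw [show c.ι w * x₀ * (c.ι w)⁻¹ * c.ι b * (c.ι w * x₀ * (c.ι w)⁻¹)⁻¹ =
      c.ι w * (x₀ * ((c.ι w)⁻¹ * c.ι b * c.ι w) * x₀⁻¹) * (c.ι w)⁻¹ by group,
    show (c.ι w)⁻¹ * c.ι b * c.ι w = c.ι (cjt w⁻¹ b) by rw [cjt, inv_inv, map_mul, map_mul, map_inv],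
    hA]
  simp only [cjt, map_mul, map_inv]

theorem dist_two {a y : G} (ha : c.Pair a) (hy : c.Pair y) (hav : a * c.vg q1 = c.vg q1 * a)
    (hyv : y * c.vg q1 = c.vg q1 * y) : c.MZ a y := by
  rcases pair_nbr hX hD hA ha hav with ⟨u, hu, rfl⟩ | ⟨w, rfl⟩ <;>
    rcases pair_nbr hX hD hA hy hyv with ⟨u', hu', rfl⟩ | ⟨w', rfl⟩
  · exact mz_of_mzT (pair_uu u' u hu' hu) (by rw [cjt, map_mul, map_mul, map_inv]) rfl
  · exact mz_of_mzT (pair_wu w' u hu) (sigma_on hX hD hA w' u) rfl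
  · refine MZ.symm hy.1.1.sq.1 ha.1.1.sq.1 ha.1.2 ?_
    exact mz_of_mzT (pair_wu w u' hu') (sigma_on hX hD hA w u') rfl
  · have hn : c.ι w' * c.zg * (c.ι w')⁻¹ = c.zg := by rw [zg_comm_ι, mul_inv_cancel_right]
    have h0 : c.MZ (c.ι (w'⁻¹ * w) * x₀ * (c.ι (w'⁻¹ * w))⁻¹) x₀ := by
      set v := w'⁻¹ * w
      have hc : x₀ * (c.ι v * x₀ * (c.ι v)⁻¹) * x₀⁻¹ = c.ι (kq (sigT v)) * x₀ := by
        rw [← kq_eq hX hD hA, ← hA]; group
      have h := pair_ww v
      simp only [mzT, Bool.or_eq_true, decide_eq_true_eq] at h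
      rcases h with h | h
      · exact Or.inl (by rw [hc, h, kq_eq hX hD hA])
      · refine Or.inr ?_
        rw [hc, h, map_mul, kq_eq hX hD hA, show c.ι zz = c.zg from rfl, mul_assoc, ← hX.2, ← mul_assoc]
    have := h0.conj hn
    rwa [map_mul, map_inv, show c.ι w' * ((c.ι w')⁻¹ * c.ι w * x₀ * ((c.ι w')⁻¹ * c.ι w)⁻¹) * (c.ι w')⁻¹ =
      c.ι w * x₀ * (c.ι w)⁻¹ by group] at this

set_option maxHeartbeats 2000000 in
/-- A pair moving `v` to `v z`. -/
theorem mz_of_moving {y : G} (hy : c.Pair y) (hyv : y * c.vg q1 * y⁻¹ = c.yg q1) {a : G} (ha : c.Pair a)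
    (hav : a * c.vg q1 = c.vg q1 * a) : c.MZ a y := by
  obtain ⟨hyy, -⟩ := hy.1.1.sq
  have hyi : y⁻¹ = y := inv_eq_of_mul_eq_one_right hyy
  have hyz : y * c.zg * y⁻¹ = c.zg := by rw [hy.1.2, mul_inv_cancel_right]
  have hvc : c.vg q1 * c.zg = c.yg q1 := by
    rw [vg, zg, yg, ← map_mul]; exact congrArg c.ι (by decide +kernel)
  -- `y` normalises the Sylow subgroup
  have hnp : ∀ u, fusT u = true → fusT (u * zz) = false → ∃ u', y * c.ι u * y⁻¹ = c.ι u' := by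
    intro u hu hu'
    have hr : c.InX (y * c.ι u * y⁻¹) := (ι_inX hu).conj hyz
    have hc : c.ι u * c.vg q1 = c.vg q1 * c.ι u := c.vg_comm_ι q1 u
    have hc2 : y * c.ι u * y⁻¹ * c.yg q1 = c.yg q1 * (y * c.ι u * y⁻¹) := by
      rw [← hyv, show y * c.ι u * y⁻¹ * (y * c.vg q1 * y⁻¹) = y * (c.ι u * c.vg q1) * y⁻¹ by group, hc]; group
    have hc3 : y * c.ι u * y⁻¹ * c.vg q1 = c.vg q1 * (y * c.ι u * y⁻¹) := by
      have e : c.vg q1 = c.yg q1 * c.zg := by rw [← hvc, mul_assoc, zg_sq, mul_one]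
      rw [e, ← mul_assoc, hc2, mul_assoc, hr.2, ← mul_assoc]
    rcases y_cases (by decide) hr hc3 with ⟨v, hv⟩ | ⟨-, h, hk⟩
    · exact ⟨v, hv⟩
    exfalso
    obtain ⟨w, hw⟩ := sig_class hD hA h hk hr.1.sq.1
    have hp : c.Pair (y * c.ι u * y⁻¹) := hw ▸ sigma_conj_pair hX hD hA w
    have := hp.conj (zg_conj_inv hyz)
    rw [inv_inv, show y⁻¹ * (y * c.ι u * y⁻¹) * y = c.ι u by group, pair_ι, pairT, hu'] at this
    simp at this
  obtain ⟨g1, g2, g3, g4, gall⟩ := gen_facts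
  let S : Subgroup G := c.T.comap (MulAut.conj y).toMonoidHom
  have hS : ∀ x ∈ [(⟨qv, q0, q0, q0⟩ : TC), ⟨qw, q0, q0, q0⟩, ⟨q0, qv, q0, q0⟩, ⟨q0, qw, q0, q0⟩], c.ι x ∈ S :=
    fun x hx => by
      obtain ⟨u', e⟩ := hnp x (gall x hx).1 (gall x hx).2
      exact ⟨u', e.symm⟩
  have h1 : c.ι e₁ ∈ S := by rw [g1, map_mul]; exact S.mul_mem (hS _ (by simp)) (hS _ (by simp))
  have h2 : c.ι e₂ ∈ S := by rw [g2]; exact hS _ (by simp)
  have h3 : c.ι e₃ ∈ S := by rw [g3, map_mul]; exact S.mul_mem (hS _ (by simp)) (hS _ (by simp))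
  have h4 : c.ι e₄ ∈ S := by rw [g4]; exact hS _ (by simp)
  have hT : ∀ x, ∃ x', y * c.ι x * y⁻¹ = c.ι x' := fun x => by
    have hmem : c.ι x ∈ S := by
      exact mem_of_gens (S.comap c.ι) h1 h2 h3 h4 x
    obtain ⟨x', e⟩ := hmem
    exact ⟨x', e.symm⟩
  choose φ hφ using hT
  have hzc : ∀ p v : Q4, ∃ p' v', φ (zc p v) = zc p' v' := fun p v => by
    let φ' : TC →* TC := MonoidHom.mk' φ fun a b => c.inj (by rw [map_mul, ← hφ, ← hφ, ← hφ, map_mul]; group)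
    obtain ⟨h1, h2⟩ := phi_Z (φ := φ') (fun a b e => c.inj (by
      have e' : φ a = φ b := e
      have h := congrArg c.ι e'
      rw [← hφ, ← hφ] at h
      exact mul_left_cancel (mul_right_cancel h))) (x := zc p v) ⟨rfl, rfl⟩
    exact ⟨_, _, TC.ext h1 h2 rfl rfl⟩
  have hyc : y * c.yg q1 * y⁻¹ = c.vg q1 := by
    rw [← hyv, show y * (y * c.vg q1 * y⁻¹) * y⁻¹ = (y * y) * c.vg q1 * (y * y)⁻¹ by group, hyy]; group
  have hYV : ∀ p : Q4, ∃ v, y * c.yg p * y⁻¹ = c.vg v := by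
    have hYF : ∀ p : Q4, p ≠ q0 → ∃ p' v', y * c.yg p * y⁻¹ = c.ι (zc p' v') ∧ (p' = q0 ∨ v' = q0) := by
      intro p hp
      obtain ⟨p', v', e⟩ := hzc p q0
      have hF : c.Fus (c.yg p) := fus_iff.mpr (by
        have key : ∀ p : Q4, p ≠ q0 → fusT (zc p q0) = true := by decide +kernel
        exact key p hp)
      have e' : y * c.yg p * y⁻¹ = c.ι (zc p' v') := by rw [← e]; exact hφ _
      exact ⟨p', v', e', fus_central (e' ▸ hF.conj y)⟩
    intro p
    by_cases hp : p = q0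
    · exact ⟨q0, by subst hp; rw [yg, show zc q0 q0 = (1 : TC) from rfl, map_one]; simp [vg, show zc q0 q0 = (1 : TC) from rfl]⟩
    obtain ⟨p', v', e, h⟩ := hYF p hp
    rcases h with rfl | rfl
    · exact ⟨v', e⟩
    by_cases hp1 : p = q1
    · subst hp1; exact ⟨q1, hyc⟩
    exfalso
    have hp2 : qadd p q1 ≠ q0 := (show ∀ p : Q4, p ≠ q1 → qadd p q1 ≠ q0 by decide) p hp1
    obtain ⟨p'', v'', e'', h''⟩ := hYF _ hp2
    have hsum : c.yg (qadd p q1) = c.yg p * c.yg q1 := by rw [yg, yg, yg, ← map_mul, zc_mul, qadd_self]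
    have : c.ι (zc p'' v'') = c.ι (zc p' q1) := by
      rw [← e'', hsum, show y * (c.yg p * c.yg q1) * y⁻¹ = y * c.yg p * y⁻¹ * (y * c.yg q1 * y⁻¹) by group, e,
        hyc, vg, ← map_mul, zc_mul, (qadd_zero _).1, (qadd_zero _).2]
    have hcv := c.inj this
    have hp'' : p'' = p' := congrArg TC.c hcv
    have hv'' : v'' = q1 := congrArg TC.v hcv
    rcases h'' with h0 | h0
    · rw [hp''] at h0
      subst h0
      refine hp ?_
      rw [show zc q0 q0 = (1 : TC) from rfl, map_one, conj_eq_one_iff, yg, ← map_one c.ι] at e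
      exact congrArg TC.c (c.inj e)
    · rw [hv''] at h0; exact absurd h0 (by decide)
  obtain ⟨k, hkp, hkq, t, hk⟩ := swap_model (fun x => ⟨φ x, hφ x⟩) hYV
  set t₀ : TC := ⟨t.a, t.b, q0, q0⟩
  have hf : ∀ x, y * c.ι x * y⁻¹ = c.ι (phiT t₀ k x) := fun x => by
    rw [hk, phiT, conj_twist]; rfl
  have hinv : ∀ x, phiT t₀ k (phiT t₀ k x) = x := fun x => c.inj (by
    rw [← hf, ← hf, show y * (y * c.ι x * y⁻¹) * y⁻¹ = (y * y) * c.ι x * (y * y)⁻¹ by group, hyy]; group)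
  have hcl := phi_classify k
  simp only [hkp, hkq, decide_false, Bool.false_or, List.all_eq_true] at hcl
  have hcl' := hcl t₀ (mem_twists _ _)
  have hcond : (decide (phiT t₀ k zz = zz) && decide (phiT t₀ k (zc q0 q1) = zc q1 q0) &&
      [e₁, e₂, e₃, e₄].all fun e => decide (phiT t₀ k (phiT t₀ k e) = e)) = true := by
    simp only [Bool.and_eq_true, decide_eq_true_eq, List.all_eq_true]
    exact ⟨⟨c.inj ((hf zz).symm.trans hyz), c.inj ((hf _).symm.trans hyv)⟩, fun e _ => hinv e⟩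
  rw [hcond, Bool.not_true, Bool.false_or, Bool.or_eq_true] at hcl'
  rcases hcl' with hg | hb
  swap
  · exfalso
    set f := phiT t₀ k
    simp only [badW, List.any_eq_true, Bool.and_eq_true, Bool.or_eq_true, decide_eq_true_eq, Bool.not_eq_true',
      decide_eq_false_iff_not] at hb
    obtain ⟨s, -, ⟨⟨hsF, hsz⟩, hfs⟩, hmove⟩ := hb
    have hys : y * c.ι s = c.ι s * y := mul_inv_eq_iff_eq_mul.mp ((hf s).trans (congrArg c.ι hfs))
    have hsX : c.InX (c.ι s) := ι_inX hsF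
    have hne : y * c.ι s ≠ 1 := fun e => by
      have h1 := eq_inv_of_mul_eq_one_left e
      have : c.vg q1 = c.yg q1 := by
        rw [← hyv, h1, inv_inv, show (c.ι s)⁻¹ * c.vg q1 * c.ι s = (c.ι s)⁻¹ * (c.vg q1 * c.ι s) by group,
          ← c.vg_comm_ι, inv_mul_cancel_left]
      exact absurd (congrArg TC.v (c.inj this)) (by decide)
    set r := y * c.ι s with hr
    have hrA : ∀ x, r * c.ι x * r⁻¹ = c.ι (f (cjt s x)) := fun x => by
      rw [← hf, cjt, map_mul, map_mul, map_inv, hr]; group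
    obtain ⟨m, hm, hmz, u, e, hmu, hfu, hme, hfe⟩ : ∃ m : G, ∃ _ : m * c.zg * m⁻¹ = c.zg, ∃ _ : True, ∃ u e : TC,
        m * c.ι u * m⁻¹ = c.vg q1 ∧ f (cjt s u) = u ∧ m * c.ι e * m⁻¹ = c.vg qw ∧ f (cjt s e) ≠ e := by
      rcases hmove with ⟨m', hm', hmz, u, -, ⟨⟨hub, hu⟩, hfu⟩, e, -, ⟨heb, he⟩, hfe⟩ |
        ⟨m', hm', hmz, u, -, ⟨⟨hub, hu⟩, hfu⟩, e, -, ⟨heb, he⟩, hfe⟩
      · obtain ⟨m, -, hm⟩ := exists_movA_D (c := c) hm'
        exact ⟨m, by rw [zg, (hm zz rfl).2, hmz], trivial, u, e, by rw [(hm u hub).2, hu]; rfl, hfu,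
          by rw [(hm e heb).2, he]; rfl, hfe⟩
      · obtain ⟨m, -, hm⟩ := exists_movB_D (c := c) hm'
        exact ⟨m, by rw [zg, (hm zz rfl).2, hmz], trivial, u, e, by rw [(hm u hub).2, hu]; rfl, hfu,
          by rw [(hm e heb).2, he]; rfl, hfe⟩
    have hrz : r * c.zg = c.zg * r := by rw [hr, mul_assoc, zg_comm_ι, ← mul_assoc, hy.1.2, mul_assoc]
    have hru : r * c.ι u = c.ι u * r := mul_inv_eq_iff_eq_mul.mp ((hrA u).trans (congrArg c.ι hfu))
    have hrr : r * r = 1 := by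
      rw [hr, show y * c.ι s * (y * c.ι s) = y * (c.ι s * y) * c.ι s by group, ← hys,
        show y * (y * c.ι s) * c.ι s = (y * y) * (c.ι s * c.ι s) by group, hyy, hsX.1.sq.1, mul_one]
    set r' := m * r * m⁻¹ with hr'
    have hrz' : r' * c.zg = c.zg * r' := by
      rw [hr', ← hm, show m * r * m⁻¹ * (m * c.zg * m⁻¹) = m * (r * c.zg) * m⁻¹ by group, hrz]; group
    have hrv' : r' * c.vg q1 = c.vg q1 * r' := by
      rw [hr', ← hmu, show m * r * m⁻¹ * (m * c.ι u * m⁻¹) = m * (r * c.ι u) * m⁻¹ by group, hru]; group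
    have hrr' : r' * r' = 1 := by
      rw [hr', show m * r * m⁻¹ * (m * r * m⁻¹) = m * (r * r) * m⁻¹ by group, hrr]; group
    obtain ⟨h', -⟩ := frame_code (c := c) (j := q1) (by decide) hrz' hrv'
    have hout : (c.code ⟨r', h'⟩).out ≠ (false, false) := fun ho => by
      obtain ⟨v, hv⟩ := invol_inner h' hrr' ho
      refine hfe (c.inj ?_)
      have h1 : r' * c.vg qw = c.vg qw * r' := by rw [hv]; exact c.vg_comm_ι qw v
      rw [← hrA, show r = m⁻¹ * r' * m by rw [hr']; group]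
      calc m⁻¹ * r' * m * c.ι e * (m⁻¹ * r' * m)⁻¹
          = m⁻¹ * (r' * (m * c.ι e * m⁻¹) * r'⁻¹) * m := by group
        _ = _ := by rw [hme, h1, mul_inv_cancel_right, ← hme]; group
    rcases mul_cases hy.1 hsX hys hne with ⟨hF, -⟩ | ⟨h, hh⟩
    swap
    · refine hout ?_
      rw [← c.eps_NT h']
      exact zg_conj_inner (h := m * h) h'.1 (by rw [hr', ← hh.trans hr.symm]; group)
    obtain ⟨n, hnD, hnz, j, hj0, hnj⟩ := move_T_D (c := c) hsF
    have hj : j = qw ∨ j = qv := by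
      rcases q_cases j hj0 with rfl | hj | hj
      · exfalso
        have h3 : c.Fus (n * (c.ι s * c.zg) * n⁻¹) := by
          rw [show n * (c.ι s * c.zg) * n⁻¹ = n * c.ι s * n⁻¹ * (n * c.zg * n⁻¹) by group, hnj, hnz]
          exact pair_vg.2
        rw [Fus.conj_iff, zg, ← map_mul, fus_iff, hsz] at h3
        exact Bool.false_ne_true h3
      · exact Or.inl hj
      · exact Or.inr hj
    have hy' := hy.conj hnz
    have hv' : n * y * n⁻¹ * c.vg j = c.vg j * (n * y * n⁻¹) := by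
      rw [← hnj, show n * y * n⁻¹ * (n * c.ι s * n⁻¹) = n * (y * c.ι s) * n⁻¹ by group]
      conv_lhs => rw [show y * c.ι s = c.ι s * y from hys]
      group
    rcases y_cases hj0 hy'.1 hv' with ⟨p, hp⟩ | ⟨hj1, -⟩
    swap
    · rcases hj with rfl | rfl <;> exact absurd hj1 (by decide)
    have hpj : fusT (zc q0 j * p) = true := by
      rw [← fus_iff (c := c), map_mul, ← hp, show c.ι (zc q0 j) = c.vg j from rfl, ← hnj,
        show n * c.ι s * n⁻¹ * (n * y * n⁻¹) = n * (c.ι s * y) * n⁻¹ by group, ← hys, Fus.conj_iff]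
      exact hF
    have hp1 : p = zc q0 q1 := partner_unique j (by rcases hj with rfl | rfl <;> simp) p (pair_ι.mp (hp ▸ hy')) hpj
    -- then `y` lies in the Sylow subgroup
    obtain ⟨hs', -⟩ := fusT_shape s hsF
    have hyT : ∃ v, y = c.ι v := by
      have hh := move_hit
      simp only [Bool.and_eq_true, List.all_eq_true] at hh
      have key : ∀ (f' : TC → TC) (n' : G) (v : TC), n' * c.zg * n'⁻¹ = c.zg → inV (f' s) = true →
          n' * c.ι s * n'⁻¹ = c.ι (f' s) → n' * c.ι v * n'⁻¹ = c.vg q1 → ∃ v, y = c.ι v := by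
        intro f' n' v hn' hV hs2 hv2
        simp only [inV, Bool.and_eq_true, decide_eq_true_eq] at hV
        have hj' : n' * c.ι s * n'⁻¹ = c.vg (f' s).v := by
          rw [hs2, vg]; congr 1; exact TC.ext hV.1.1 hV.1.2 hV.2 rfl
        have hy2 := hy.conj hn'
        have hv2' : n' * y * n'⁻¹ * c.vg (f' s).v = c.vg (f' s).v * (n' * y * n'⁻¹) := by
          rw [← hj', show n' * y * n'⁻¹ * (n' * c.ι s * n'⁻¹) = n' * (y * c.ι s) * n'⁻¹ by group]
          conv_lhs => rw [show y * c.ι s = c.ι s * y from hys]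
          group
        have hne0 : (f' s).v ≠ q0 := fun e => by
          rw [e, show c.vg q0 = 1 from map_one c.ι, conj_eq_one_iff] at hj'
          exact hsX.1.sq.2 hj'
        have hjnp : ¬ c.Fus (c.vg (f' s).v * c.zg) := fun h3 => by
          rw [← hj', show n' * c.ι s * n'⁻¹ * c.zg = n' * c.ι s * n'⁻¹ * (n' * c.zg * n'⁻¹) by rw [hn'],
            show n' * c.ι s * n'⁻¹ * (n' * c.zg * n'⁻¹) = n' * (c.ι s * c.zg) * n'⁻¹ by group, Fus.conj_iff,
            zg, ← map_mul, fus_iff, hsz] at h3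
          exact Bool.false_ne_true h3
        have hj2 : (f' s).v = qw ∨ (f' s).v = qv := by
          rcases q_cases _ hne0 with h1 | h1
          · exact absurd (by rw [h1]; exact pair_vg.2) hjnp
          · exact h1
        rcases y_cases hne0 hy2.1 hv2' with ⟨p', hp'⟩ | ⟨hj1, -⟩
        swap
        · rcases hj2 with h1 | h1 <;> rw [h1] at hj1 <;> exact absurd hj1 (by decide)
        have hpj' : fusT (zc q0 (f' s).v * p') = true := by
          rw [← fus_iff (c := c), map_mul, ← hp', show c.ι (zc q0 (f' s).v) = c.vg (f' s).v from rfl, ← hj',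
            show n' * c.ι s * n'⁻¹ * (n' * y * n'⁻¹) = n' * (c.ι s * y) * n'⁻¹ by group, ← hys, Fus.conj_iff]
          exact hF
        have hp1' : p' = zc q0 q1 :=
          partner_unique _ (by rcases hj2 with h1 | h1 <;> simp [h1]) p' (pair_ι.mp (hp' ▸ hy2)) hpj'
        refine ⟨v, ?_⟩
        rw [hp1', show c.ι (zc q0 q1) = c.vg q1 from rfl, ← hv2] at hp'
        exact mul_left_cancel (mul_right_cancel hp')
      rcases hs' with ha' | hb'
      · obtain ⟨f', hf', h⟩ := List.any_eq_true.mp (cover_B s hsF ha')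
        simp only [Bool.and_eq_true, decide_eq_true_eq] at h
        obtain ⟨n', -, hn'⟩ := exists_movB_D (c := c) hf'
        have h3 := hh.2 f' hf'
        simp only [h.1, decide_true, Bool.not_true, Bool.false_or, List.any_eq_true, Bool.and_eq_true,
          decide_eq_true_eq] at h3
        obtain ⟨v, -, hv1, hv2⟩ := h3
        exact key f' n' v (by rw [zg, (hn' zz rfl).2, h.1]) h.2 (hn' s ha').2 (by rw [(hn' v hv1).2, hv2]; rfl)
      · obtain ⟨f', hf', h⟩ := List.any_eq_true.mp (cover_A s hsF hb')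
        simp only [Bool.and_eq_true, decide_eq_true_eq] at h
        obtain ⟨n', -, hn'⟩ := exists_movA_D (c := c) hf'
        have h3 := hh.1 f' hf'
        simp only [h.1, decide_true, Bool.not_true, Bool.false_or, List.any_eq_true, Bool.and_eq_true,
          decide_eq_true_eq] at h3
        obtain ⟨v, -, hv1, hv2⟩ := h3
        exact key f' n' v (by rw [zg, (hn' zz rfl).2, h.1]) h.2 (hn' s hb').2 (by rw [(hn' v hv1).2, hv2]; rfl)
    obtain ⟨v, rfl⟩ := hyT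
    rw [c.vg_comm_ι, mul_inv_cancel_right] at hyv
    exact absurd (congrArg TC.v (c.inj hyv)) (by decide)
  set f := phiT t₀ k
  simp only [goodF, Bool.and_eq_true, List.all_eq_true, decide_eq_true_eq] at hg
  obtain ⟨⟨hgu, hgs⟩, hgk⟩ := hg
  rcases pair_nbr hX hD hA ha hav with ⟨u, hu, rfl⟩ | ⟨w, rfl⟩
  · have := hgu u (mem_allTC u)
    rw [hu, Bool.not_true, Bool.false_or] at this
    exact mz_of_mzT this (hf u) rfl
  -- the image of the semilinear involution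
  have hsig : ∀ e ∈ [e₁, e₂, e₃, e₄], f (sigT e) = sigT (f e) := hgs
  set r := y * x₀ * y⁻¹ with hr
  have hrA : ∀ e ∈ [e₁, e₂, e₃, e₄], r * c.ι e * r⁻¹ = c.ι (sigT e) := fun e he => by
    calc r * c.ι e * r⁻¹ = y * (x₀ * (y⁻¹ * c.ι e * y⁻¹⁻¹) * x₀⁻¹) * y⁻¹ := by rw [hr]; group
      _ = y * (x₀ * c.ι (f e) * x₀⁻¹) * y⁻¹ := by rw [hyi]; rw [show y * c.ι e * y⁻¹ = c.ι (f e) from hf e]
      _ = c.ι (sigT e) := by rw [hA, ← hsig e he, hf, hinv]
  have hrX : c.InX r := hX.conj hyz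
  have hrv : r * c.vg q1 = c.vg q1 * r := by
    have hr1 : ∀ z, r * c.ι z * r⁻¹ = c.ι (sigT z) := map_eq_of_gens (φ := actH ⟨q1, q1, true, false⟩) hrA
    refine mul_inv_eq_iff_eq_mul.mp ?_
    rw [vg, hr1, sig_facts.2.1]
  obtain ⟨w₁, hw₁⟩ : ∃ w₁, r = c.ι w₁ * x₀ * (c.ι w₁)⁻¹ := by
    rcases y_cases (by decide) hrX hrv with ⟨u, hu⟩ | ⟨-, h, hk'⟩
    · exfalso
      have h1 := map_eq_of_gens (φ := actH ⟨q1, q1, true, false⟩) hrA (zc q0 qw)
      rw [hu, show c.ι (zc q0 qw) = c.vg qw from rfl, c.vg_comm_ι, mul_inv_cancel_right] at h1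
      exact absurd (congrArg TC.v (c.inj h1)) (by decide +kernel)
    · exact sig_class hD hA h hk' hrX.1.sq.1
  rw [kq_eq hX hD hA] at hw₁
  obtain ⟨p, v, hpv, hfix⟩ := kq_central w₁ fun e he => c.inj (by
    rw [← hrA e he, hw₁, cjt, map_mul, map_mul, map_inv, ← hA]; group)
  have hz : zc p v = 1 ∨ zc p v = zz := by
    rw [hpv] at hw₁
    have hback : c.ι (f (zc p v) * zc p v) = 1 := by
      have hx0 : y * r * y⁻¹ = x₀ := by
        rw [hr, show y * (y * x₀ * y⁻¹) * y⁻¹ = (y * y) * x₀ * (y * y)⁻¹ by group, hyy]; group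
      rw [hw₁, show y * (c.ι (zc p v) * x₀) * y⁻¹ = (y * c.ι (zc p v) * y⁻¹) * (y * x₀ * y⁻¹) by group, hf, ← hr,
        hw₁, ← mul_assoc, ← map_mul] at hx0
      exact mul_eq_right.mp hx0
    have e1 := c.inj (hback.trans (map_one c.ι).symm)
    rcases sig_fixed p v hfix with h | h | h | h
    · exact Or.inl h
    · exact Or.inr h
    · exfalso
      rw [h, show f (zc q0 q1) = zc q1 q0 from c.inj ((hf _).symm.trans hyv)] at e1
      exact absurd e1 (by decide +kernel)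
    · exfalso
      rw [h, show f (zc q1 q0) = zc q0 q1 from c.inj ((hf _).symm.trans hyc)] at e1
      exact absurd e1 (by decide +kernel)
  have hmw := hgk w (mem_allTC w)
  simp only [mzT, Bool.or_eq_true, decide_eq_true_eq] at hmw
  have hd : r = x₀ ∨ r = x₀ * c.zg := by
    rw [hpv] at hw₁
    rcases hz with h | h <;> rw [h] at hw₁
    · exact Or.inl (by rw [hw₁, map_one, one_mul])
    · exact Or.inr (by rw [hw₁, show c.ι zz = c.zg from rfl, hX.2])
  have hval : y * (c.ι w * x₀ * (c.ι w)⁻¹) * y⁻¹ = c.ι (f w) * r * (c.ι (f w))⁻¹ := by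
    rw [show y * (c.ι w * x₀ * (c.ι w)⁻¹) * y⁻¹ = (y * c.ι w * y⁻¹) * (y * x₀ * y⁻¹) * (y * c.ι w * y⁻¹)⁻¹ by group,
      hf, hr]
  have hzc' : ∀ b, c.ι b * (x₀ * c.zg) * (c.ι b)⁻¹ = c.ι b * x₀ * (c.ι b)⁻¹ * c.zg := fun b => by
    have : c.zg * (c.ι b)⁻¹ = (c.ι b)⁻¹ * c.zg := by
      rw [← map_inv]; exact (zg_comm_ι _).symm
    calc c.ι b * (x₀ * c.zg) * (c.ι b)⁻¹ = c.ι b * x₀ * (c.zg * (c.ι b)⁻¹) := by group
      _ = _ := by rw [this]; group
  have hkz : ∀ b, kq (f w) = b * zz → c.ι (kq (f w)) * x₀ = c.ι b * x₀ * c.zg := fun b e => by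
    rw [e, map_mul, show c.ι zz = c.zg from rfl, mul_assoc, ← hX.2, ← mul_assoc]
  rcases hd with hd | hd <;> rcases hmw with h | h
  · exact Or.inl (by rw [hval, hd, kq_eq hX hD hA, h, kq_eq hX hD hA])
  · exact Or.inr (by rw [hval, hd, kq_eq hX hD hA, hkz _ h, kq_eq hX hD hA])
  · exact Or.inr (by rw [hval, hd, hzc', kq_eq hX hD hA, h, kq_eq hX hD hA])
  · exact Or.inl (by rw [hval, hd, hzc', kq_eq hX hD hA, hkz _ h, mul_assoc, zg_sq, mul_one, kq_eq hX hD hA])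

end Sigma

/-- The common neighbour of two neighbours in `X`, and the connectedness of the pairs. -/
theorem pconn_all {p q : G} (hp : c.Pair p) (hq : c.Pair q) : c.PConn p q := by
  have key : ∀ a b, c.Conn a b → c.InX a → ∀ p' q', c.Pair p' → p' * a = a * p' → c.Pair q' → q' * b = b * q' →
      c.PConn p' q' := by
    have local_conn : ∀ a, c.InX a → ∀ p' q', c.Pair p' → p' * a = a * p' → c.Pair q' → q' * a = a * q' →
        c.PConn p' q' := by
      intro a ha p' q' hp' hpa hq' hqa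
      obtain ⟨n, hn, j, hj, e⟩ := gz_of_inX ha
      have hv : c.Pair (n⁻¹ * c.vg q1 * n⁻¹⁻¹) := pair_vg.conj (zg_conj_inv hn)
      have hcom : ∀ r, c.Pair r → r * a = a * r → r * (n⁻¹ * c.vg q1 * n⁻¹⁻¹) = n⁻¹ * c.vg q1 * n⁻¹⁻¹ * r := by
        intro r hr hra
        have h1 : n * r * n⁻¹ * c.vg q1 = c.vg q1 * (n * r * n⁻¹) := by
          have hv' : n * r * n⁻¹ * c.vg j = c.vg j * (n * r * n⁻¹) := by
            rw [← e, show n * r * n⁻¹ * (n * a * n⁻¹) = n * (r * a) * n⁻¹ by group, hra]; group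
          rcases y_cases hj (hr.1.conj hn) hv' with ⟨u, hu⟩ | ⟨hj1, -⟩
          · rw [hu]; exact c.vg_comm_ι q1 u
          · subst hj1; exact hv'
        calc r * (n⁻¹ * c.vg q1 * n⁻¹⁻¹) = n⁻¹ * (n * r * n⁻¹ * c.vg q1) * n := by group
          _ = n⁻¹ * (c.vg q1 * (n * r * n⁻¹)) * n := by rw [h1]
          _ = _ := by group
      exact (Relation.ReflTransGen.single ⟨hp', hv, hcom p' hp' hpa⟩).trans
        (Relation.ReflTransGen.single ⟨hv, hq', (hcom q' hq' hqa).symm⟩)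
    intro a b h
    induction h with
    | refl => exact fun ha p' q' h1 h2 h3 h4 => local_conn a ha p' q' h1 h2 h3 h4
    | @tail b d _ hbd ih =>
      intro ha p' q' hp' hpa hq' hqd
      obtain ⟨n, hn, j, hj, e⟩ := gz_of_inX hbd.1
      have hv' : n * d * n⁻¹ * c.vg j = c.vg j * (n * d * n⁻¹) := by
        rw [← e, show n * d * n⁻¹ * (n * b * n⁻¹) = n * (d * b) * n⁻¹ by group, ← hbd.2.2]; group
      have h1 : c.vg q1 * (n * d * n⁻¹) = n * d * n⁻¹ * c.vg q1 := by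
        rcases y_cases hj (hbd.2.1.conj hn) hv' with ⟨u, hu⟩ | ⟨hj1, -⟩
        · rw [hu]; exact (c.vg_comm_ι q1 u).symm
        · subst hj1; exact hv'.symm
      set r := n⁻¹ * c.vg q1 * n⁻¹⁻¹ with hr
      have hrP : c.Pair r := pair_vg.conj (zg_conj_inv hn)
      have hrb : r * b = b * r := by
        rw [hr, show b = n⁻¹ * c.vg j * n by rw [← e]; group,
          show n⁻¹ * c.vg q1 * n⁻¹⁻¹ * (n⁻¹ * c.vg j * n) = n⁻¹ * (c.vg q1 * c.vg j) * n by group,
          show c.vg q1 * c.vg j = c.vg j * c.vg q1 from c.vg_comm_ι j (zc q0 q1)]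
        group
      have hrd : r * d = d * r := by
        calc r * d = n⁻¹ * (c.vg q1 * (n * d * n⁻¹)) * n := by rw [hr]; group
          _ = n⁻¹ * (n * d * n⁻¹ * c.vg q1) * n := by rw [h1]
          _ = _ := by rw [hr]; group
      exact (ih ha p' r hp' hpa hrP hrb).trans (local_conn d hbd.2.1 r q' hrP hrd hq' hqd)
  exact key p q (conn_all hp.1 hq.1) hp.1 p q hp rfl hq rfl

/-- Pairs commute modulo `z`. -/
theorem pairs_mz {a y : G} (ha : c.Pair a) (hy : c.Pair y) : c.MZ a y := by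
  obtain ⟨x₀, hX, hD, hA⟩ := exists_sigma (c := c)
  have h := pconn_all hy ha
  induction h with
  | refl => exact Or.inl (by group)
  | @tail b x _ hbx ih =>
    have hb := ih hbx.1
    obtain ⟨n, hn, e⟩ := hbx.1.frame
    have hx' : c.Pair (n * x * n⁻¹) := hbx.2.1.conj hn
    have hy' : c.Pair (n * y * n⁻¹) := hy.conj hn
    have hxv : n * x * n⁻¹ * c.vg q1 = c.vg q1 * (n * x * n⁻¹) := by
      rw [← e, show n * x * n⁻¹ * (n * b * n⁻¹) = n * (x * b) * n⁻¹ by group, ← hbx.2.2]; group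
    have hb' := hb.conj hn
    rw [e] at hb'
    have hm : c.MZ (n * x * n⁻¹) (n * y * n⁻¹) := by
      rcases hb' with h' | h'
      · exact dist_two hX hD hA hx' hy' hxv (mul_inv_eq_iff_eq_mul.mp h')
      · refine mz_of_moving hX hD hA hy' ?_ hx' hxv
        rw [h', vg, zg, yg, ← map_mul]
        exact congrArg c.ι (by decide +kernel)
    have := hm.conj (zg_conj_inv hn)
    rwa [show n⁻¹ * (n * x * n⁻¹) * n⁻¹⁻¹ = x by group, show n⁻¹ * (n * y * n⁻¹) * n⁻¹⁻¹ = y by group] at this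

end Ctx

end CfsgLib.HeStd
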