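import Cfsg.Agent.Lib.HeStd.InnerFusion

/-!
# The Sylow subgroup seen from a fused inner involution
-/

set_option autoImplicit false
set_option linter.style.haveILetI false
set_option linter.unusedSectionVars false

namespace CfsgLib.HeStd

universe u

theorem pow_four : ∀ z : TC, z ^ 2 ^ 2 = 1 := by
  have h : ∀ z : TC, (z * z) * (z * z) = 1 := by decide +kernel
  intro z
  rw [show 2 ^ 2 = 1 + 1 + 1 + 1 from rfl]
  simpa [pow_succ, mul_assoc] using h z

/-- The map taking a central element to a product of commutators. -/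
theorem central_mem {I : Subgroup TC} (hI : ∀ p q : TC, p * q * p⁻¹ * q⁻¹ ∈ I) (cc v : Q4) : zc cc v ∈ I := by
  rw [← build_eq (zc cc v)]
  have hp : ∀ (b : Bool) {y : TC}, y ∈ I → (bif b then y else 1) ∈ I := fun b y h => by cases b <;> simp [h]
  simp only [build, zc]
  exact mul_mem (mul_mem (mul_mem (mul_mem (mul_mem (mul_mem (mul_mem (by simp [q0]) (by simp [q0])) (by simp [q0]))
    (by simp [q0])) (hp _ (mul_mem (hI _ _) (mul_mem (hI _ _) (hI _ _))))) (hp _ (mul_mem (hI _ _) (hI _ _))))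
    (hp _ (mul_mem (hI _ _) (hI _ _)))) (hp _ (mul_mem (mul_mem (hI _ _) (hI _ _)) (hI _ _)))

namespace Ctx

variable {G : Type u} [Group G] (c : Ctx G)

/-- A conjugating element carrying the Sylow subgroup into `NT`, no involution of the centre into `K`. -/
structure Pull where
  /-- the conjugating element -/
  g : G
  hNT : ∀ z : TC, g⁻¹ * c.ι z * g ∈ c.NT
  hV : ∀ v : Q4, v ≠ q0 → g⁻¹ * c.ι (zc q0 v) * g ∉ c.K

variable {c}

namespace Pull

variable (P : c.Pull)

/-- The pulled back coordinates. -/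
def ψ : TC →* G := (MulAut.conj P.g⁻¹).toMonoidHom.comp c.ι

theorem ψ_apply (z : TC) : P.ψ z = P.g⁻¹ * c.ι z * P.g := by
  simp [ψ, MulAut.conj_apply]

theorem ψ_mem (z : TC) : P.ψ z ∈ c.NT := P.ψ_apply z ▸ P.hNT z

theorem ι_eq (z : TC) : c.ι z = P.g * P.ψ z * P.g⁻¹ := by rw [ψ_apply]; group

/-- `u` gives the inner part of the pull-back of `z`. -/
def Rel (z u : TC) : Prop := ∃ k ∈ c.K, P.ψ z = c.ι u * k

theorem Rel.mul {P : c.Pull} {z z' u u' : TC} (h : P.Rel z u) (h' : P.Rel z' u') : P.Rel (z * z') (u * u') := by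
  obtain ⟨k, hk, e⟩ := h
  obtain ⟨k', hk', e'⟩ := h'
  refine ⟨k * k', c.K.mul_mem hk hk', ?_⟩
  rw [map_mul, e, e', map_mul, mul_assoc, ← mul_assoc k, ← c.comm_K hk, mul_assoc, mul_assoc]

theorem Rel.inv {P : c.Pull} {z u : TC} (h : P.Rel z u) : P.Rel z⁻¹ u⁻¹ := by
  obtain ⟨k, hk, e⟩ := h
  refine ⟨k⁻¹, c.K.inv_mem hk, ?_⟩
  rw [map_inv, e, mul_inv_rev, map_inv, ← map_inv, c.comm_K (c.K.inv_mem hk)]

theorem Rel.unique {P : c.Pull} {z u u' : TC} (h : P.Rel z u) (h' : P.Rel z u') :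
    inV (u⁻¹ * u') = true := by
  obtain ⟨k, hk, e⟩ := h
  obtain ⟨k', hk', e'⟩ := h'
  rw [← c.ι_mem_K_iff, map_mul, map_inv]
  have : (c.ι u)⁻¹ * c.ι u' = k * k'⁻¹ := by
    rw [e] at e'
    calc (c.ι u)⁻¹ * c.ι u' = (c.ι u)⁻¹ * (c.ι u' * k') * k'⁻¹ := by group
      _ = _ := by rw [← e']; group
  rw [this]
  exact c.K.mul_mem hk (c.K.inv_mem hk')

theorem rel_of_K {z : TC} (h : P.ψ z ∈ c.K) : P.Rel z 1 := ⟨_, h, by rw [map_one, one_mul]⟩

theorem K_of_rel {z u : TC} (h : P.Rel z u) (hu : inV u = true) : P.ψ z ∈ c.K := by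
  obtain ⟨k, hk, e⟩ := h
  rw [e]; exact c.K.mul_mem (c.ι_mem_K_iff.mpr hu) hk

variable [Finite G]

/-- The outer type of a pull-back. -/
noncomputable def out (z : TC) : Bool × Bool := (c.code ⟨P.ψ z, P.ψ_mem z⟩).out

theorem out_mul (z z' : TC) : P.out (z * z') = oadd (P.out z) (P.out z') := by
  rw [out, out, out, ← c.out_mul]
  congr 2
  exact Subtype.ext (map_mul _ _ _)

theorem rel_exists {z : TC} (h : P.out z = (false, false)) : ∃ u, P.Rel z u := by
  obtain ⟨u, hu⟩ := c.mem_TK (n := ⟨P.ψ z, P.ψ_mem z⟩) (j := 2)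
    (show P.ψ z ^ 2 ^ 2 = 1 by rw [← map_pow, pow_four, map_one]) h
  exact ⟨u, _, hu, (mul_inv_cancel_left _ _).symm⟩

theorem out_central (cc v : Q4) : P.out (zc cc v) = (false, false) := by
  let I : Subgroup TC :=
    { carrier := {z | P.out z = (false, false)}
      one_mem' := by
        show P.out 1 = _
        have h := P.out_mul 1 1
        rw [one_mul] at h
        revert h
        generalize P.out 1 = a
        revert a
        decide
      mul_mem' := fun {a b} ha hb => by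
        show P.out (a * b) = _
        rw [P.out_mul, ha, hb]; rfl
      inv_mem' := fun {a} ha => by
        show P.out a⁻¹ = _
        have h := P.out_mul a⁻¹ a
        rw [inv_mul_cancel, ha] at h
        have h1 := P.out_mul 1 1
        rw [one_mul] at h1
        revert h h1
        generalize P.out 1 = x
        generalize P.out a⁻¹ = y
        revert x y
        decide }
  refine central_mem (I := I) (fun p q => ?_) cc v
  show P.out _ = _
  have e : ∀ p : TC, P.out p⁻¹ = P.out p := fun p => by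
    have h := P.out_mul p⁻¹ p
    rw [inv_mul_cancel, show P.out 1 = (false, false) from I.one_mem] at h
    exact (oadd_self _ _).mp h.symm
  rw [P.out_mul, P.out_mul, P.out_mul, e, e]
  generalize P.out p = a
  generalize P.out q = b
  revert a b
  decide

theorem V_meet {v : Q4} (h : P.ψ (zc q0 v) ∈ c.K) : v = q0 := by
  by_contra hv
  exact P.hV v hv (P.ψ_apply _ ▸ h)

theorem K_conj {z : TC} (h : P.ψ z ∈ c.K) (t : TC) : P.ψ (t * z * t⁻¹) ∈ c.K := by
  rw [map_mul, map_mul, map_inv]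
  exact c.conj_K (P.ψ_mem t).1 h

theorem K_comm {z : TC} (h : P.ψ z ∈ c.K) (t : TC) : P.ψ (z * t * z⁻¹ * t⁻¹) ∈ c.K := by
  rw [show z * t * z⁻¹ * t⁻¹ = z * (t * z⁻¹ * t⁻¹) by group, map_mul]
  exact c.K.mul_mem h (P.K_conj (by rw [map_inv]; exact c.K.inv_mem h) t)

theorem rel_comm {z t u w : TC} (h : P.Rel z u) (h' : P.Rel t w) :
    P.Rel (z * t * z⁻¹ * t⁻¹) (u * w * u⁻¹ * w⁻¹) :=
  ((h.mul h').mul h.inv).mul h'.inv

theorem rel_one : P.Rel 1 1 := P.rel_of_K (by rw [map_one]; exact c.K.one_mem)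

/-- Conjugates inside the Sylow subgroup by elements centralising a root involution of the kernel. -/
theorem W_conj {z z' w : TC} {l : G} (hw : P.ψ w ∈ c.K) (hw1 : w ≠ 1) (hw2 : w * w = 1)
    (hl : l * c.ι w * l⁻¹ = c.ι w) (hz : P.ψ z ∈ c.K) (e : l * c.ι z * l⁻¹ = c.ι z') : P.ψ z' ∈ c.K := by
  haveI : Fact (Nat.Prime 2) := ⟨Nat.prime_two⟩
  have ho : orderOf (P.ψ w) = 2 := by
    refine orderOf_eq_prime (by rw [pow_two, ← map_mul, hw2, map_one]) fun h => hw1 (c.inj ?_)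
    rw [P.ι_eq, h, map_one]; group
  have hN : P.g⁻¹ * l * P.g ∈ c.N := by
    refine c.centralizer_le hw ho ?_
    rw [ψ_apply]
    calc P.g⁻¹ * l * P.g * (P.g⁻¹ * c.ι w * P.g) = P.g⁻¹ * (l * c.ι w * l⁻¹) * l * P.g := by group
      _ = _ := by rw [hl]; group
  have := c.conj_K hN hz
  rwa [show P.g⁻¹ * l * P.g * P.ψ z * (P.g⁻¹ * l * P.g)⁻¹ = P.g⁻¹ * (l * c.ι z * l⁻¹) * P.g by
    rw [ψ_apply]; group, e, ← ψ_apply] at this

end Pull

end Ctx

end CfsgLib.HeStd
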