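import Cfsg.Agent.Lib.HeStd.PairsDec

/-!
# Finite facts for the group generated by the pairs
-/

set_option autoImplicit false
set_option maxHeartbeats 2000000
set_option synthInstance.maxHeartbeats 400000
set_option synthInstance.maxSize 1024

namespace CfsgLib.HeStd

/-- The part of the group of the pairs in the Sylow subgroup. -/
def inU (u : TC) : Bool := mzT (sigT u) u

/-- A frame in which an element with this action is outer. -/
def witF (g : TC → TC) : Bool :=
  (movesA.any fun m => decide (m zz = zz) && allTC.any fun u => decide (u.b = q0) && decide (m u = zc q0 q1) &&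
      decide (g u = u) && allTC.any fun e => decide (e.b = q0) && decide (m e = zc q0 qw) && !decide (g e = e)) ||
    movesB.any fun m => decide (m zz = zz) && allTC.any fun u => decide (u.a = q0) && decide (m u = zc q0 q1) &&
      decide (g u = u) && allTC.any fun e => decide (e.a = q0) && decide (m e = zc q0 qw) && !decide (g e = e)

theorem wit_tgt : witF tgt = true := by decide +kernel

theorem wit_th0 : witF th0 = true := by decide +kernel

theorem th0_eq : ∀ x : TC, sigT (tgt x) = th0 x ∧ tgt (sigT x) = th0 x ∧ tgt (tgt x) = x := by decide +kernel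

theorem twist_b : ∀ b : Q4, mzT (cjt ⟨q0, b, q0, q0⟩ (tgt e₁)) e₁ = true → b = q0 ∨ b = q1 := by decide +kernel

/-- The generators of the part in the Sylow subgroup. -/
def gensU : List TC := [e₁, e₃, zc q0 q1, zc q1 q0, ⟨q0, q1, qw, qw⟩]

theorem gensU_pair : ∀ g ∈ gensU, pairT g = true := by decide +kernel

theorem inU_gens : ∀ u : TC, inU u = true → ∃ b₁ b₂ b₃ b₄ b₅ : Bool,
    u = (bif b₁ then e₁ else 1) * (bif b₂ then e₃ else 1) * (bif b₃ then zc q0 q1 else 1) *
      (bif b₄ then zc q1 q0 else 1) * (bif b₅ then ⟨q0, q1, qw, qw⟩ else 1) := by decide +kernel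

theorem inU_count : (allTC.filter inU).length = 32 := by decide +kernel

theorem pair_prod : ∀ p p' : TC, pairT p = true → pairT p' = true → p * p' = p' * p → p ≠ p' →
    fusT (p * p') = false := by decide +kernel

theorem swap_moves : ∀ k : AK, k.p = q1 → k.q = q1 → k.s = true → (act k e₁).a ≠ q1 := by decide +kernel

theorem move_start : ∃ y : TC, y.a = q0 ∧ f2 y = zc q0 q1 := f2_surj _ rfl

theorem tgt_facts : tgt (zc q0 q1) = zc q1 q0 ∧ pairT e₁ = true ∧ pairT e₃ = true ∧ pairT (e₃ * zz) = true ∧
    (∀ x, cjt (e₃ * zz) x = cjt e₃ x) ∧ sigT (zc q1 q0) = zc q1 q0 ∧ tgt (zc q1 q0) = zc q0 q1 ∧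
    (∀ x, cjt (zc q1 q0) x = x) := by decide +kernel

end CfsgLib.HeStd
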