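import Cfsg.Agent.Lib.HeStd.Pairs
import Cfsg.Agent.Lib.HeStd.QDec

/-!
# The group generated by the pairs
-/

set_option autoImplicit false
set_option linter.style.haveILetI false
set_option linter.unusedSectionVars false

namespace CfsgLib.HeStd

universe u

namespace Ctx

variable {G : Type u} [Group G]

/-- The group generated by the pairs. -/
def QS (c : Ctx G) : Subgroup G := Subgroup.closure {x | c.Pair x}

/-- Two commuting pairs with exact actions, generating the outer part. -/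
structure Base (c : Ctx G) where
  x₀ : G
  qo : G
  hx : c.Pair x₀
  hq : c.Pair qo
  hxq : c.Pair (x₀ * qo)
  hxA : ∀ w, x₀ * c.ι w * x₀⁻¹ = c.ι (sigT w)
  hqA : ∀ w, qo * c.ι w * qo⁻¹ = c.ι (tgt w)
  comm : x₀ * qo = qo * x₀

variable {c : Ctx G} [Finite G] [IsSimpleGroup G]

theorem not_zconj {r : G} {g : TC → TC} (hz : r * c.zg = c.zg * r) (hr : r * r = 1)
    (hA : ∀ x, r * c.ι x * r⁻¹ = c.ι (g x)) (hw : witF g = true) : ¬ ∃ h, h * c.zg * h⁻¹ = r := by
  rintro ⟨h, hh⟩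
  obtain ⟨m, hm, u, e, hmu, hgu, hme, hge⟩ : ∃ m : G, m * c.zg * m⁻¹ = c.zg ∧ ∃ u e : TC,
      m * c.ι u * m⁻¹ = c.vg q1 ∧ g u = u ∧ m * c.ι e * m⁻¹ = c.vg qw ∧ g e ≠ e := by
    simp only [witF, List.any_eq_true, Bool.and_eq_true, Bool.or_eq_true, decide_eq_true_eq, Bool.not_eq_true',
      decide_eq_false_iff_not] at hw
    rcases hw with ⟨m', hm', hmz, u, -, ⟨⟨hub, hu⟩, hfu⟩, e, -, ⟨heb, he⟩, hfe⟩ |
      ⟨m', hm', hmz, u, -, ⟨⟨hub, hu⟩, hfu⟩, e, -, ⟨heb, he⟩, hfe⟩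
    · obtain ⟨m, hm⟩ := exists_movA (c := c) hm'
      exact ⟨m, by rw [zg, (hm zz rfl).2, hmz], u, e, by rw [(hm u hub).2, hu]; rfl, hfu,
        by rw [(hm e heb).2, he]; rfl, hfe⟩
    · obtain ⟨m, hm⟩ := exists_movB (c := c) hm'
      exact ⟨m, by rw [zg, (hm zz rfl).2, hmz], u, e, by rw [(hm u hub).2, hu]; rfl, hfu,
        by rw [(hm e heb).2, he]; rfl, hfe⟩
  have hru : r * c.ι u = c.ι u * r := mul_inv_eq_iff_eq_mul.mp ((hA u).trans (congrArg c.ι hgu))
  set r' := m * r * m⁻¹ with hr'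
  have hrz' : r' * c.zg = c.zg * r' := by
    rw [hr', ← hm, show m * r * m⁻¹ * (m * c.zg * m⁻¹) = m * (r * c.zg) * m⁻¹ by group, hz]; group
  have hrv' : r' * c.vg q1 = c.vg q1 * r' := by
    rw [hr', ← hmu, show m * r * m⁻¹ * (m * c.ι u * m⁻¹) = m * (r * c.ι u) * m⁻¹ by group, hru]; group
  have hrr' : r' * r' = 1 := by
    rw [hr', show m * r * m⁻¹ * (m * r * m⁻¹) = m * (r * r) * m⁻¹ by group, hr]; group
  obtain ⟨h', -⟩ := frame_code (c := c) (j := q1) (by decide) hrz' hrv'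
  have h0 := zg_conj_inner (h := m * h) h'.1 (by rw [hr', ← hh]; group)
  rw [c.eps_NT h'] at h0
  obtain ⟨v, hv⟩ := invol_inner h' hrr' h0
  refine hge (c.inj ?_)
  have h1 : r' * c.vg qw = c.vg qw * r' := by rw [hv]; exact c.vg_comm_ι qw v
  rw [← hA, show r = m⁻¹ * r' * m by rw [hr']; group]
  calc m⁻¹ * r' * m * c.ι e * (m⁻¹ * r' * m)⁻¹
      = m⁻¹ * (r' * (m * c.ι e * m⁻¹) * r'⁻¹) * m := by group
    _ = _ := by rw [hme, h1, mul_inv_cancel_right, ← hme]; group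

theorem pair_zg {x : G} (hx : c.Pair x) : c.Pair (x * c.zg) := by
  refine ⟨⟨hx.2, ?_⟩, ?_⟩
  · rw [mul_assoc, ← mul_assoc c.zg, ← hx.1.2, mul_assoc]
  · rw [mul_assoc, zg_sq, mul_one]; exact hx.1.1

theorem prod_fus {a b : G} {g : TC → TC} (ha : c.InX a) (hb : c.InX b) (hab : a * b = b * a)
    (hA : ∀ x, a * b * c.ι x * (a * b)⁻¹ = c.ι (g x)) (hw : witF g = true) : c.Fus (a * b) := by
  have hne : a * b ≠ 1 := fun e => by
    have hid : ∀ x, g x = x := fun x => c.inj (by rw [← hA, e]; group)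
    simp [witF, hid] at hw
  refine ((mul_cases ha hb hab hne).resolve_right ?_).1
  refine not_zconj ?_ ?_ hA hw
  · rw [mul_assoc, hb.2, ← mul_assoc, ha.2, mul_assoc]
  · calc a * b * (a * b) = a * (b * a) * b := by group
      _ = (a * a) * (b * b) := by rw [← hab]; group
      _ = 1 := by rw [ha.1.sq.1, hb.1.sq.1, one_mul]

theorem exists_base : Nonempty (Base c) := by
  obtain ⟨x₀, hX, hD, hA⟩ := exists_sigma (c := c)
  obtain ⟨hz2, -, -, -, hte1, -, htz, he1, he1z, -, -⟩ := f_facts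
  obtain ⟨ht1, hp1, hp3, hp3z, hc3z, hs10, ht10, hc10⟩ := tgt_facts
  obtain ⟨n₂, -, hn₂⟩ := exists_movB_D (c := c) f_mem.2
  set q := n₂ * c.ι e₁ * n₂⁻¹ with hqdef
  have hn2z : n₂ * c.zg * n₂⁻¹ = c.zg := by rw [zg, (hn₂ zz rfl).2, hz2]
  have hqP : c.Pair q := (pair_ι.mpr hp1).conj hn2z
  have hqA : ∀ x, x.a = q0 → q * c.ι x * q⁻¹ = c.ι (tgt x) := by
    intro x hx
    obtain ⟨y, hy, rfl⟩ := f2_surj x hx
    rw [← (hn₂ y hy).2, ← q_action y hy, ← (hn₂ (cjt e₁ y) ((conj_ab e₁ y).1.trans hy)).2, hqdef, cjt,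
      map_mul, map_mul, map_inv]
    group
  have hqi : q⁻¹ = q := inv_eq_of_mul_eq_one_right hqP.1.1.sq.1
  have hT := conj_mem_T (c := c) (m := q) fun p v => by
    obtain ⟨p', v', e⟩ := tgt_zc p v
    refine ⟨p', v', ?_⟩
    rw [← e, ← hqA _ rfl]
    conv_lhs => rw [hqi]
    rw [hqi]
  obtain ⟨k, hkp, hkq, t, hk⟩ := swap_model hT fun p => by
    obtain ⟨v, e⟩ := tgt_Y p
    exact ⟨v, by rw [yg, hqA _ rfl, e]; rfl⟩
  have htw : ∀ x, t * th0 (act k x) * t⁻¹ = cjt ⟨t.a, t.b, q0, q0⟩ (th0 (act k x)) := fun x => conj_twist _ _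
  obtain ⟨rfl, hta⟩ := q_shape k hkp hkq _ (mem_twists t.a t.b) fun e he => by
    rw [← htw]
    refine c.inj ?_
    rw [← hk, hqA]
    simp only [List.mem_cons, List.not_mem_nil, or_false] at he
    rcases he with rfl | rfl | rfl | rfl | rfl | rfl <;> rfl
  rw [hta] at htw
  set b := t.b
  have hq' : ∀ x, q * c.ι x * q⁻¹ = c.ι (cjt ⟨q0, b, q0, q0⟩ (tgt x)) := fun x => by rw [hk, htw]; rfl
  have hb : b = q0 ∨ b = q1 := twist_b b (by
    rcases pairs_mz (pair_ι.mpr hp1) hqP with h | h <;> rw [hq'] at h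
    · simp [mzT, c.inj h]
    · simp [mzT, c.inj (h.trans (map_mul c.ι e₁ zz).symm)])
  obtain ⟨qo, hqo, hqoA⟩ : ∃ qo, c.Pair qo ∧ ∀ x, qo * c.ι x * qo⁻¹ = c.ι (tgt x) := by
    rcases hb with hb | hb
    · refine ⟨q, hqP, fun x => ?_⟩
      rw [hq', hb]
      congr 1
      show (1 : TC) * tgt x * 1⁻¹ = tgt x
      group
    · have key : ∀ s : TC, pairT s = true → (∀ y, cjt s y = cjt e₃ y) →
          cjt ⟨q0, q1, q0, q0⟩ (tgt s) = s → c.Fus (q * c.ι s) ∧
          ∀ x, q * c.ι s * c.ι x * (q * c.ι s)⁻¹ = c.ι (tgt x) := by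
        intro s hs hse hfix
        have hact : ∀ x, q * c.ι s * c.ι x * (q * c.ι s)⁻¹ = c.ι (tgt x) := fun x => by
          rw [show q * c.ι s * c.ι x * (q * c.ι s)⁻¹ = q * (c.ι s * c.ι x * (c.ι s)⁻¹) * q⁻¹ by group,
            ← map_inv, ← map_mul, ← map_mul, hq', show s * x * s⁻¹ = cjt e₃ x from hse x, hb]
          exact congrArg c.ι (qo_action q1 x)
        refine ⟨prod_fus hqP.1 (pair_ι.mpr hs).1 ?_ hact wit_tgt, hact⟩
        refine mul_inv_eq_iff_eq_mul.mp ?_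
        rw [hq']
        congr 1
        rw [hb]
        exact hfix
      obtain ⟨h1, h2⟩ := key e₃ hp3 (fun _ => rfl) (by decide +kernel)
      obtain ⟨h3, -⟩ := key (e₃ * zz) hp3z hc3z (by decide +kernel)
      refine ⟨q * c.ι e₃, ⟨⟨h1, ?_⟩, ?_⟩, h2⟩
      · rw [mul_assoc, zg_comm_ι, ← mul_assoc, hqP.1.2, mul_assoc]
      · rw [mul_assoc, zg, ← map_mul]; exact h3
  have hqq : qo * qo = 1 := hqo.1.1.sq.1
  have hxx : x₀ * x₀ = 1 := hX.1.sq.1
  have hx0P : c.Pair x₀ := by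
    have h := sigma_conj_pair hX hD hA 1
    rwa [map_one, one_mul, inv_one, mul_one] at h
  obtain ⟨x₁, hx₁, hx₁A, hcomm⟩ : ∃ x₁, c.Pair x₁ ∧ (∀ w, x₁ * c.ι w * x₁⁻¹ = c.ι (sigT w)) ∧
      x₁ * qo = qo * x₁ := by
    rcases pairs_mz hx0P hqo with h | h
    · exact ⟨x₀, hx0P, hA, (mul_inv_eq_iff_eq_mul.mp h).symm⟩
    · refine ⟨x₀ * c.yg q1, ?_, fun w => ?_, ?_⟩
      · obtain ⟨p, r, hpr⟩ := sig_shift q1 q0 hs10
        have e : x₀ * c.yg q1 = c.ι (zc p r) * x₀ * (c.ι (zc p r))⁻¹ := by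
          rw [kq_eq hX hD hA, kq, yg]
          have e2 : (sigT (zc p r))⁻¹ = sigT (zc p r) := inv_eq_of_mul_eq_one_right (by
            have key : ∀ p r : Q4, sigT (zc p r) * sigT (zc p r) = 1 := by decide +kernel
            exact key p r)
          rw [e2, hpr]
          have := hA (zc q1 q0)
          rw [hs10] at this
          exact mul_inv_eq_iff_eq_mul.mp this
        rw [e]; exact sigma_conj_pair hX hD hA _
      · rw [show x₀ * c.yg q1 * c.ι w * (x₀ * c.yg q1)⁻¹ = x₀ * (c.yg q1 * c.ι w * (c.yg q1)⁻¹) * x₀⁻¹ by group,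
          yg, ← map_inv, ← map_mul, ← map_mul, hA, show zc q1 q0 * w * (zc q1 q0)⁻¹ = w from hc10 w]
      · refine (mul_inv_eq_iff_eq_mul.mp ?_).symm
        have hv : qo * c.yg q1 * qo⁻¹ = c.vg q1 := by rw [yg, hqoA, ht10]; rfl
        rw [show qo * (x₀ * c.yg q1) * qo⁻¹ = qo * x₀ * qo⁻¹ * (qo * c.yg q1 * qo⁻¹) by group, h, hv, mul_assoc]
        congr 1
        rw [zg, vg, yg, ← map_mul]
        exact congrArg c.ι (by decide +kernel)
  have hact : ∀ w, x₁ * qo * c.ι w * (x₁ * qo)⁻¹ = c.ι (th0 w) := fun w => by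
    rw [show x₁ * qo * c.ι w * (x₁ * qo)⁻¹ = x₁ * (qo * c.ι w * qo⁻¹) * x₁⁻¹ by group, hqoA, hx₁A,
      (th0_eq w).1]
  have hact' : ∀ w, x₁ * (qo * c.zg) * c.ι w * (x₁ * (qo * c.zg))⁻¹ = c.ι (th0 w) := fun w => by
    rw [← hact, ← mul_assoc, show x₁ * qo * c.zg * c.ι w * (x₁ * qo * c.zg)⁻¹ =
      x₁ * qo * (c.zg * c.ι w * c.zg⁻¹) * (x₁ * qo)⁻¹ by group, ← zg_comm_ι, mul_inv_cancel_right]
  refine ⟨⟨x₁, qo, hx₁, hqo, ⟨⟨prod_fus hx₁.1 hqo.1 hcomm hact wit_th0, ?_⟩, ?_⟩, hx₁A, hqoA, hcomm⟩⟩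
  · rw [mul_assoc, hqo.1.2, ← mul_assoc, hx₁.1.2, mul_assoc]
  · rw [mul_assoc]
    refine prod_fus hx₁.1 (pair_zg hqo).1 ?_ hact' wit_th0
    rw [← mul_assoc, hcomm, mul_assoc, hx₁.1.2, mul_assoc]

theorem qs_zg {q : G} (hq : q ∈ c.QS) : q * c.zg = c.zg * q := by
  induction hq using Subgroup.closure_induction with
  | mem x hx => exact hx.1.2
  | one => rw [one_mul, mul_one]
  | mul a b _ _ ha hb => rw [mul_assoc, hb, ← mul_assoc, ha, mul_assoc]
  | inv a _ ha =>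
    calc a⁻¹ * c.zg = a⁻¹ * (c.zg * a) * a⁻¹ := by group
      _ = _ := by rw [← ha]; group

theorem qs_fix {q : G} (hq : q ∈ c.QS) : q * c.zg * q⁻¹ = c.zg := by
  rw [qs_zg hq, mul_inv_cancel_right]

/-- The centraliser of `z` normalises the group of the pairs. -/
theorem qs_conj {n q : G} (hn : n * c.zg * n⁻¹ = c.zg) (hq : q ∈ c.QS) : n * q * n⁻¹ ∈ c.QS := by
  induction hq using Subgroup.closure_induction with
  | mem x hx => exact Subgroup.subset_closure (hx.conj hn)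
  | one => rw [mul_one, mul_inv_cancel]; exact one_mem _
  | mul a b _ _ ha hb => rw [show n * (a * b) * n⁻¹ = n * a * n⁻¹ * (n * b * n⁻¹) by group]; exact mul_mem ha hb
  | inv a _ ha => rw [show n * a⁻¹ * n⁻¹ = (n * a * n⁻¹)⁻¹ by group]; exact inv_mem ha

theorem qs_mz {q a : G} (hq : q ∈ c.QS) (ha : c.Pair a) : c.MZ a q := by
  induction hq using Subgroup.closure_induction generalizing a with
  | mem x hx => exact pairs_mz ha hx
  | one => exact Or.inl (by group)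
  | mul x y hx hy ihx ihy =>
    rcases ihx ha with h1 | h1 <;> rcases ihy ha with h2 | h2
    · exact Or.inl (by rw [show x * y * a * (x * y)⁻¹ = x * (y * a * y⁻¹) * x⁻¹ by group, h2, h1])
    · exact Or.inr (by
        rw [show x * y * a * (x * y)⁻¹ = x * (y * a * y⁻¹) * x⁻¹ by group, h2,
          show x * (a * c.zg) * x⁻¹ = x * a * x⁻¹ * (x * c.zg * x⁻¹) by group, h1, qs_fix hx])
    · exact Or.inr (by rw [show x * y * a * (x * y)⁻¹ = x * (y * a * y⁻¹) * x⁻¹ by group, h2, h1])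
    · exact Or.inl (by
        rw [show x * y * a * (x * y)⁻¹ = x * (y * a * y⁻¹) * x⁻¹ by group, h2,
          show x * (a * c.zg) * x⁻¹ = x * a * x⁻¹ * (x * c.zg * x⁻¹) by group, h1, qs_fix hx, mul_assoc, zg_sq,
          mul_one])
  | inv x hx ih =>
    rcases ih ha with h | h
    · left
      conv_lhs => rw [← h]
      group
    · right
      have e : x⁻¹ * a * x⁻¹⁻¹ * (x⁻¹ * c.zg * x) = a := by
        calc x⁻¹ * a * x⁻¹⁻¹ * (x⁻¹ * c.zg * x) = x⁻¹ * (a * c.zg) * x := by group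
          _ = x⁻¹ * (x * a * x⁻¹) * x := by rw [h]
          _ = a := by group
      rw [show x⁻¹ * c.zg * x = c.zg by
        have := qs_fix (inv_mem hx)
        rwa [inv_inv] at this] at e
      calc x⁻¹ * a * x⁻¹⁻¹ = x⁻¹ * a * x⁻¹⁻¹ * (c.zg * c.zg) := by rw [zg_sq, mul_one]
        _ = _ := by rw [← mul_assoc, e]

theorem qs_comm {p q : G} (hp : p ∈ c.QS) (hq : q ∈ c.QS) : q * p = p * q ∨ q * p = p * q * c.zg := by
  induction hp using Subgroup.closure_induction with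
  | mem x hx =>
    rcases qs_mz hq hx with h | h
    · exact Or.inl (mul_inv_eq_iff_eq_mul.mp h)
    · exact Or.inr (by rw [mul_inv_eq_iff_eq_mul.mp h, mul_assoc, ← qs_zg hq, ← mul_assoc])
  | one => exact Or.inl (by rw [one_mul, mul_one])
  | mul x y hx hy ihx ihy =>
    rcases ihx with h1 | h1 <;> rcases ihy with h2 | h2
    · exact Or.inl (by rw [← mul_assoc, h1, mul_assoc, h2, ← mul_assoc])
    · exact Or.inr (by rw [← mul_assoc, h1, mul_assoc, h2, ← mul_assoc, ← mul_assoc])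
    · refine Or.inr ?_
      rw [← mul_assoc, h1, mul_assoc (x * q), ← qs_zg hy, ← mul_assoc (x * q), mul_assoc x q, h2, ← mul_assoc]
    · refine Or.inl ?_
      rw [← mul_assoc, h1, mul_assoc (x * q), ← qs_zg hy, ← mul_assoc (x * q), mul_assoc x q, h2, ← mul_assoc,
        mul_assoc (x * (y * q)), zg_sq, mul_one, ← mul_assoc]
  | inv x hx ih =>
    rcases ih with h | h
    · exact Or.inl (by
        calc q * x⁻¹ = x⁻¹ * (x * q) * x⁻¹ := by group
          _ = _ := by rw [← h]; group)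
    · refine Or.inr ?_
      have hz : c.zg * x⁻¹ = x⁻¹ * c.zg := (qs_zg (inv_mem hx)).symm
      calc q * x⁻¹ = q * x⁻¹ * (c.zg * c.zg) := by rw [zg_sq, mul_one]
        _ = q * (c.zg * x⁻¹) * c.zg := by rw [hz]; group
        _ = x⁻¹ * (x * q * c.zg) * x⁻¹ * c.zg := by group
        _ = x⁻¹ * q * c.zg := by rw [← h]; group

theorem qs_sq {q : G} (hq : q ∈ c.QS) : q * q = 1 ∨ q * q = c.zg := by
  induction hq using Subgroup.closure_induction with
  | mem x hx => exact Or.inl hx.1.1.sq.1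
  | one => exact Or.inl (mul_one 1)
  | mul x y hx hy ihx ihy =>
    have hzy : c.zg * y = y * c.zg := (qs_zg hy).symm
    rcases qs_comm hx hy with h | h
    · rw [show x * y * (x * y) = x * (y * x) * y by group, h,
        show x * (x * y) * y = x * x * (y * y) by group]
      rcases ihx with e | e <;> rcases ihy with e' | e' <;> rw [e, e']
      exacts [Or.inl (one_mul 1), Or.inr (one_mul _), Or.inr (mul_one _), Or.inl zg_sq]
    · rw [show x * y * (x * y) = x * (y * x) * y by group, h,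
        show x * (x * y * c.zg) * y = x * x * y * (c.zg * y) by group, hzy,
        show x * x * y * (y * c.zg) = x * x * (y * y) * c.zg by group]
      rcases ihx with e | e <;> rcases ihy with e' | e' <;> rw [e, e']
      · exact Or.inr (by rw [one_mul, one_mul])
      · exact Or.inl (by rw [one_mul, zg_sq])
      · exact Or.inl (by rw [mul_one, zg_sq])
      · exact Or.inr (by rw [zg_sq, one_mul])
  | inv x hx ih =>
    rw [← mul_inv_rev]
    rcases ih with e | e <;> rw [e]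
    · exact Or.inl inv_one
    · exact Or.inr (inv_eq_of_mul_eq_one_right zg_sq)

theorem ι_mem_QS {u : TC} (hu : inU u = true) : c.ι u ∈ c.QS := by
  obtain ⟨b₁, b₂, b₃, b₄, b₅, rfl⟩ := inU_gens u hu
  have h : ∀ (b : Bool) (g : TC), g ∈ gensU → c.ι (bif b then g else 1) ∈ c.QS := fun b g hg => by
    cases b
    · rw [cond_false, map_one]; exact one_mem _
    · rw [cond_true]; exact Subgroup.subset_closure (pair_ι.mpr (gensU_pair g hg))
  simp only [map_mul]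
  exact mul_mem (mul_mem (mul_mem (mul_mem (h _ _ (by simp [gensU])) (h _ _ (by simp [gensU])))
    (h _ _ (by simp [gensU]))) (h _ _ (by simp [gensU]))) (h _ _ (by simp [gensU]))

theorem zg_mem_QS : c.zg ∈ c.QS := ι_mem_QS (by decide +kernel)

theorem code_sigma (B : Base c) : ∃ h : B.x₀ ∈ c.NT, c.code ⟨B.x₀, h⟩ = ⟨q1, q1, true, false⟩ := by
  have hv : B.x₀ * c.vg q1 = c.vg q1 * B.x₀ := by
    refine mul_inv_eq_iff_eq_mul.mp ?_
    rw [vg, B.hxA, sig_facts.2.1]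
  obtain ⟨h, -⟩ := frame_code (c := c) (j := q1) (by decide) B.hx.1.2 hv
  refine ⟨h, c.code_eq (n := ⟨B.x₀, h⟩) ⟨by decide, by decide, 1, fun w => ?_⟩⟩
  show B.x₀ * c.ι w * B.x₀⁻¹ = _
  rw [B.hxA, one_mul, inv_one, mul_one]
  rfl

theorem qs_vg_cases (B : Base c) {q : G} (hq : q ∈ c.QS) (hv : q * c.vg q1 = c.vg q1 * q) :
    ∃ u, inU u = true ∧ (q = c.ι u ∨ q = c.ι u * B.x₀) := by
  obtain ⟨hx0, hk0⟩ := code_sigma B
  have h4 : ∀ p ∈ c.QS, p ^ 2 ^ 2 = 1 := fun p hp => by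
    rw [pow_succ, pow_one, pow_mul, pow_two, pow_two]
    rcases qs_sq hp with e | e <;> rw [e]
    exacts [one_mul 1, zg_sq]
  obtain ⟨h, hp, hq1, -⟩ := frame_code (c := c) (j := q1) (by decide) (qs_zg hq) hv
  set k := c.code ⟨q, h⟩ with hk
  have hs : k.s = false := by
    by_contra hs
    obtain ⟨-, -, t, ht⟩ := c.code_spec ⟨q, h⟩
    have ha : (t * act k e₁ * t⁻¹).a = q1 := by
      rcases qs_mz hq (pair_ι.mpr tgt_facts.2.1) with e | e <;> rw [ht] at e
      · rw [c.inj e]; rfl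
      · rw [c.inj (e.trans (map_mul c.ι e₁ zz).symm)]; decide +kernel
    rw [(conj_ab _ _).1] at ha
    exact swap_moves k hp hq1 (Bool.eq_true_of_not_eq_false hs) ha
  have inner : ∀ (p : G) (hp' : p ∈ c.NT), p ∈ c.QS → (c.code ⟨p, hp'⟩).out = (false, false) →
      ∃ u, inU u = true ∧ p = c.ι u := by
    intro p hp' hpQ ho
    obtain ⟨u, hu⟩ := c.mem_TK (n := ⟨p, hp'⟩) (j := 2) (h4 p hpQ) ho
    set k := (c.ι u)⁻¹ * p with hkd
    have e : p = c.ι u * k := (mul_inv_cancel_left _ _).symm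
    clear_value k
    have hcomm : Commute (c.ι u) k := c.comm_K hu u
    have hk4 : k ^ 2 ^ 2 = 1 := by
      have h := h4 p hpQ
      rwa [e, hcomm.mul_pow, ← map_pow, pow_four, map_one, one_mul] at h
    obtain ⟨v, rfl⟩ := K_two hu hk4
    rw [vg, ← map_mul] at e
    refine ⟨u * zc q0 v, ?_, e⟩
    set w := u * zc q0 v
    rcases qs_mz hpQ B.hx with h | h <;> rw [e, kq_eq B.hx.1 (dx_of_inX B.hx.1) B.hxA] at h
    · have h' : kq w = 1 := c.inj (by rw [map_one]; exact mul_eq_right.mp h)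
      rw [kq, mul_inv_eq_one] at h'
      simp [inU, mzT, ← h']
    · rw [B.hx.1.2, zg] at h
      have h' : kq w = zz := c.inj (mul_right_cancel h)
      rw [kq, mul_inv_eq_iff_eq_mul] at h'
      have e' : sigT w = w * zz := by
        calc sigT w = zz * (zz * sigT w) := by
              rw [← mul_assoc, show zz * zz = (1 : TC) by decide +kernel, one_mul]
          _ = w * zz := by rw [← h', zz_comm]
      simp [inU, mzT, e']
  cases he : k.e
  · obtain ⟨u, hu, e⟩ := inner q h hq (Prod.ext he hs)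
    exact ⟨u, hu, Or.inl e⟩
  · have hqx : q * B.x₀ ∈ c.NT := mul_mem h hx0
    obtain ⟨u, hu, e⟩ := inner (q * B.x₀) hqx (mul_mem hq (Subgroup.subset_closure B.hx)) (by
      rw [show (⟨q * B.x₀, hqx⟩ : c.NT) = ⟨q, h⟩ * ⟨B.x₀, hx0⟩ from rfl, c.out_mul, hk0]
      show oadd (k.e, k.s) (true, false) = (false, false)
      rw [he, hs]
      rfl)
    refine ⟨u, hu, Or.inr ?_⟩
    rw [← e, mul_assoc, B.hx.1.1.sq.1, mul_one]

theorem qo_vg (B : Base c) : B.qo * c.vg q1 * B.qo⁻¹ = c.vg q1 * c.zg := by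
  rw [vg, B.hqA, tgt_facts.1, zg, ← map_mul]
  exact congrArg c.ι (by decide +kernel)

/-- The elements of the group of the pairs. -/
theorem qs_cases (B : Base c) {q : G} (hq : q ∈ c.QS) :
    ∃ u, inU u = true ∧ (q = c.ι u ∨ q = c.ι u * B.x₀ ∨ q = c.ι u * B.qo ∨ q = c.ι u * B.x₀ * B.qo) := by
  rcases qs_mz hq pair_vg with h | h
  · obtain ⟨u, hu, e | e⟩ := qs_vg_cases B hq (mul_inv_eq_iff_eq_mul.mp h)
    exacts [⟨u, hu, Or.inl e⟩, ⟨u, hu, Or.inr (Or.inl e)⟩]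
  · have hv : q * B.qo * c.vg q1 = c.vg q1 * (q * B.qo) := by
      refine mul_inv_eq_iff_eq_mul.mp ?_
      rw [show q * B.qo * c.vg q1 * (q * B.qo)⁻¹ = q * (B.qo * c.vg q1 * B.qo⁻¹) * q⁻¹ by group, qo_vg,
        show q * (c.vg q1 * c.zg) * q⁻¹ = q * c.vg q1 * q⁻¹ * (q * c.zg * q⁻¹) by group, h, qs_fix hq,
        mul_assoc, zg_sq, mul_one]
    have hqq : B.qo * B.qo = 1 := B.hq.1.1.sq.1
    obtain ⟨u, hu, e | e⟩ := qs_vg_cases B (mul_mem hq (Subgroup.subset_closure B.hq)) hv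
    · exact ⟨u, hu, Or.inr (Or.inr (Or.inl (by rw [← e, mul_assoc, hqq, mul_one])))⟩
    · exact ⟨u, hu, Or.inr (Or.inr (Or.inr (by rw [← e, mul_assoc, hqq, mul_one])))⟩

/-- Two commuting pairs with a common neighbour outside the pairs have a product which is not fused. -/
theorem mul_not_fus {a b w : G} (ha : c.Pair a) (hb : c.Pair b) (hab : a * b = b * a) (hne : a ≠ b)
    (hw : c.InX w) (hnw : ¬ c.Fus (w * c.zg)) (haw : a * w = w * a) (hbw : b * w = w * b) :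
    ¬ c.Fus (a * b) := by
  obtain ⟨n, j, hn, hj, e⟩ := exists_frame (gz_of_inX hw) hnw
  have hj0 : j ≠ q0 := by rcases hj with rfl | rfl <;> decide
  have inner : ∀ x, c.Pair x → x * w = w * x → ∃ p, pairT p = true ∧ n * x * n⁻¹ = c.ι p := by
    intro x hx hxw
    have hv : n * x * n⁻¹ * c.vg j = c.vg j * (n * x * n⁻¹) := by
      rw [← e, show n * x * n⁻¹ * (n * w * n⁻¹) = n * (x * w) * n⁻¹ by group, hxw]; group
    rcases y_cases hj0 (hx.1.conj hn) hv with ⟨p, hp⟩ | ⟨hj1, -⟩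
    · exact ⟨p, pair_ι.mp (hp ▸ hx.conj hn), hp⟩
    · rcases hj with rfl | rfl <;> exact absurd hj1 (by decide)
  obtain ⟨p, hp, ep⟩ := inner a ha haw
  obtain ⟨p', hp', ep'⟩ := inner b hb hbw
  have hpp : p * p' = p' * p := c.inj (by
    rw [map_mul, map_mul, ← ep, ← ep', show n * a * n⁻¹ * (n * b * n⁻¹) = n * (a * b) * n⁻¹ by group, hab]; group)
  have hne' : p ≠ p' := fun h => hne (by
    rw [h, ← ep'] at ep
    exact mul_left_cancel (mul_right_cancel ep))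
  intro hF
  have h := hF.conj n
  rw [show n * (a * b) * n⁻¹ = n * a * n⁻¹ * (n * b * n⁻¹) by group, ep, ep', ← map_mul, fus_iff,
    pair_prod p p' hp hp' hpp hne'] at h
  exact Bool.false_ne_true h

end Ctx

end CfsgLib.HeStd
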