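import Cfsg.Agent.Lib.HeStd.TopDec
import Cfsg.Agent.Lib.HeStd.QGroup
import Cfsg.Agent.Lib.HeStd.DTriv

/-!
# The coordinates of the group of the pairs in `G`
-/

set_option autoImplicit false
set_option linter.style.haveILetI false
set_option linter.unusedSectionVars false

namespace CfsgLib.HeStd

universe u

namespace Ctx

variable {G : Type u} [Group G] {c : Ctx G} [Finite G] [IsSimpleGroup G] (B : Base c)

/-- The product of the chosen outer generators. -/
def wq (e f : Bool) : G := (bif e then B.x₀ else 1) * (bif f then B.qo else 1)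

/-- The element with the given coordinates. -/
def qel (q : QE) : G := c.ι q.1 * wq B q.2.1 q.2.2

theorem qel_inner (t : TC) : qel B (t, false, false) = c.ι t := by simp [qel, wq]

theorem qel_semi (t : TC) : qel B (t, true, false) = c.ι t * B.x₀ := by simp [qel, wq]

theorem qel_one : qel B qone = 1 := by rw [qone, qel_inner, map_one]

theorem qel_qz : qel B qz = c.zg := qel_inner B zz

theorem wq_act (e f : Bool) (x : TC) : wq B e f * c.ι x * (wq B e f)⁻¹ = c.ι (actE e f x) := by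
  cases e <;> cases f <;> simp only [wq, actE, cond_true, cond_false, one_mul, mul_one, inv_one]
  · exact B.hqA x
  · exact B.hxA x
  · rw [← B.hxA, ← B.hqA]; group

theorem wq_mul (e f e' f' : Bool) : wq B e f * wq B e' f' = wq B (xor e e') (xor f f') := by
  have hpw : ∀ x : G, x * x = 1 → ∀ a b : Bool,
      (bif a then x else 1) * (bif b then x else 1) = bif (xor a b) then x else 1 := fun x hx a b => by
    cases a <;> cases b <;> simp [hx]
  have hcm : Commute (bif f then B.qo else 1) (bif e' then B.x₀ else 1) := by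
    cases f <;> cases e' <;> simp only [cond_true, cond_false]
    · exact Commute.one_left _
    · exact Commute.one_left _
    · exact Commute.one_right _
    · exact B.comm.symm
  rw [wq, wq, hcm.mul_mul_mul_comm, hpw _ B.hx.1.1.sq.1, hpw _ B.hq.1.1.sq.1]
  rfl

theorem qel_mul (a b : QE) : qel B (qm a b) = qel B a * qel B b := by
  simp only [qel, qm]
  rw [map_mul, ← wq_act B, ← wq_mul B]
  group

theorem qel_eq_one {a : QE} (h : qel B a = 1) : a = qone := by
  obtain ⟨u, e, f⟩ := a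
  obtain ⟨rfl, rfl⟩ := act_trivial u e f fun x _ => c.inj (by
    have h' : c.ι u * wq B e f = 1 := h
    rw [cjt, map_mul, map_mul, map_inv, ← wq_act B]
    calc c.ι u * (wq B e f * c.ι x * (wq B e f)⁻¹) * (c.ι u)⁻¹
        = (c.ι u * wq B e f) * c.ι x * (c.ι u * wq B e f)⁻¹ := by group
      _ = c.ι x := by rw [h']; group)
  rw [qel_inner] at h
  rw [c.inj (h.trans (map_one c.ι).symm)]
  rfl

theorem qel_inj : Function.Injective (qel B) := by
  rintro ⟨u, e, f⟩ ⟨u', e', f'⟩ h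
  have hw : wq B e' f' * wq B e' f' = 1 := by rw [wq_mul]; simp [wq]
  have h1 : qel B (u'⁻¹ * u, xor e e', xor f f') = 1 := by
    have h' : c.ι u * wq B e f = c.ι u' * wq B e' f' := h
    rw [qel, map_mul, map_inv, ← wq_mul]
    calc (c.ι u')⁻¹ * c.ι u * (wq B e f * wq B e' f')
        = (c.ι u')⁻¹ * (c.ι u * wq B e f) * wq B e' f' := by group
      _ = 1 := by rw [h', inv_mul_cancel_left, hw]
  have h2 := qel_eq_one B h1
  have key : ∀ a b : Bool, xor a b = false → a = b := by decide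
  simp only [qone, Prod.mk.injEq, inv_mul_eq_one] at h2
  obtain ⟨rfl, h3, h4⟩ := h2
  obtain rfl := key _ _ h3
  obtain rfl := key _ _ h4
  rfl

theorem inU_of_mem {a : QE} (ha : a ∈ allQ) : inU a.1 = true := by
  obtain ⟨u, hu, ha⟩ := List.mem_flatMap.mp ha
  simp only [List.mem_cons, List.not_mem_nil, or_false] at ha
  rcases ha with rfl | rfl | rfl | rfl <;> exact (List.mem_filter.mp hu).2

theorem qel_mem {a : QE} (ha : a ∈ allQ) : qel B a ∈ c.QS := by
  refine mul_mem (ι_mem_QS (inU_of_mem ha)) ?_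
  simp only [wq]
  refine mul_mem ?_ ?_
  · cases a.2.1
    exacts [one_mem _, Subgroup.subset_closure B.hx]
  · cases a.2.2
    exacts [one_mem _, Subgroup.subset_closure B.hq]

theorem exists_qel {q : G} (hq : q ∈ c.QS) : ∃ a ∈ allQ, qel B a = q := by
  obtain ⟨u, hu, e | e | e | e⟩ := qs_cases B hq
  · exact ⟨_, mem_allQ hu false false, (qel_inner B u).trans e.symm⟩
  · exact ⟨_, mem_allQ hu true false, (qel_semi B u).trans e.symm⟩
  · exact ⟨_, mem_allQ hu false true, by rw [e]; simp [qel, wq]⟩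
  · exact ⟨_, mem_allQ hu true true, by rw [e]; simp [qel, wq, mul_assoc]⟩

theorem card_QS : Nat.card c.QS = 128 := by
  classical
  obtain ⟨B⟩ := exists_base (c := c)
  let F : {a : QE // a ∈ allQ} → c.QS := fun a => ⟨qel B a, qel_mem B a.2⟩
  have hF : Function.Bijective F := ⟨fun a b h => Subtype.ext (qel_inj B (congrArg Subtype.val h)), fun q => by
    obtain ⟨a, ha, e⟩ := exists_qel B q.2
    exact ⟨⟨a, ha⟩, Subtype.ext e⟩⟩
  rw [← Nat.card_congr (Equiv.ofBijective F hF), ← allQ_length.1,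
    ← List.toFinset_card_of_nodup allQ_length.2, ← Nat.card_eq_finsetCard]
  exact Nat.card_congr (Equiv.subtypeEquivRight fun a => List.mem_toFinset.symm)

theorem conj_zg_of_comm {n : G} (h : n * c.zg = c.zg * n) : n * c.zg * n⁻¹ = c.zg := by
  rw [h, mul_inv_cancel_right]

theorem ι_fix (t : TC) : c.ι t * c.zg * (c.ι t)⁻¹ = c.zg := conj_zg_of_comm (zg_comm_ι t)

theorem qel_outer_conj (t x : TC) (e f : Bool) :
    qel B (t * x * (actE e f t)⁻¹, e, f) = c.ι t * (c.ι x * wq B e f) * (c.ι t)⁻¹ := by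
  simp only [qel]
  rw [map_mul, map_mul, map_inv, ← wq_act B]
  group

theorem pair_of_isPQ {a : QE} (h : isPQ a = true) : c.Pair (qel B a) := by
  obtain ⟨u, e, f⟩ := a
  have key : ∀ w : TC, w * (actE e f w)⁻¹ = u → c.Pair (wq B e f) → c.Pair (qel B (u, e, f)) := by
    intro w hw hp
    rw [show u = w * 1 * (actE e f w)⁻¹ by rw [mul_one, hw], qel_outer_conj, map_one, one_mul]
    exact hp.conj (ι_fix w)
  cases e <;> cases f
  · rw [qel_inner]; exact pair_ι.mpr h
  all_goals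
    simp only [isPQ, cond_true, cond_false, List.any_eq_true, decide_eq_true_eq] at h
    obtain ⟨w, -, hw⟩ := h
  · exact key w hw (by simpa [wq] using B.hq)
  · exact key w hw (by simpa [wq] using B.hx)
  · refine key w ?_ (by simpa [wq] using B.hxq)
    simpa [actE, (th0_eq w).1] using hw

theorem outer_nf {e f : Bool} (hP : c.Pair (wq B e f)) (hne : e = true ∨ f = true) {x y : TC} (hx : pairT x = true)
    (hy : fusT y = true) (hy' : fusT (y * zz) = false) (hxy : x * y = y * x) (hex : actE e f x = x)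
    (hey : actE e f y = y) (t : TC) : ¬ c.Fus (qel B (t * x * (actE e f t)⁻¹, e, f)) := by
  rw [qel_outer_conj, Fus.conj_iff]
  have hc : ∀ z, actE e f z = z → wq B e f * c.ι z = c.ι z * wq B e f := fun z hz =>
    mul_inv_eq_iff_eq_mul.mp ((wq_act B e f z).trans (congrArg c.ι hz))
  refine mul_not_fus (pair_ι.mpr hx) hP (hc x hex).symm (fun h => ?_) (ι_inX hy) ?_ ?_ (hc y hey)
  · have h2 : qel B (x, false, false) = qel B (1, e, f) := by
      rw [qel_inner, qel, map_one, one_mul]; exact h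
    have := qel_inj B h2
    simp only [Prod.mk.injEq] at this
    rcases hne with rfl | rfl <;> simp at this
  · rw [zg, ← map_mul, fus_iff, hy']; simp
  · rw [← map_mul, hxy, map_mul]

theorem la_nf {a : QE} (ha : a ∈ LA) : ¬ c.Fus (qel B a) := by
  obtain ⟨u, e⟩ := a
  rcases LA_cases _ ha with h | h <;> obtain rfl : e = _ := h
  · rw [qel_inner, fus_iff, LA_inner _ ha rfl]; simp
  · obtain ⟨t, ht⟩ := LA_outer _ ha rfl
    obtain ⟨h1, h2, h3, h4, h5⟩ := e1_facts
    have he : ∀ z, actE true true z = th0 z := fun z => (th0_eq z).1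
    have := outer_nf B (e := true) (f := true) (by simpa [wq] using B.hxq) (Or.inl rfl) tgt_facts.2.1 h3 h4 h5
      (by rw [he, h1]) (by rw [he, h2]) t
    rwa [he, ht] at this

theorem lb_nf {a : QE} (ha : a ∈ LB) : ¬ c.Fus (qel B a) := by
  obtain ⟨u, e⟩ := a
  rcases LB_cases _ ha with h | h <;> obtain rfl : e = _ := h
  · rw [qel_inner, fus_iff, LB_inner _ ha rfl]; simp
  · obtain ⟨t, ht⟩ := LB_outer _ ha rfl
    obtain ⟨h1, h2, h3, h4, h5⟩ := e3_facts
    have := outer_nf B (e := false) (f := true) (by simpa [wq] using B.hq) (Or.inr rfl) tgt_facts.2.2.1 h3 h4 h5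
      h1 h2 t
    rwa [show actE false true t = tgt t from rfl, ht] at this

theorem good_cases {a : QE} (ha : a ∈ allQ) (hsq : qm a a = qone) (hnf : ¬ c.Fus (qel B a)) :
    a ∈ LA ∨ a ∈ LB := by
  have h := List.all_eq_true.mp good_split a ha
  have hp : isPQ a = false := Bool.eq_false_iff.mpr fun h' => hnf (pair_of_isPQ B h').1.1
  simpa [hsq, hp] using h

theorem la_mem {a : QE} (ha : a ∈ LA) : qm a a = qone ∧ a ∈ allQ := by
  have h := List.all_eq_true.mp LA_closed.1 a ha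
  simp only [Bool.and_eq_true, decide_eq_true_eq] at h
  exact h.1

theorem lb_mem {a : QE} (ha : a ∈ LB) : qm a a = qone ∧ a ∈ allQ := by
  have h := List.all_eq_true.mp LB_closed.1 a ha
  simp only [Bool.and_eq_true, decide_eq_true_eq] at h
  exact h.1

theorem la_mul {a b : QE} (ha : a ∈ LA) (hb : b ∈ LA) : qm a b ∈ LA := by
  have h := List.all_eq_true.mp LA_closed.1 a ha
  simp only [Bool.and_eq_true, decide_eq_true_eq, List.all_eq_true] at h
  exact h.2 b hb

theorem lb_mul {a b : QE} (ha : a ∈ LB) (hb : b ∈ LB) : qm a b ∈ LB := by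
  have h := List.all_eq_true.mp LB_closed.1 a ha
  simp only [Bool.and_eq_true, decide_eq_true_eq, List.all_eq_true] at h
  exact h.2 b hb

theorem img_cases {n : G} (hn : n * c.zg * n⁻¹ = c.zg) {l : List QE}
    (hl : ∀ a ∈ l, qm a a = qone ∧ a ∈ allQ ∧ ¬ c.Fus (qel B a)) (hcl : ∀ a ∈ l, ∀ b ∈ l, qm a b ∈ l)
    (hcm : ∀ a ∈ l, ∀ b ∈ l, qm a b = qm b a) :
    (∀ a ∈ l, ∃ a' ∈ LA, n * qel B a * n⁻¹ = qel B a') ∨ ∀ a ∈ l, ∃ a' ∈ LB, n * qel B a * n⁻¹ = qel B a' := by
  have key : ∀ a ∈ l, ∃ a', (a' ∈ LA ∨ a' ∈ LB) ∧ n * qel B a * n⁻¹ = qel B a' ∧ isPQ a' = false := by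
    intro a ha
    obtain ⟨h2, hQ, hnf⟩ := hl a ha
    obtain ⟨a', ha', e⟩ := exists_qel B (qs_conj hn (qel_mem B hQ))
    have hnf' : ¬ c.Fus (qel B a') := by rwa [e, Fus.conj_iff]
    refine ⟨a', good_cases B ha' (qel_inj B ?_) hnf', e.symm,
      Bool.eq_false_iff.mpr fun h => hnf' (pair_of_isPQ B h).1.1⟩
    rw [qel_mul, e, qel_one, show n * qel B a * n⁻¹ * (n * qel B a * n⁻¹) = n * (qel B a * qel B a) * n⁻¹ by group,
      ← qel_mul, h2, qel_one]
    group
  refine or_iff_not_imp_left.mpr fun hA b hb => ?_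
  push Not at hA
  obtain ⟨a, ha, hA⟩ := hA
  obtain ⟨a', ha', ea, -⟩ := key a ha
  obtain ⟨b', hb', eb, -⟩ := key b hb
  have haB : a' ∈ LB := ha'.resolve_left fun h => hA a' h ea
  by_contra hB
  have hbA : b' ∈ LA := hb'.resolve_right fun h => hB ⟨b', h, eb⟩
  obtain ⟨c', -, ec, hpc⟩ := key _ (hcl b hb a ha)
  have e1 : qel B c' = qel B (qm b' a') := by
    rw [← ec, qel_mul, qel_mul, ← eb, ← ea]; group
  have e2 : qm b' a' = qm a' b' := qel_inj B (by
    rw [qel_mul, qel_mul, ← eb, ← ea,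
      show n * qel B b * n⁻¹ * (n * qel B a * n⁻¹) = n * (qel B b * qel B a) * n⁻¹ by group,
      ← qel_mul, hcm b hb a ha, qel_mul]
    group)
  rw [qel_inj B e1] at hpc
  have h := List.all_eq_true.mp cross_bad b' hbA
  simp only [Bool.or_eq_true, decide_eq_true_eq, List.all_eq_true] at h
  have hne1 : b' ≠ qone ∧ b' ≠ qz := by
    constructor <;> rintro rfl
    exacts [hB ⟨_, LB_closed.2.2, eb⟩, hB ⟨_, LB_closed.2.1, eb⟩]
  have hne2 : a' ≠ qone ∧ a' ≠ qz := by
    constructor <;> rintro rfl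
    exacts [hA _ LA_closed.2.2.2.2 ea, hA _ LA_closed.2.2.2.1 ea]
  rcases h with (h | h) | h
  · exact hne1.1 h
  · exact hne1.2 h
  · rcases h a' haB with (h | h) | h
    · exact hne2.1 h
    · exact hne2.2 h
    · simp [compatQ, e2] at h
      rw [← e2, hpc] at h
      exact Bool.false_ne_true h

theorem la_ok {a : QE} (ha : a ∈ LA) : qm a a = qone ∧ a ∈ allQ ∧ ¬ c.Fus (qel B a) :=
  ⟨(la_mem ha).1, (la_mem ha).2, la_nf B ha⟩

theorem lb_ok {a : QE} (ha : a ∈ LB) : qm a a = qone ∧ a ∈ allQ ∧ ¬ c.Fus (qel B a) :=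
  ⟨(lb_mem ha).1, (lb_mem ha).2, lb_nf B ha⟩

/-- The first fused-free subgroup. -/
def LAg : Subgroup G where
  carrier := {g | ∃ a ∈ LA, qel B a = g}
  one_mem' := ⟨qone, LA_closed.2.2.2.2, qel_one B⟩
  mul_mem' := by
    rintro x y ⟨a, ha, rfl⟩ ⟨b, hb, rfl⟩
    exact ⟨qm a b, la_mul ha hb, qel_mul B a b⟩
  inv_mem' := by
    rintro x ⟨a, ha, rfl⟩
    refine ⟨a, ha, (inv_eq_of_mul_eq_one_right ?_).symm⟩
    rw [← qel_mul, (la_mem ha).1, qel_one]

theorem mem_LAg {g : G} : g ∈ LAg B ↔ ∃ a ∈ LA, qel B a = g := Iff.rfl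

theorem card_LAg : Nat.card (LAg B) = 16 := by
  classical
  let F : {a : QE // a ∈ LA} → LAg B := fun a => ⟨qel B a, a.1, a.2, rfl⟩
  have hF : Function.Bijective F := ⟨fun a b h => Subtype.ext (qel_inj B (congrArg Subtype.val h)),
    fun ⟨g, a, ha, e⟩ => ⟨⟨a, ha⟩, Subtype.ext e⟩⟩
  rw [← Nat.card_congr (Equiv.ofBijective F hF), ← LA_closed.2.2.1, ← List.toFinset_card_of_nodup LA_closed.2.1,
    ← Nat.card_eq_finsetCard]
  exact Nat.card_congr (Equiv.subtypeEquivRight fun a => List.mem_toFinset.symm)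

/-- The elements fixing `z` and normalising the first fused-free subgroup. -/
def NA : Subgroup G := Subgroup.centralizer ({c.zg} : Set G) ⊓ Subgroup.normalizer (LAg B : Set G)

theorem mem_cent {n : G} : n ∈ Subgroup.centralizer ({c.zg} : Set G) ↔ n * c.zg = c.zg * n :=
  Subgroup.mem_centralizer_singleton_iff

theorem na_fix {n : G} (h : n ∈ NA B) : n * c.zg * n⁻¹ = c.zg := conj_zg_of_comm (mem_cent.mp h.1)

theorem na_of_lw {n : G} (hn : n * c.zg * n⁻¹ = c.zg)
    (h : ∃ a ∈ LA, a ∉ LB ∧ n * qel B lw * n⁻¹ = qel B a) : n ∈ NA B := by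
  obtain ⟨a, ha, hab, ea⟩ := h
  have hsub : ∀ g ∈ LAg B, n * g * n⁻¹ ∈ LAg B := by
    rintro g ⟨b, hb, rfl⟩
    rcases img_cases B hn (fun a ha => la_ok B ha) (fun a ha b hb => la_mul ha hb) comm_L.1 with h | h
    · obtain ⟨b', hb', e⟩ := h b hb
      exact ⟨b', hb', e.symm⟩
    · obtain ⟨a', ha', e⟩ := h lw lw_facts.1
      rw [qel_inj B (ea.symm.trans e)] at hab
      exact absurd ha' hab
  refine ⟨mem_cent.mpr (mul_inv_eq_iff_eq_mul.mp hn), Subgroup.mem_normalizer_iff.mpr fun g => ⟨hsub g, fun hg => ?_⟩⟩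
  have heq : (LAg B).map (MulAut.conj n).toMonoidHom = LAg B := by
    refine Subgroup.eq_of_le_of_card_ge (Subgroup.map_le_iff_le_comap.mpr fun g hg => hsub g hg) ?_
    rw [← Nat.card_congr ((LAg B).equivMapOfInjective _ (MulAut.conj n).injective).toEquiv]
  rw [← heq] at hg
  obtain ⟨g', hg', e⟩ := hg
  have : g' = g := mul_left_cancel (mul_right_cancel e)
  exact this ▸ hg'

theorem ι_mem_NA (t : TC) : c.ι t ∈ NA B := by
  refine na_of_lw B (ι_fix t) ⟨lw, lw_facts.1, lw_facts.2.1, ?_⟩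
  rw [lw, qel_inner, ← map_mul, zc_comm, map_mul, mul_inv_cancel_right]

theorem x₀_mem_NA : B.x₀ ∈ NA B := by
  refine na_of_lw B (conj_zg_of_comm B.hx.1.2) ⟨_, lw_facts.2.2.1, lw_facts.2.2.2.1, ?_⟩
  rw [lw, qel_inner, B.hxA, lw_facts.2.2.2.2.1, qel_inner]

theorem qo_mem_NA : B.qo ∈ NA B := by
  refine na_of_lw B (conj_zg_of_comm B.hq.1.2) ⟨_, lw_facts.2.2.1, lw_facts.2.2.2.1, ?_⟩
  rw [lw, qel_inner, B.hqA, lw_facts.2.2.2.2.2.1, qel_inner]

theorem movA_mem_NA {f : TC → TC} (hf : f ∈ movesA) (hz : f zz = zz) {n : G} (hm : c.MovA n f) : n ∈ NA B := by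
  have h := moves_lw
  simp only [Bool.and_eq_true, List.all_eq_true, Bool.or_eq_true, Bool.not_eq_true', decide_eq_false_iff_not,
    decide_eq_true_eq] at h
  obtain ⟨h1, h2⟩ := (h.1 f hf).resolve_left fun h' => h' hz
  refine na_of_lw B (by rw [zg, (hm zz rfl).2, hz]) ⟨_, h1, h2, ?_⟩
  rw [lw, qel_inner, (hm _ lw_facts.2.2.2.2.2.2.2).2, qel_inner]

theorem movB_mem_NA {f : TC → TC} (hf : f ∈ movesB) (hz : f zz = zz) {n : G} (hm : c.MovB n f) : n ∈ NA B := by
  have h := moves_lw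
  simp only [Bool.and_eq_true, List.all_eq_true, Bool.or_eq_true, Bool.not_eq_true', decide_eq_false_iff_not,
    decide_eq_true_eq] at h
  obtain ⟨h1, h2⟩ := (h.2 f hf).resolve_left fun h' => h' hz
  refine na_of_lw B (by rw [zg, (hm zz rfl).2, hz]) ⟨_, h1, h2, ?_⟩
  rw [lw, qel_inner, (hm _ lw_facts.2.2.2.2.2.2.1).2, qel_inner]

/-- The pairs reached from `vg q1` inside `NA`. -/
def InO (x : G) : Prop := ∃ k ∈ NA B, k * c.vg q1 * k⁻¹ = x

theorem InO.conj {x : G} (h : InO B x) {k : G} (hk : k ∈ NA B) : InO B (k * x * k⁻¹) := by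
  obtain ⟨k', hk', rfl⟩ := h
  exact ⟨k * k', mul_mem hk hk', by group⟩

theorem InO.of_conj {x k : G} (hk : k ∈ NA B) (h : InO B (k * x * k⁻¹)) : InO B x := by
  have := h.conj B (inv_mem hk)
  rwa [show k⁻¹ * (k * x * k⁻¹) * k⁻¹⁻¹ = x by group] at this

theorem inO_vg : InO B (c.vg q1) := ⟨1, one_mem _, by group⟩

theorem inO_pairT {t : TC} (ht : pairT t = true) : InO B (c.ι t) := by
  have h := List.all_eq_true.mp moves_pair t (mem_allTC t)
  simp only [ht, Bool.not_true, Bool.false_or, Bool.or_eq_true, Bool.and_eq_true, List.any_eq_true,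
    decide_eq_true_eq] at h
  rcases h with ⟨hb, f, hf, hfz, hft⟩ | ⟨hb, f, hf, hfz, hft⟩
  · obtain ⟨n, hm⟩ := exists_movA (c := c) hf
    refine InO.of_conj B (movA_mem_NA B hf hfz hm) ?_
    rw [(hm t hb).2, hft]
    exact inO_vg B
  · obtain ⟨n, hm⟩ := exists_movB (c := c) hf
    refine InO.of_conj B (movB_mem_NA B hf hfz hm) ?_
    rw [(hm t hb).2, hft]
    exact inO_vg B

theorem inO_x₀ : InO B B.x₀ := by
  obtain ⟨hz2, hz1, hfv, hfw, hte1, hte2, -, -, -, hb1, -⟩ := f_facts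
  obtain ⟨n₁, hn₁⟩ := exists_movA (c := c) f_mem.1
  obtain ⟨n₂, hn₂⟩ := exists_movB (c := c) f_mem.2
  have hn1A := movA_mem_NA B f_mem.1 hz1 hn₁
  have hn2A := movB_mem_NA B f_mem.2 hz2 hn₂
  have he1 : n₁ * c.vg q1 * n₁⁻¹ = c.ι e₁ := by rw [vg, (hn₁ _ rfl).2, hfv]
  have he2 : n₁ * c.vg qw * n₁⁻¹ = c.ι e₂ := by rw [vg, (hn₁ _ rfl).2, hfw]
  set q := n₂ * c.ι e₁ * n₂⁻¹ with hqdef
  have hqO : InO B q := (inO_pairT B tgt_facts.2.1).conj B hn2A
  have hqP : c.Pair q := (pair_ι.mpr tgt_facts.2.1).conj (na_fix B hn2A)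
  have hqA : ∀ x, x.a = q0 → q * c.ι x * q⁻¹ = c.ι (tgt x) := by
    intro x hx
    obtain ⟨y, hy, rfl⟩ := f2_surj x hx
    rw [← (hn₂ y hy).2, ← q_action y hy, ← (hn₂ (cjt e₁ y) ((conj_ab e₁ y).1.trans hy)).2, hqdef, cjt,
      map_mul, map_mul, map_inv]
    group
  obtain ⟨⟨u, e, f⟩, ha, hq⟩ := exists_qel B (Subgroup.subset_closure hqP : q ∈ c.QS)
  have hA : ∀ x, x.a = q0 → cjt u (actE e f x) = tgt x := fun x hx => c.inj (by
    rw [← hqA x hx, cjt, map_mul, map_mul, map_inv, ← wq_act B, ← hq, qel]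
    group)
  obtain rfl : f = true := by
    cases f
    · exfalso
      have h := hA (zc q0 q1) rfl
      have key : ∀ u : TC, ∀ e : Bool, cjt u (actE e false (zc q0 q1)) ≠ tgt (zc q0 q1) := by decide +kernel
      exact key u e h
    · rfl
  have hne : decide (((u, e, true) : QE) ∈ LB) = false := decide_eq_false fun h => lb_nf B h (hq ▸ hqP.1.1)
  obtain ⟨rfl, t, ht⟩ := q_orbit u (inU_of_mem ha) e (qel_inj B (by
    rw [qel_mul, qel_one, hq, hqP.1.1.sq.1])) (fun x hx => hA x (by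
      simp only [List.mem_cons, List.not_mem_nil, or_false] at hx
      rcases hx with rfl | rfl <;> rfl)) hne
  have hqo : InO B B.qo := by
    refine InO.of_conj B (ι_mem_NA B t) ?_
    have e' := qel_outer_conj B t 1 false true
    rw [map_one, one_mul, mul_one, show actE false true t = tgt t from rfl, ht, hq] at e'
    rw [show c.ι t * B.qo * (c.ι t)⁻¹ = q by rw [e']; simp [wq]]
    exact hqO
  set y := n₁⁻¹ * B.qo * n₁ with hy
  have hn1i := inv_mem hn1A
  have hyP : c.Pair y := by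
    have := B.hq.conj (na_fix B hn1i)
    rwa [inv_inv] at this
  have hyv : y * c.vg q1 = c.vg q1 * y := by
    have h2 : B.qo * c.ι e₁ = c.ι e₁ * B.qo :=
      mul_inv_eq_iff_eq_mul.mp ((B.hqA e₁).trans (congrArg c.ι hte1))
    rw [← he1] at h2
    calc y * c.vg q1 = n₁⁻¹ * (B.qo * (n₁ * c.vg q1 * n₁⁻¹)) * n₁ := by rw [hy]; group
      _ = _ := by rw [h2, hy]; group
  rcases pair_nbr B.hx.1 (dx_of_inX B.hx.1) B.hxA hyP hyv with ⟨s, -, hs⟩ | ⟨w, hw⟩
  · exfalso
    refine hte2 (c.inj ?_)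
    have h2 : y * c.vg qw = c.vg qw * y := by rw [hs]; exact c.vg_comm_ι qw s
    rw [← B.hqA, ← he2]
    calc B.qo * (n₁ * c.vg qw * n₁⁻¹) * B.qo⁻¹ = n₁ * (y * c.vg qw * y⁻¹) * n₁⁻¹ := by rw [hy]; group
      _ = _ := by rw [h2, mul_inv_cancel_right]
  · refine InO.of_conj B (ι_mem_NA B w) ?_
    rw [← hw, hy]
    have := hqo.conj B hn1i
    rwa [inv_inv] at this

theorem inO_all {x : G} (hx : c.Pair x) : InO B x := by
  have h := pconn_all (c := c) pair_vg hx
  clear hx
  induction h with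
  | refl => exact inO_vg B
  | @tail a b _ hab ih =>
    obtain ⟨k, hk, rfl⟩ := ih
    have hki := inv_mem hk
    have hP : c.Pair (k⁻¹ * b * k) := by
      have := hab.2.1.conj (na_fix B hki)
      rwa [inv_inv] at this
    have hv : k⁻¹ * b * k * c.vg q1 = c.vg q1 * (k⁻¹ * b * k) := by
      calc k⁻¹ * b * k * c.vg q1 = k⁻¹ * (b * (k * c.vg q1 * k⁻¹)) * k := by group
        _ = k⁻¹ * ((k * c.vg q1 * k⁻¹) * b) * k := by rw [hab.2.2]
        _ = _ := by group
    have hO : InO B (k⁻¹ * b * k) := by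
      rcases pair_nbr B.hx.1 (dx_of_inX B.hx.1) B.hxA hP hv with ⟨s, hs, e⟩ | ⟨w, e⟩ <;> rw [e]
      · exact inO_pairT B hs
      · exact (inO_x₀ B).conj B (ι_mem_NA B w)
    have := hO.conj B hk
    rwa [show k * (k⁻¹ * b * k) * k⁻¹ = b by group] at this

/-- An element fixing `z` and `vg q1` lies in the Sylow subgroup extended by the semilinear generator. -/
theorem stab_v1 (hgam : ∀ (x : G) (hx : x ∈ c.N), x * x = 1 → (c.eps ⟨x, hx⟩).2 = false) {g : G}
    (hz : g * c.zg = c.zg * g) (hv : g * c.vg q1 = c.vg q1 * g) :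
    ∃ (t : TC) (e : Bool), g = qel B (t, e, false) := by
  obtain ⟨hx0, hk0⟩ := code_sigma B
  have hxv : B.x₀ * c.vg q1 = c.vg q1 * B.x₀ := by
    refine mul_inv_eq_iff_eq_mul.mp ?_
    rw [vg, B.hxA, sig_facts.2.1]
  have inner : ∀ p : G, ∀ hp : p ∈ c.NT, p * c.zg = c.zg * p → p * c.vg q1 = c.vg q1 * p →
      (c.code ⟨p, hp⟩).e = false → ∃ t, p = c.ι t := by
    intro p hp hpz hpv he
    obtain ⟨h, hkp, hkq, -⟩ := frame_code (c := c) (j := q1) (by decide) hpz hpv
    obtain ⟨-, -, t, ht⟩ := c.code_spec ⟨p, hp⟩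
    set k := c.code ⟨p, hp⟩
    set p' := (c.ι t)⁻¹ * p with hp'
    have hp'N : p' ∈ c.N := c.N.mul_mem (c.N.inv_mem (c.ι_mem_N t)) hp.1
    have hact : ∀ x, p' * c.ι x * p'⁻¹ = c.ι (act k x) := fun x => by
      have h := ht x
      rw [map_mul, map_mul, map_inv] at h
      calc p' * c.ι x * p'⁻¹ = (c.ι t)⁻¹ * (p * c.ι x * p⁻¹) * c.ι t := by rw [hp']; group
        _ = _ := by rw [h]; group
    cases hs : k.s
    · have key : ∀ k : AK, k.p = q1 → k.q = q1 → k.e = false → k.s = false → ∀ x, act k x = x := by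
        decide +kernel
      obtain ⟨cc, hcc⟩ := c.kernel hp'N fun x =>
        mul_inv_eq_iff_eq_mul.mp ((hact x).trans (congrArg c.ι (key k hkp hkq he hs x)))
      obtain ⟨v, hv'⟩ := K_eq_V hgam hcc
      refine ⟨t * (zc cc q0)⁻¹ * zc q0 v, ?_⟩
      rw [map_mul, map_mul, map_inv, ← vg, ← hv', hp']
      group
    · exfalso
      have key : ∀ k : AK, k.p = q1 → k.q = q1 → k.e = false → k.s = true → ∀ x, act k x = gam x := by
        decide +kernel
      have hgm : ∀ x, p' * c.ι x * p'⁻¹ = c.ι (gam x) := fun x => by rw [hact, key k hkp hkq he hs]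
      have hgg : ∀ x, gam (gam x) = x := by decide +kernel
      obtain ⟨cc, hcc⟩ := exact_comm_h hp'N hgm
      have hsqT : ∀ x, p' * p' * c.ι x = c.ι x * (p' * p') := fun x => mul_inv_eq_iff_eq_mul.mp (by
        rw [show p' * p' * c.ι x * (p' * p')⁻¹ = p' * (p' * c.ι x * p'⁻¹) * p'⁻¹ by group, hgm, hgm, hgg])
      obtain ⟨c0, hc0⟩ := c.kernel (c.N.mul_mem hp'N hp'N) hsqT
      obtain ⟨v0, hv0⟩ := K_eq_V hgam hc0
      have hsq : p' * p' = c.ι (zc c0 v0) := by
        rw [vg] at hv0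
        rw [eq_inv_mul_iff_mul_eq.mpr hv0, ← map_inv, ← map_mul]
        exact congrArg c.ι (by
          have key2 : ∀ a b : Q4, (zc a q0)⁻¹ * zc q0 b = zc a b := by decide +kernel
          exact key2 c0 v0)
      have hh : c.ι (tor (zc c0 v0)) = c.ι (zc c0 v0) := by
        rw [← conj_h]
        refine mul_inv_eq_iff_eq_mul.mpr ?_
        rw [← hsq]
        refine (mul_inv_eq_iff_eq_mul.mp ?_).symm
        rw [show p' * p' * (c.d.h : G) * (p' * p')⁻¹ = p' * (p' * (c.d.h : G) * p'⁻¹) * p'⁻¹ by group, hcc,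
          show p' * ((c.d.h : G) * c.ι (zc cc q0)) * p'⁻¹ =
            p' * (c.d.h : G) * p'⁻¹ * (p' * c.ι (zc cc q0) * p'⁻¹) by group, hcc, hgm, mul_assoc, ← map_mul]
        have key2 : ∀ a : Q4, zc a q0 * gam (zc a q0) = 1 := by decide +kernel
        rw [key2, map_one, mul_one]
      have hfix : gam (zc c0 v0) = zc c0 v0 := c.inj (by rw [← hgm, ← hsq]; group)
      have key3 : ∀ a b : Q4, tor (zc a b) = zc a b → gam (zc a b) = zc a b →
          ∃ w : Q4, zc a b * zc q0 w * gam (zc q0 w) = 1 := by decide +kernel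
      obtain ⟨w, hw⟩ := key3 c0 v0 (c.inj hh) hfix
      set r := p' * c.ι (zc q0 w) with hr
      have hrr : r * r = 1 := by
        rw [hr, show p' * c.ι (zc q0 w) * (p' * c.ι (zc q0 w)) =
          (p' * c.ι (zc q0 w) * p'⁻¹) * (p' * p') * c.ι (zc q0 w) by group, hgm, hsq, ← map_mul, ← map_mul,
          ← map_one c.ι]
        refine congrArg c.ι ?_
        have key4 : ∀ a b w : Q4, gam (zc q0 w) * zc a b * zc q0 w = zc a b * zc q0 w * gam (zc q0 w) := by
          decide +kernel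
        rw [key4, hw]
      have hrNT : r ∈ c.NT :=
        c.NT.mul_mem (c.NT.mul_mem (c.NT.inv_mem (c.ι_mem_NT t)) hp) (c.ι_mem_NT _)
      have hcode : c.code ⟨r, hrNT⟩ = ⟨q1, q1, false, true⟩ := by
        refine c.code_eq (n := ⟨r, hrNT⟩) ⟨by decide, by decide, 1, fun x => ?_⟩
        show r * c.ι x * r⁻¹ = _
        rw [one_mul, inv_one, mul_one, hr,
          show p' * c.ι (zc q0 w) * c.ι x * (p' * c.ι (zc q0 w))⁻¹ =
            p' * (c.ι (zc q0 w) * c.ι x * (c.ι (zc q0 w))⁻¹) * p'⁻¹ by group,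
          ← map_mul, ← map_inv, ← map_mul, ← zc_comm, mul_inv_cancel_right, hgm]
        refine congrArg c.ι ?_
        have key5 : ∀ x, act ⟨q1, q1, false, true⟩ x = gam x := by decide +kernel
        rw [key5]
      have h2 := hgam r hrNT.1 hrr
      rw [c.eps_NT hrNT, hcode] at h2
      exact Bool.noConfusion h2
  obtain ⟨h, -⟩ := frame_code (c := c) (j := q1) (by decide) hz hv
  cases he : (c.code ⟨g, h⟩).e
  · obtain ⟨t, rfl⟩ := inner g h hz hv he
    exact ⟨t, false, (qel_inner B t).symm⟩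
  · have hgx : g * B.x₀ ∈ c.NT := mul_mem h hx0
    obtain ⟨t, ht⟩ := inner (g * B.x₀) hgx (by rw [mul_assoc, B.hx.1.2, ← mul_assoc, hz, mul_assoc])
      (by rw [mul_assoc, hxv, ← mul_assoc, hv, mul_assoc]) (by
        have := congrArg Prod.fst (c.out_mul ⟨g, h⟩ ⟨B.x₀, hx0⟩)
        rw [hk0] at this
        exact this.trans (by show xor _ true = false; rw [show ((c.code ⟨g, h⟩).out).1 = true from he]; rfl))
    refine ⟨t, true, ?_⟩
    rw [qel_semi, ← ht, mul_assoc, B.hx.1.1.sq.1, mul_one]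

/-- The centraliser of `z` normalises the first fused-free subgroup. -/
theorem cent_le_NA (hgam : ∀ (x : G) (hx : x ∈ c.N), x * x = 1 → (c.eps ⟨x, hx⟩).2 = false) {n : G}
    (hn : n * c.zg = c.zg * n) : n ∈ NA B := by
  obtain ⟨k, hk, e⟩ := inO_all B (pair_vg.conj (conj_zg_of_comm hn))
  set g := k⁻¹ * n with hg
  have hgv : g * c.vg q1 = c.vg q1 * g := by
    calc g * c.vg q1 = k⁻¹ * (n * c.vg q1 * n⁻¹) * n := by rw [hg]; group
      _ = _ := by rw [← e, hg]; group
  have hgz : g * c.zg = c.zg * g :=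
    mem_cent.mp (mul_mem (inv_mem hk.1) (mem_cent.mpr hn))
  obtain ⟨t, e', he'⟩ := stab_v1 B hgam hgz hgv
  have hgA : g ∈ NA B := by
    rw [he']
    cases e'
    · rw [qel_inner]; exact ι_mem_NA B t
    · rw [qel_semi]; exact mul_mem (ι_mem_NA B t) (x₀_mem_NA B)
  have := mul_mem hk hgA
  rwa [hg, mul_inv_cancel_left] at this

theorem qs_moves {q g : G} (hq : q ∈ c.QS) (hg : g ∈ LAg B) : q * g * q⁻¹ = g ∨ q * g * q⁻¹ = g * c.zg := by
  obtain ⟨a, ha, rfl⟩ := hg
  rcases qs_comm (qel_mem B (la_mem ha).2) hq with h | h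
  · left; rw [h, mul_inv_cancel_right]
  · right
    rw [h, mul_assoc (qel B a), qs_zg hq, ← mul_assoc, mul_inv_cancel_right]

/-- The kernel of the action on the first fused-free subgroup modulo `z`. -/
theorem kernel_LAg (hgam : ∀ (x : G) (hx : x ∈ c.N), x * x = 1 → (c.eps ⟨x, hx⟩).2 = false) {n : G}
    (hn : n * c.zg = c.zg * n) (h : ∀ g ∈ LAg B, n * g * n⁻¹ = g ∨ n * g * n⁻¹ = g * c.zg) : n ∈ c.QS := by
  have hfix := conj_zg_of_comm hn
  have hA : ∀ a ∈ LA, ∃ a' ∈ LA, n * qel B a * n⁻¹ = qel B a' := fun a ha => by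
    rcases h _ ⟨a, ha, rfl⟩ with e | e
    · exact ⟨a, ha, e⟩
    · exact ⟨qm a qz, la_mul ha LA_closed.2.2.2.1, by rw [e, qel_mul, qel_qz]⟩
  have hB : ∀ b ∈ LB, ∃ b' ∈ LB, n * qel B b * n⁻¹ = qel B b' := by
    rcases img_cases B hfix (fun a ha => lb_ok B ha) (fun a ha b hb => lb_mul ha hb) comm_L.2 with hh | hh
    · exfalso
      have hsub : ∀ g : G, n * g * n⁻¹ ∈ LAg B → g ∈ LAg B := fun g hg =>
        (Subgroup.mem_normalizer_iff.mp (cent_le_NA B hgam hn).2 g).mpr hg
      obtain ⟨b, hbB, hbA⟩ : ∃ b ∈ LB, b ∉ LA := by decide +kernel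
      obtain ⟨b', hb', e⟩ := hh b hbB
      obtain ⟨a, ha, e'⟩ := hsub _ ⟨b', hb', e.symm⟩
      exact hbA (qel_inj B e' ▸ ha)
    · exact hh
  have htriv : ∀ b ∈ LB, n * qel B b * n⁻¹ = qel B b ∨ n * qel B b * n⁻¹ = qel B b * c.zg := by
    intro b hb
    obtain ⟨b', hb', e⟩ := hB b hb
    have hcm : ∀ a ∈ LA, qm b a = qm a b ↔ qm b' a = qm a b' := by
      intro a ha
      have t1 : ∀ x y : QE, qm x y = qm y x ↔ Commute (qel B x) (qel B y) := fun x y =>
        ⟨fun hxy => by rw [Commute, SemiconjBy, ← qel_mul, hxy, qel_mul],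
          fun hxy => qel_inj B (by rw [qel_mul, qel_mul]; exact hxy)⟩
      rw [t1, t1, ← e]
      have hzc : Commute (n * qel B b * n⁻¹) c.zg := by rw [e]; exact qs_zg (qel_mem B (lb_mem hb').2)
      have hconj : Commute (n * qel B b * n⁻¹) (n * qel B a * n⁻¹) ↔ Commute (qel B b) (qel B a) :=
        Commute.conj_iff n
      rw [← hconj]
      rcases h _ ⟨a, ha, rfl⟩ with e2 | e2 <;> rw [e2]
      exact ⟨fun hh => by simpa [mul_assoc, zg_sq] using hh.mul_right hzc, fun hh => hh.mul_right hzc⟩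
    have hh := List.all_eq_true.mp (List.all_eq_true.mp LB_pairing b hb) b' hb'
    have hall : (LA.all fun a => decide (qm b a = qm a b) == decide (qm b' a = qm a b')) = true :=
      List.all_eq_true.mpr fun a ha => by rw [beq_iff_eq, decide_eq_decide]; exact hcm a ha
    simp only [hall, Bool.not_true, Bool.false_or, Bool.or_eq_true, decide_eq_true_eq] at hh
    rcases hh with rfl | rfl
    · exact Or.inl e
    · exact Or.inr (by rw [e, qel_mul, qel_qz])
  obtain ⟨a, ha, b, hb, hab⟩ := vg_split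
  have hv : c.vg q1 = qel B a * qel B b := by rw [← qel_mul, hab, qel_inner]; rfl
  have hconj : n * c.vg q1 * n⁻¹ = c.vg q1 ∨ n * c.vg q1 * n⁻¹ = c.vg q1 * c.zg := by
    have hz1 : c.zg * qel B b = qel B b * c.zg := (qs_zg (qel_mem B (lb_mem hb).2)).symm
    rw [hv, show n * (qel B a * qel B b) * n⁻¹ = (n * qel B a * n⁻¹) * (n * qel B b * n⁻¹) by group]
    rcases h _ ⟨a, ha, rfl⟩ with e1 | e1 <;> rcases htriv b hb with e2 | e2 <;> rw [e1, e2]
    · exact Or.inl rfl
    · exact Or.inr (mul_assoc _ _ _).symm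
    · exact Or.inr (by rw [mul_assoc, hz1, ← mul_assoc])
    · exact Or.inl (by rw [mul_assoc, ← mul_assoc c.zg, hz1, mul_assoc (qel B b), zg_sq, mul_one])
  have finish : ∀ m : G, m * c.zg = c.zg * m → m * c.vg q1 = c.vg q1 * m →
      (∀ g ∈ LAg B, m * g * m⁻¹ = g ∨ m * g * m⁻¹ = g * c.zg) → m ∈ c.QS := by
    intro m hmz hmv hm
    obtain ⟨t, e, rfl⟩ := stab_v1 B hgam hmz hmv
    refine qel_mem B (mem_allQ ?_ e false)
    have hh := List.all_eq_true.mp (List.all_eq_true.mp stab_kernel t (mem_allTC t)) e (by cases e <;> simp)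
    have hall : (LA.all fun a => decide (qm (t, e, false) a = qm a (t, e, false)) ||
        decide (qm (t, e, false) a = qm (qm qz a) (t, e, false))) = true :=
      List.all_eq_true.mpr fun a ha => by
        rw [Bool.or_eq_true, decide_eq_true_eq, decide_eq_true_eq]
        rcases hm _ ⟨a, ha, rfl⟩ with e1 | e1
        · exact Or.inl (qel_inj B (by rw [qel_mul, qel_mul]; exact mul_inv_eq_iff_eq_mul.mp e1))
        · refine Or.inr (qel_inj B ?_)
          rw [qel_mul, qel_mul, qel_mul, qel_qz, ← qs_zg (qel_mem B (la_mem ha).2)]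
          exact mul_inv_eq_iff_eq_mul.mp e1
    simpa [hall] using hh
  rcases hconj with e | e
  · exact finish n hn (mul_inv_eq_iff_eq_mul.mp e) h
  · have hq : B.qo ∈ c.QS := Subgroup.subset_closure B.hq
    have hm := finish (n * B.qo) (by rw [mul_assoc, qs_zg hq, ← mul_assoc, hn, mul_assoc]) (by
        refine mul_inv_eq_iff_eq_mul.mp ?_
        rw [show n * B.qo * c.vg q1 * (n * B.qo)⁻¹ = n * (B.qo * c.vg q1 * B.qo⁻¹) * n⁻¹ by group, qo_vg,
          show n * (c.vg q1 * c.zg) * n⁻¹ = n * c.vg q1 * n⁻¹ * (n * c.zg * n⁻¹) by group, e, hfix,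
          mul_assoc, zg_sq, mul_one]) (fun g hg => by
        rw [show n * B.qo * g * (n * B.qo)⁻¹ = n * (B.qo * g * B.qo⁻¹) * n⁻¹ by group]
        rcases qs_moves B hq hg with e1 | e1 <;> rw [e1]
        · exact h g hg
        · rw [show n * (g * c.zg) * n⁻¹ = n * g * n⁻¹ * (n * c.zg * n⁻¹) by group, hfix]
          rcases h g hg with e2 | e2 <;> rw [e2]
          · exact Or.inr rfl
          · exact Or.inl (by rw [mul_assoc, zg_sq, mul_one]))
    have := mul_mem hm (inv_mem hq)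
    rwa [mul_inv_cancel_right] at this

theorem center_QS {q : G} (hq : q ∈ c.QS) (h : ∀ p ∈ c.QS, q * p = p * q) : q = 1 ∨ q = c.zg := by
  obtain ⟨B⟩ := exists_base (c := c)
  obtain ⟨m, hm, rfl⟩ := exists_qel B hq
  have hh := List.all_eq_true.mp center_Q m hm
  have hall : (allQ.all fun a => decide (qm m a = qm a m)) = true := List.all_eq_true.mpr fun a ha => by
    rw [decide_eq_true_eq]
    exact qel_inj B (by rw [qel_mul, qel_mul]; exact h _ (qel_mem B ha))
  simp only [hall, Bool.not_true, Bool.false_or, Bool.or_eq_true, decide_eq_true_eq] at hh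
  rcases hh with rfl | rfl
  exacts [Or.inl (qel_one B), Or.inr (qel_qz B)]

/-- At least `22 * 512` elements centralise `z`. -/
theorem card_cent_ge : 11264 ≤ Nat.card (Subgroup.centralizer ({c.zg} : Set G)) := by
  classical
  obtain ⟨B⟩ := exists_base (c := c)
  set l := allQ.filter fun q => !q.2.2 && isPQ q
  have hk : ∀ a : {a : QE // a ∈ l}, ∃ k ∈ NA B, k * c.vg q1 * k⁻¹ = qel B a := fun a =>
    inO_all B (pair_of_isPQ B (by
      have := (List.mem_filter.mp a.2).2
      rw [Bool.and_eq_true] at this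
      exact this.2))
  choose k hk he using hk
  have hst : ∀ (t : TC) (e : Bool), qel B (t, e, false) * c.vg q1 * (qel B (t, e, false))⁻¹ = c.vg q1 ∧
      qel B (t, e, false) ∈ Subgroup.centralizer ({c.zg} : Set G) := by
    intro t e
    have hs : qel B (t, e, false) ∈ NA B := by
      cases e
      · rw [qel_inner]; exact ι_mem_NA B t
      · rw [qel_semi]; exact mul_mem (ι_mem_NA B t) (x₀_mem_NA B)
    refine ⟨?_, hs.1⟩
    rw [vg, qel, show c.ι t * wq B e false * c.ι (zc q0 q1) * (c.ι t * wq B e false)⁻¹ =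
      c.ι t * (wq B e false * c.ι (zc q0 q1) * (wq B e false)⁻¹) * (c.ι t)⁻¹ by group, wq_act,
      ← map_inv, ← map_mul, ← map_mul]
    refine congrArg c.ι ?_
    rw [show actE e false (zc q0 q1) = zc q0 q1 by cases e <;> decide +kernel, zc_comm, mul_inv_cancel_right]
  let F : {a : QE // a ∈ l} × TC × Bool → Subgroup.centralizer ({c.zg} : Set G) := fun p =>
    ⟨k p.1 * qel B (p.2.1, p.2.2, false), mul_mem (hk p.1).1 (hst p.2.1 p.2.2).2⟩
  have hF : Function.Injective F := by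
    rintro ⟨a, t, e⟩ ⟨a', t', e'⟩ h
    have h' : k a * qel B (t, e, false) = k a' * qel B (t', e', false) := congrArg Subtype.val h
    have hv : ∀ (a : {a : QE // a ∈ l}) (t : TC) (e : Bool),
        k a * qel B (t, e, false) * c.vg q1 * (k a * qel B (t, e, false))⁻¹ = qel B a := fun a t e => by
      rw [show k a * qel B (t, e, false) * c.vg q1 * (k a * qel B (t, e, false))⁻¹ =
        k a * (qel B (t, e, false) * c.vg q1 * (qel B (t, e, false))⁻¹) * (k a)⁻¹ by group, (hst t e).1, he]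
    obtain rfl : a = a' := Subtype.ext (qel_inj B (by rw [← hv a t e, ← hv a' t' e', h']))
    have h2 := qel_inj B (mul_left_cancel h')
    simp only [Prod.mk.injEq, and_true] at h2
    rw [h2.1, h2.2]
  have hcard := Nat.card_le_card_of_injective F hF
  have hl : 22 ≤ Nat.card {a : QE // a ∈ l} := by
    have hnd : l.Nodup := allQ_length.2.filter _
    rw [Nat.card_congr (Equiv.subtypeEquivRight fun a => List.mem_toFinset.symm), Nat.card_eq_finsetCard,
      List.toFinset_card_of_nodup hnd]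
    exact pair_count
  rw [Nat.card_prod, Nat.card_prod, card_TC, Nat.card_eq_fintype_card (α := Bool), Fintype.card_bool] at hcard
  omega

end Ctx

end CfsgLib.HeStd
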