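import Cfsg.Agent.Lib.HeStd.Odd
import Cfsg.Agent.Lib.HeStd.SigmaDec

/-!
# A fused outer involution of semilinear type; the odd part is common to all of `X`
-/

set_option autoImplicit false
set_option linter.style.haveILetI false
set_option linter.unusedSectionVars false

namespace CfsgLib.HeStd

universe u

namespace Ctx

variable {G : Type u} [Group G] {c : Ctx G} [Finite G] [IsSimpleGroup G]

theorem map_eq_of_gens {n : G} {φ : TC →* TC}
    (h : ∀ e ∈ [e₁, e₂, e₃, e₄], n * c.ι e * n⁻¹ = c.ι (φ e)) (x : TC) : n * c.ι x * n⁻¹ = c.ι (φ x) :=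
  DFunLike.congr_fun (hom_ext (φ := (MulAut.conj n).toMonoidHom.comp c.ι) (ψ := c.ι.comp φ)
    (h e₁ (by simp)) (h e₂ (by simp)) (h e₃ (by simp)) (h e₄ (by simp))) x

/-- An involution of `N` conjugate to `z` is inner. -/
theorem zg_conj_inner {w h : G} (hw : w ∈ c.N) (hh : h * c.zg * h⁻¹ = w) :
    c.eps ⟨w, hw⟩ = (false, false) := by
  have hww : w * w = 1 := by
    rw [← hh, show h * c.zg * h⁻¹ * (h * c.zg * h⁻¹) = h * (c.zg * c.zg) * h⁻¹ by group, zg_sq]; group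
  have hwi : w⁻¹ = w := inv_eq_of_mul_eq_one_right hww
  choose f hf using fun i => c.conj_vg hw i
  have hff : ∀ i, f (f i) = i := fun i => by
    have h1 := hf (f i)
    rw [← hf i, show w * (w * c.vg i * w⁻¹) * w⁻¹ = (w * w) * c.vg i * (w * w)⁻¹ by group, hww, one_mul,
      inv_one, mul_one] at h1
    exact (congrArg TC.v (c.inj h1)).symm
  have hne : ∀ i, i ≠ q0 → f i ≠ q0 := fun i hi e => hi (by
    have h1 := hf i
    rw [e, show c.vg q0 = 1 from map_one c.ι, conj_eq_one_iff, show (1 : G) = c.vg q0 from (map_one c.ι).symm] at h1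
    exact congrArg TC.v (c.inj h1))
  have hinj : Function.Injective f := Function.Involutive.injective hff
  have hfun : ∀ i, i ≠ q0 → f i = (bif decide (i = q1) then f q1 else bif decide (i = qw) then f qw else
      bif decide (i = qv) then f qv else q0) := fun i hi => by
    rcases q_cases i hi with rfl | rfl | rfl <;> rfl
  obtain ⟨i, hi, hfi⟩ : ∃ i, i ≠ q0 ∧ f i = i := by
    have h1 : q1 ≠ q0 := by decide
    have hw0 : qw ≠ q0 := by decide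
    have hv0 : qv ≠ q0 := by decide
    rcases perm_fixed (f q1) (f qw) (f qv) (hne _ h1) (hne _ hw0) (hne _ hv0)
      (fun e => absurd (hinj e) (by decide)) (fun e => absurd (hinj e) (by decide))
      (fun e => absurd (hinj e) (by decide))
      (by dsimp only; rw [← hfun _ (hne _ h1), hff]) (by dsimp only; rw [← hfun _ (hne _ hw0), hff])
      (by dsimp only; rw [← hfun _ (hne _ hv0), hff]) with e | e | e
    exacts [⟨q1, h1, e⟩, ⟨qw, hw0, e⟩, ⟨qv, hv0, e⟩]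
  have hcomm : w * c.vg i = c.vg i * w := by
    have h1 := hf i
    rw [hfi] at h1
    exact mul_inv_eq_iff_eq_mul.mp h1
  have hrX : c.InX (h⁻¹ * c.vg i * h) := by
    refine ⟨by simpa using (fus_vg (c := c) hi).conj h⁻¹, ?_⟩
    calc h⁻¹ * c.vg i * h * c.zg = h⁻¹ * (c.vg i * (h * c.zg * h⁻¹)) * h := by group
      _ = h⁻¹ * ((h * c.zg * h⁻¹) * c.vg i) * h := by rw [hh, hcomm]
      _ = _ := by group
  obtain ⟨m, hm, i', hi', hmi⟩ := gz_of_inX hrX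
  have hconj : h * m⁻¹ * c.vg i' * (h * m⁻¹)⁻¹ = c.vg i := by rw [← hmi]; group
  have hN : h * m⁻¹ ∈ c.N :=
    c.mem_N_of_conj (c.vg_mem_K i') (vg_invol hi') (hconj ▸ c.vg_mem_K i)
  have e : (⟨w, hw⟩ : c.N) = ⟨_, hN⟩ * ⟨c.zg, zg_mem_N⟩ * ⟨_, hN⟩⁻¹ := Subtype.ext (by
    show w = h * m⁻¹ * c.zg * (h * m⁻¹)⁻¹
    rw [show h * m⁻¹ * c.zg * (h * m⁻¹)⁻¹ = h * (m⁻¹ * c.zg * m⁻¹⁻¹) * h⁻¹ by group, zg_conj_inv hm, hh])
  rw [e, eps_conj]
  exact c.eps_L (n := ⟨c.zg, zg_mem_N⟩) (c.ι_mem_L zz)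

/-- The neighbours of a member of `V`. -/
theorem y_cases {j : Q4} (hj : j ≠ q0) {y : G} (hy : c.InX y) (hv : y * c.vg j = c.vg j * y) :
    (∃ u, y = c.ι u) ∨ (j = q1 ∧ ∃ h : y ∈ c.NT, c.code ⟨y, h⟩ = ⟨q1, q1, true, false⟩) := by
  obtain ⟨h, hp, hq, ho⟩ := frame_code hj hy.2 hv
  have hns : (c.code ⟨y, h⟩).out.2 = false := by
    by_contra hs
    refine not_fus_swap h.1 ?_ hy.1
    rw [c.eps_NT h]
    exact Bool.eq_true_of_not_eq_false hs
  rcases ho with ho | ho | ⟨hj1, ho | ho⟩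
  · exact Or.inl (invol_inner h hy.1.sq.1 ho)
  · rw [ho] at hns; exact absurd hns (by decide)
  · exact Or.inr ⟨hj1, h, AK.ext hp hq (congrArg Prod.fst ho) (congrArg Prod.snd ho)⟩
  · rw [ho] at hns; exact absurd hns (by decide)

/-- The product of two commuting members of `X`. -/
theorem mul_cases {x y : G} (hx : c.InX x) (hy : c.InX y) (hxy : x * y = y * x) (hne : x * y ≠ 1) :
    (c.Fus (x * y) ∧ (c.DX x → c.DX y → c.DX (x * y))) ∨ ∃ h, h * c.zg * h⁻¹ = x * y := by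
  obtain ⟨n, hn, j, hj, e⟩ := gz_of_inX hx
  have hy' : c.InX (n * y * n⁻¹) := hy.conj hn
  have hv : n * y * n⁻¹ * c.vg j = c.vg j * (n * y * n⁻¹) := by
    rw [← e, show n * y * n⁻¹ * (n * x * n⁻¹) = n * (y * x) * n⁻¹ by group, ← hxy]; group
  have ep : n * (x * y) * n⁻¹ = c.vg j * (n * y * n⁻¹) := by rw [← e]; group
  rcases y_cases hj hy' hv with ⟨u, hu⟩ | ⟨hj1, h, hk⟩
  · rw [hu, vg, ← map_mul] at ep
    cases hb : fusT (zc q0 j * u)
    · refine Or.inr ?_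
      have hsq : zc q0 j * u * (zc q0 j * u) = 1 := c.inj (by
        rw [map_mul, ← ep, show n * (x * y) * n⁻¹ * (n * (x * y) * n⁻¹) = n * ((x * y) * (x * y)) * n⁻¹ by group,
          show x * y * (x * y) = x * (y * x) * y by group, ← hxy,
          show x * (x * y) * y = (x * x) * (y * y) by group, hx.1.sq.1, hy.1.sq.1, map_one]
        group)
      have h1 : zc q0 j * u ≠ 1 := fun e' => hne (by
        rw [e', map_one, conj_eq_one_iff] at ep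
        exact ep)
      obtain ⟨m, -, hm⟩ := inner_to_z (c := c) hsq h1 hb
      refine ⟨(m * n)⁻¹, ?_⟩
      rw [← hm, ← ep]; group
    · refine Or.inl ⟨(Fus.conj_iff n).mp (ep ▸ fus_iff.mpr hb), fun hdx _ => ?_⟩
      have hnD : n ∈ c.DStab := hdx.frame e
      have := (dx_ι (c := c) hb).conj (inv_mem hnD)
      rw [← ep] at this
      rwa [show n⁻¹ * (n * (x * y) * n⁻¹) * n⁻¹⁻¹ = x * y by group] at this
  · set y' := n * y * n⁻¹ with hy'def
    subst hj1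
    obtain ⟨hp, hq, t, ht⟩ := c.code_spec ⟨y', h⟩
    rw [hk] at ht hp hq
    obtain ⟨m, hm⟩ := semilinear_hit ⟨q1, q1, true, false⟩ hp hq rfl q1 (by decide +kernel)
    have hmv : y' * c.vg m * y'⁻¹ = c.vg (fV ⟨q1, q1, true, false⟩ m) := c.code_vg ⟨hp, hq, t, ht⟩ m
    have e3 : c.vg m * (c.vg q1 * y') * (c.vg m)⁻¹ = y' := by
      calc c.vg m * (c.vg q1 * y') * (c.vg m)⁻¹
          = c.vg m * c.vg q1 * (y' * (c.vg m)⁻¹ * y'⁻¹) * y' := by group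
        _ = c.vg m * c.vg q1 * (c.vg (fV ⟨q1, q1, true, false⟩ m))⁻¹ * y' := by rw [← hmv]; group
        _ = y' := by
          rw [vg, vg, vg, ← map_inv, ← map_mul, ← map_mul,
            show (zc q0 (fV (⟨q1, q1, true, false⟩ : AK) m))⁻¹ = zc q0 (fV ⟨q1, q1, true, false⟩ m) from
              inv_eq_of_mul_eq_one_right (by rw [zc_mul, qadd_self, qadd_self]; rfl), zc_mul, zc_mul]
          have key : ∀ a b d : Q4, qadd b a = d → qadd (qadd a d) b = q0 := by decide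
          rw [key _ _ _ hm, qadd_self, qadd_self, show zc q0 q0 = (1 : TC) from rfl, map_one, one_mul]
    have exy : x * y = (c.vg m * n)⁻¹ * y' * (c.vg m * n) := by
      rw [← e3, ← ep]; group
    refine Or.inl ⟨?_, fun hdx hdy => ?_⟩
    · rw [exy, show (c.vg m * n)⁻¹ * y' * (c.vg m * n) = (c.vg m * n)⁻¹ * y' * (c.vg m * n)⁻¹⁻¹ by group,
        Fus.conj_iff, hy'def, Fus.conj_iff]
      exact hy.1
    · have hnD : n ∈ c.DStab := hdx.frame e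
      have := (hdy.conj hnD).conj (inv_mem (mul_mem (N_le_DStab (c.vg_mem_N m)) hnD))
      rw [inv_inv] at this
      rw [exy]
      exact this

/-- A fused involution acting as the semilinear map. -/
theorem exists_sigma : ∃ x₀, c.InX x₀ ∧ c.DX x₀ ∧ ∀ w, x₀ * c.ι w * x₀⁻¹ = c.ι (sigT w) := by
  obtain ⟨hz2, hz1, hf1v, hf1w, hte1, hte2, htz, he1, -, he1b, he2b⟩ := f_facts
  obtain ⟨n₂, hn₂D, hn₂⟩ := exists_movB_D (c := c) f_mem.2
  obtain ⟨n₁, hn₁D, hn₁⟩ := exists_movA_D (c := c) f_mem.1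
  set q := n₂ * c.ι e₁ * n₂⁻¹ with hqdef
  have hn2z : n₂ * c.zg * n₂⁻¹ = c.zg := by rw [zg, (hn₂ zz rfl).2, hz2]
  have hqA : ∀ x, x.a = q0 → q * c.ι x * q⁻¹ = c.ι (tgt x) := by
    intro x hx
    obtain ⟨y, hy, rfl⟩ := f2_surj x hx
    rw [← (hn₂ y hy).2, ← q_action y hy, ← (hn₂ (cjt e₁ y) ((conj_ab e₁ y).1.trans hy)).2, hqdef, cjt,
      map_mul, map_mul, map_inv]
    group
  have hqX : c.InX q := (show c.InX (c.ι e₁) from ⟨fus_iff.mpr he1, by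
    rw [zg, ← map_mul, ← map_mul, zz_comm]⟩).conj hn2z
  have hqD : c.DX q := (dx_ι he1).conj hn₂D
  have hqq : q * q = 1 := hqX.1.sq.1
  have hqi : q⁻¹ = q := inv_eq_of_mul_eq_one_right hqq
  have hT := conj_mem_T (c := c) (m := q) fun p v => by
    obtain ⟨p', v', e⟩ := tgt_zc p v
    refine ⟨p', v', ?_⟩
    rw [← e, ← hqA _ rfl]
    conv_lhs => rw [hqi]
    rw [hqi]
  obtain ⟨k, hkp, hkq, t, hk⟩ := swap_model hT fun p => by
    obtain ⟨v, e⟩ := tgt_Y p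
    exact ⟨v, by rw [yg, hqA _ rfl, e]; rfl⟩
  have htw : ∀ x, t * th0 (act k x) * t⁻¹ = cjt ⟨t.a, t.b, q0, q0⟩ (th0 (act k x)) := fun x => conj_twist _ _
  obtain ⟨rfl, hta⟩ := q_shape k hkp hkq _ (mem_twists t.a t.b) fun e he => by
    rw [← htw]
    refine c.inj ?_
    rw [← hk, hqA]
    simp only [List.mem_cons, List.not_mem_nil, or_false] at he
    rcases he with rfl | rfl | rfl | rfl | rfl | rfl <;> rfl
  set b := t.b
  rw [hta] at htw
  set s : TC := ⟨q0, b, q0, q0⟩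
  have hq' : ∀ x, q * c.ι x * q⁻¹ = c.ι (cjt s (tgt x)) := fun x => by rw [hk, htw]; rfl
  obtain ⟨hs1, hs2, hsF⟩ := qo_facts b
  set qo := q * c.ι s with hqo
  have hqoA : ∀ x, qo * c.ι x * qo⁻¹ = c.ι (tgt x) := fun x => by
    calc qo * c.ι x * qo⁻¹ = q * (c.ι s * c.ι x * (c.ι s)⁻¹) * q⁻¹ := by rw [hqo]; group
      _ = c.ι (tgt x) := by rw [← map_inv, ← map_mul, ← map_mul, hq']; exact congrArg c.ι (qo_action b x)
  have hsq : q * c.ι s = c.ι s * q := by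
    have := hq' s
    rw [hs1] at this
    exact mul_inv_eq_iff_eq_mul.mp this
  have hcases : (c.Fus qo ∧ c.DX qo) ∨ ∃ h, h * c.zg * h⁻¹ = qo := by
    by_cases hb : b = q0
    · refine Or.inl ?_
      have e : qo = q := by
        rw [hqo, show s = 1 from TC.ext rfl hb rfl rfl, map_one, mul_one]
      rw [e]; exact ⟨hqX.1, hqD⟩
    · have hsX : c.InX (c.ι s) := ⟨fus_iff.mpr (hsF hb), by rw [zg, ← map_mul, ← map_mul, zz_comm]⟩
      have hne : q * c.ι s ≠ 1 := fun e => tgt_vg fun v => c.inj (by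
        rw [← hqoA, hqo, e, one_mul, inv_one, mul_one])
      rcases mul_cases hqX hsX hsq hne with ⟨hF, hD⟩ | h
      · exact Or.inl ⟨hF, hD hqD (dx_ι (hsF hb))⟩
      · exact Or.inr h
  have hqoz : qo * c.zg = c.zg * qo := by
    have := hqoA zz
    rw [htz] at this
    exact mul_inv_eq_iff_eq_mul.mp this
  have hqo2 : qo * qo = 1 := by
    calc qo * qo = q * (c.ι s * q) * c.ι s := by rw [hqo]; group
      _ = (q * q) * c.ι (s * s) := by rw [← hsq, map_mul]; group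
      _ = 1 := by rw [hqq, hs2, map_one, mul_one]
  have hn1z : n₁ * c.zg * n₁⁻¹ = c.zg := by rw [zg, (hn₁ zz rfl).2, hz1]
  have hn1z' : n₁⁻¹ * c.zg * n₁ = c.zg := by simpa using zg_conj_inv hn1z
  set x := n₁⁻¹ * qo * n₁ with hxdef
  have hxz : x * c.zg = c.zg * x := by
    calc x * c.zg = n₁⁻¹ * (qo * (n₁ * c.zg * n₁⁻¹)) * n₁ := by rw [hxdef]; group
      _ = n₁⁻¹ * ((n₁ * c.zg * n₁⁻¹) * qo) * n₁ := by rw [hn1z, hqoz]
      _ = _ := by rw [hxdef]; group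
  have ev : ∀ v w, f1 (zc q0 v) = w → n₁ * c.vg v * n₁⁻¹ = c.ι w := fun v w e => by
    rw [vg, (hn₁ _ rfl).2, e]
  have hxv : x * c.vg q1 = c.vg q1 * x := by
    have h1 := mul_inv_eq_iff_eq_mul.mp ((hqoA e₁).trans (congrArg c.ι hte1))
    calc x * c.vg q1 = n₁⁻¹ * (qo * (n₁ * c.vg q1 * n₁⁻¹)) * n₁ := by rw [hxdef]; group
      _ = n₁⁻¹ * ((n₁ * c.vg q1 * n₁⁻¹) * qo) * n₁ := by rw [ev q1 e₁ hf1v, h1]
      _ = _ := by rw [hxdef]; group
  have hxx : x * x = 1 := by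
    rw [hxdef, show n₁⁻¹ * qo * n₁ * (n₁⁻¹ * qo * n₁) = n₁⁻¹ * (qo * qo) * n₁ by group, hqo2]; group
  obtain ⟨hx, hp, hqq', ho⟩ := frame_code (c := c) (j := q1) (by decide) hxz hxv
  have hinner : (c.code ⟨x, hx⟩).out ≠ (false, false) := fun ho => by
    obtain ⟨u, hu⟩ := invol_inner hx hxx ho
    refine hte2 (c.inj ?_)
    rw [← hqoA, ← ev qw e₂ hf1w]
    have h1 := c.vg_comm_ι qw u
    rw [← hu] at h1
    calc qo * (n₁ * c.vg qw * n₁⁻¹) * qo⁻¹ = n₁ * (x * c.vg qw * x⁻¹) * n₁⁻¹ := by rw [hxdef]; group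
      _ = _ := by rw [h1, mul_inv_cancel_right]
  obtain ⟨hF, hD⟩ := hcases.resolve_right fun ⟨h, hh⟩ => hinner (by
    rw [← c.eps_NT hx]
    exact zg_conj_inner (h := n₁⁻¹ * h) hx.1 (by rw [hxdef, ← hh]; group))
  have hxX : c.InX x := ⟨by simpa [hxdef] using hF.conj n₁⁻¹, hxz⟩
  have hxD : c.DX x := by simpa [hxdef] using hD.conj (inv_mem hn₁D)
  rcases y_cases (by decide) hxX hxv with ⟨u, hu⟩ | ⟨-, h, hk'⟩
  · refine absurd ?_ hinner
    rw [show (⟨x, hx⟩ : c.NT) = ⟨c.ι u, c.ι_mem_NT u⟩ from Subtype.ext hu]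
    exact c.code_ι u
  obtain ⟨-, -, t', ht'⟩ := c.code_spec ⟨x, h⟩
  rw [hk'] at ht'
  have hy' : ∀ w, x * c.ι w * x⁻¹ = c.ι (cjt ⟨t'.a, t'.b, q0, q0⟩ (sigT w)) := fun w => by
    rw [ht', conj_twist]; rfl
  obtain ⟨s', -, hs'⟩ := sig_split ⟨t'.a, t'.b, q0, q0⟩ (mem_twists _ _) fun e _ => c.inj (by
    rw [show act ⟨q1, q1, true, false⟩ e = sigT e from rfl,
      show ∀ z, act ⟨q1, q1, true, false⟩ z = sigT z from fun z => rfl, ← hy', ← hy',
      show x * (x * c.ι e * x⁻¹) * x⁻¹ = (x * x) * c.ι e * (x * x)⁻¹ by group, hxx]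
    group)
  refine ⟨c.ι s' * x * (c.ι s')⁻¹, hxX.conj ?_, hxD.conj (N_le_DStab (c.ι_mem_N s')),
    map_eq_of_gens (φ := actH ⟨q1, q1, true, false⟩) fun e he => ?_⟩
  · rw [zg, ← map_inv, ← map_mul, ← map_mul]
    exact congrArg c.ι (conj_central s' q1 q1)
  · calc c.ι s' * x * (c.ι s')⁻¹ * c.ι e * (c.ι s' * x * (c.ι s')⁻¹)⁻¹
        = c.ι s' * (x * ((c.ι s')⁻¹ * c.ι e * c.ι s') * x⁻¹) * (c.ι s')⁻¹ := by group
      _ = c.ι s' * (x * c.ι (cjt s'⁻¹ e) * x⁻¹) * (c.ι s')⁻¹ := by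
          rw [cjt, inv_inv, map_mul, map_mul, map_inv]
      _ = c.ι (cjt s' (cjt ⟨t'.a, t'.b, q0, q0⟩ (sigT (cjt s'⁻¹ e)))) := by
          rw [hy']; simp only [cjt, map_mul, map_inv]
      _ = c.ι (actH ⟨q1, q1, true, false⟩ e) := congrArg c.ι (hs' e he)

variable {x₀ : G}

/-- All involutions of semilinear type are conjugate. -/
theorem sig_class (hD : c.DX x₀) (hA : ∀ w, x₀ * c.ι w * x₀⁻¹ = c.ι (sigT w)) {y : G} (hy : y ∈ c.NT)
    (hk : c.code ⟨y, hy⟩ = ⟨q1, q1, true, false⟩) (hyy : y * y = 1) :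
    ∃ w, y = c.ι w * x₀ * (c.ι w)⁻¹ := by
  have hxx : x₀ * x₀ = 1 := hD.fus.sq.1
  have hxi : x₀⁻¹ = x₀ := inv_eq_of_mul_eq_one_right hxx
  obtain ⟨-, -, t, ht⟩ := c.code_spec ⟨y, hy⟩
  rw [hk] at ht
  have hy' : ∀ w, y * c.ι w * y⁻¹ = c.ι (cjt ⟨t.a, t.b, q0, q0⟩ (sigT w)) := fun w => by
    rw [ht, conj_twist]; rfl
  obtain ⟨s, -, hs⟩ := sig_split ⟨t.a, t.b, q0, q0⟩ (mem_twists _ _) fun e _ => c.inj (by
    show c.ι (cjt _ (sigT (cjt _ (sigT e)))) = _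
    rw [← hy', ← hy',
      show y * (y * c.ι e * y⁻¹) * y⁻¹ = (y * y) * c.ι e * (y * y)⁻¹ by group, hyy]
    group)
  set y₁ := c.ι s * y * (c.ι s)⁻¹ with hy₁
  have hA1 : ∀ w, y₁ * c.ι w * y₁⁻¹ = c.ι (sigT w) := map_eq_of_gens (φ := actH ⟨q1, q1, true, false⟩) fun e he => by
    calc y₁ * c.ι e * y₁⁻¹ = c.ι s * (y * ((c.ι s)⁻¹ * c.ι e * c.ι s) * y⁻¹) * (c.ι s)⁻¹ := by rw [hy₁]; group
      _ = c.ι s * (y * c.ι (cjt s⁻¹ e) * y⁻¹) * (c.ι s)⁻¹ := by rw [cjt, inv_inv, map_mul, map_mul, map_inv]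
      _ = c.ι (cjt s (cjt ⟨t.a, t.b, q0, q0⟩ (sigT (cjt s⁻¹ e)))) := by
          rw [hy']; simp only [cjt, map_mul, map_inv]
      _ = c.ι (actH ⟨q1, q1, true, false⟩ e) := congrArg c.ι (hs e he)
  have hy11 : y₁ * y₁ = 1 := by
    rw [hy₁, show c.ι s * y * (c.ι s)⁻¹ * (c.ι s * y * (c.ι s)⁻¹) = c.ι s * (y * y) * (c.ι s)⁻¹ by group, hyy]
    group
  have hcen : ∀ w, x₀ * y₁ * c.ι w = c.ι w * (x₀ * y₁) := fun w => mul_inv_eq_iff_eq_mul.mp (by
    rw [show x₀ * y₁ * c.ι w * (x₀ * y₁)⁻¹ = x₀ * (y₁ * c.ι w * y₁⁻¹) * x₀⁻¹ by group, hA1, hA, sig_facts.2.2])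
  have hkN : x₀ * y₁ ∈ c.N := c.centralizer_le (c.vg_mem_K q1) (vg_invol (by decide)) (hcen _)
  obtain ⟨cc, hcc⟩ := c.kernel hkN hcen
  obtain ⟨v, hd⟩ := K_split hcc
  set d := c.vg v * (c.ι (zc cc q0) * (x₀ * y₁)) with hdd
  have hz2 : zc cc v * zc cc v = 1 := by rw [zc_mul, qadd_self, qadd_self]; rfl
  have ey : y₁ = x₀ * (c.ι (zc cc v) * d) := by
    rw [hdd, vg, ← mul_assoc (c.ι (zc cc v)), ← map_mul, ← mul_assoc (c.ι (zc cc v * zc q0 v)), ← map_mul,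
      show zc cc v * zc q0 v * zc cc q0 = 1 by
        rw [zc_mul, zc_mul, qadd_self, (qadd_zero _).1, qadd_self, (qadd_zero _).1]; rfl,
      map_one, one_mul, ← mul_assoc, hxx, one_mul]
  clear_value d
  have hxd : x₀ * d = d * x₀ := hD.comm hd
  have hzd : c.ι (zc cc v) * d = d * c.ι (zc cc v) := (hd.2 _).symm
  have hsq : c.ι (sigT (zc cc v) * zc cc v) * (d * d) = 1 := by
    rw [← hy11, ey, map_mul, ← hA, hxi]
    calc x₀ * c.ι (zc cc v) * x₀ * c.ι (zc cc v) * (d * d)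
        = x₀ * c.ι (zc cc v) * (x₀ * (c.ι (zc cc v) * d) * d) := by group
      _ = x₀ * c.ι (zc cc v) * (x₀ * (d * c.ι (zc cc v)) * d) := by rw [hzd]
      _ = x₀ * c.ι (zc cc v) * (x₀ * d * (c.ι (zc cc v) * d)) := by group
      _ = x₀ * c.ι (zc cc v) * (d * x₀ * (c.ι (zc cc v) * d)) := by rw [hxd]
      _ = _ := by group
  have hd1 : d = 1 := by
    refine hd.eq_one ?_
    have hdd2 : c.Dset (d * d) := ⟨Odd.of_dvd_nat hd.1 (by
      rw [← pow_two]; exact orderOf_pow_dvd 2), fun x => by rw [mul_assoc, hd.2, ← mul_assoc, hd.2, mul_assoc]⟩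
    have hT : d * d = c.ι (sigT (zc cc v) * zc cc v)⁻¹ := by
      rw [map_inv]; exact eq_inv_of_mul_eq_one_right hsq
    have h4 : (d * d) ^ 4 = 1 := by
      rw [hT, ← map_pow, show (4 : ℕ) = 2 ^ 2 from rfl, pow_four, map_one]
    refine orderOf_eq_one_iff.mp (Nat.eq_one_of_dvd_coprimes (Nat.Coprime.pow_right 2
      (Nat.coprime_two_right.mpr hdd2.1)) dvd_rfl ?_)
    exact orderOf_dvd_of_pow_eq_one h4
  rw [hd1, one_mul, mul_one] at hsq
  have hfix : sigT (zc cc v) = zc cc v := by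
    have h := mul_eq_one_iff_eq_inv.mp (c.inj (hsq.trans (map_one c.ι).symm))
    rw [h, inv_eq_of_mul_eq_one_right hz2]
  obtain ⟨p, r, hpr⟩ := sig_shift cc v hfix
  refine ⟨s⁻¹ * zc p r, ?_⟩
  have hp2 : (zc p r)⁻¹ = zc p r := inv_eq_of_mul_eq_one_right (by rw [zc_mul, qadd_self, qadd_self]; rfl)
  have e1 : c.ι (zc p r) * x₀ * (c.ι (zc p r))⁻¹ = y₁ := by
    rw [ey, hd1, mul_one, ← hpr, show zc p r * sigT (zc p r) = sigT (zc p r) * zc p r from (zc_comm p r _).symm,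
      map_mul, ← hA, hxi, ← map_inv, hp2, ← mul_assoc, ← mul_assoc, ← mul_assoc, hxx, one_mul]
  rw [map_mul, map_inv, show (c.ι s)⁻¹ * c.ι (zc p r) * x₀ * ((c.ι s)⁻¹ * c.ι (zc p r))⁻¹ =
    (c.ι s)⁻¹ * (c.ι (zc p r) * x₀ * (c.ι (zc p r))⁻¹) * c.ι s by group, e1, hy₁]
  group

/-- All of `X` has the odd part of the component. -/
theorem dx_of_inX {r : G} (hr : c.InX r) : c.DX r := by
  obtain ⟨x₀, -, hD, hA⟩ := exists_sigma (c := c)
  have h : c.Conn (c.vg q1) r := conn_all (vg_inX (by decide)) hr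
  induction h with
  | refl => exact dx_vg (by decide)
  | @tail a b _ hab ih =>
    have hdx := ih hab.1
    obtain ⟨n, hn, j, hj, e⟩ := gz_of_inX hab.1
    have hnD : n ∈ c.DStab := hdx.frame e
    have hb : c.DX (n * b * n⁻¹) := by
      have hv : n * b * n⁻¹ * c.vg j = c.vg j * (n * b * n⁻¹) := by
        rw [← e, show n * b * n⁻¹ * (n * a * n⁻¹) = n * (b * a) * n⁻¹ by group, ← hab.2.2]; group
      have hbX : c.InX (n * b * n⁻¹) := hab.2.1.conj hn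
      rcases y_cases hj hbX hv with ⟨u, hu⟩ | ⟨-, h, hk⟩
      · rw [hu]; exact dx_ι (fus_iff.mp (hu ▸ hbX.1))
      · obtain ⟨w, hw⟩ := sig_class hD hA h hk hbX.1.sq.1
        rw [hw]; exact hD.conj (N_le_DStab (c.ι_mem_N w))
    have := hb.conj (inv_mem hnD)
    rwa [show n⁻¹ * (n * b * n⁻¹) * n⁻¹⁻¹ = b by group] at this

/-- The centraliser of `z` preserves the odd part. -/
theorem cent_le_DStab {g : G} (hg : g * c.zg * g⁻¹ = c.zg) : g ∈ c.DStab := by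
  have h1 : c.DX (g * c.vg q1 * g⁻¹) := dx_of_inX ((vg_inX (by decide)).conj hg)
  have h2 : g⁻¹ ∈ c.DStab := h1.frame (j := q1) (by group)
  exact inv_inv g ▸ inv_mem h2

/-- A fused involution commuting with a member of `V` has the odd part of the component. -/
theorem dx_of_comm_vg {w : G} (hw : c.Fus w) {j : Q4} (hj : j ≠ q0) (hv : w * c.vg j = c.vg j * w) :
    c.DX w := by
  haveI : Fact (Nat.Prime 2) := ⟨Nat.prime_two⟩
  have hwN : w ∈ c.N := c.centralizer_le (c.vg_mem_K j) (vg_invol hj) hv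
  obtain ⟨hww, hw1⟩ := hw.sq
  obtain ⟨l, hl, hlw⟩ := c.exists_conj_NT (P := Subgroup.zpowers w)
    (IsPGroup.of_card (p := 2) (n := 1) (by rw [Nat.card_zpowers, orderOf_invol hww hw1, pow_one]))
    (Subgroup.zpowers_le.mpr hwN)
  have hlD : l ∈ c.DStab := N_le_DStab (c.L_le_N hl)
  suffices h : c.DX (l * w * l⁻¹) by
    have := h.conj (inv_mem hlD)
    rwa [show l⁻¹ * (l * w * l⁻¹) * l⁻¹⁻¹ = w by group] at this
  set y := l * w * l⁻¹
  have hy : y ∈ c.NT := hlw w (Subgroup.mem_zpowers _)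
  have hyF : c.Fus y := hw.conj l
  obtain ⟨hp, hq, t, ht⟩ := c.code_spec ⟨y, hy⟩
  set k := c.code ⟨y, hy⟩ with hk
  have hns : k.out.2 = false := by
    by_contra hs
    refine not_fus_swap hy.1 ?_ hyF
    rw [c.eps_NT hy]
    exact Bool.eq_true_of_not_eq_false hs
  by_cases hke : k.out.1 = false
  · obtain ⟨u, hu⟩ := invol_inner hy hyF.sq.1 (Prod.ext hke hns)
    rw [hu]; exact dx_ι (fus_iff.mp (hu ▸ hyF))
  have hy' : ∀ z, y * c.ι z * y⁻¹ = c.ι (cjt ⟨t.a, t.b, q0, q0⟩ (act k z)) := fun z => by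
    rw [ht, conj_twist]; rfl
  obtain ⟨r, s, hr, hs, hrs⟩ := sig_normalise k hp hq (Prod.ext (Bool.eq_true_of_not_eq_false hke) hns)
    ⟨t.a, t.b, q0, q0⟩ (mem_twists _ _) fun e _ => c.inj (by
      rw [← hy', ← hy', show y * (y * c.ι e * y⁻¹) * y⁻¹ = (y * y) * c.ι e * (y * y)⁻¹ by group, hyF.sq.1]
      group)
  obtain ⟨n, hn, hnA⟩ := exists_scl (c := c) hr hs
  set y₂ := n * y * n⁻¹ with hy₂
  have hy2 : y₂ ∈ c.NT := mul_mem (mul_mem hn hy) (inv_mem hn)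
  have hpre : ∀ e, c.ι e = n * c.ι (act ⟨qsq r, qsq s, false, false⟩ e) * n⁻¹ := fun e => by
    rw [hnA, scl_inv r s hr hs]
  set φ : TC →* TC := (MulAut.conj (act ⟨r, s, false, false⟩ ⟨t.a, t.b, q0, q0⟩)).toMonoidHom.comp
    (actH ⟨q1, q1, true, false⟩) with hφ
  have hA2 : ∀ z, y₂ * c.ι z * y₂⁻¹ = c.ι (φ z) := map_eq_of_gens fun e he => by
    calc y₂ * c.ι e * y₂⁻¹ = n * (y * c.ι (act ⟨qsq r, qsq s, false, false⟩ e) * y⁻¹) * n⁻¹ := by
          rw [hpre e, hy₂]; group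
      _ = _ := by rw [hy', hnA, hrs e he]; rfl
  have hk2 : c.code ⟨y₂, hy2⟩ = ⟨q1, q1, true, false⟩ :=
    c.code_eq (n := ⟨y₂, hy2⟩) ⟨by decide, by decide, act ⟨r, s, false, false⟩ ⟨t.a, t.b, q0, q0⟩, fun z => by
      show y₂ * c.ι z * y₂⁻¹ = _
      rw [hA2]; rfl⟩
  have hy22 : y₂ * y₂ = 1 := by
    rw [hy₂, show n * y * n⁻¹ * (n * y * n⁻¹) = n * (y * y) * n⁻¹ by group, hyF.sq.1]; group
  obtain ⟨x₀, -, hD, hA⟩ := exists_sigma (c := c)
  obtain ⟨w', hw'⟩ := sig_class hD hA hy2 hk2 hy22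
  have h2 : c.DX y₂ := hw' ▸ hD.conj (N_le_DStab (c.ι_mem_N w'))
  have := h2.conj (inv_mem (N_le_DStab hn.1))
  rwa [show n⁻¹ * (n * y * n⁻¹) * n⁻¹⁻¹ = y by group] at this

end Ctx

end CfsgLib.HeStd
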