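import Cfsg.Agent.Lib.HeStd.Theta

/-!
# Tori and second reflections from the exchange of `V` and `Y`
-/

set_option autoImplicit false
set_option linter.style.haveILetI false
set_option linter.unusedSectionVars false

namespace CfsgLib.HeStd

universe u

/-- The reflection exchanging `a` and `v` on `b = 0`. -/
def swA' (x : TC) : TC := ⟨x.v, x.b, x.c, x.a⟩

/-- The reflection exchanging `b` and `v` on `a = 0`. -/
def swB' (x : TC) : TC := ⟨x.a, qsq x.v, x.c, qsq x.b⟩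

/-- The preimage under an exchange with trivial scalars. -/
def invG (e s : Bool) (x : TC) : TC :=
  bif s then gam (frT e (th0 x)) else frT e (th0 x)

theorem swap_torus : ∀ k : AK, k.p ≠ q0 → k.q ≠ q0 → ∃ r : Q4, r ≠ q0 ∧ r ≠ q1 ∧
    ∀ y : TC, th0 (act k (tor y)) = act ⟨r, qsq r, false, false⟩ (th0 (act k y)) := by decide +kernel

theorem tor_gen : ∀ r : Q4, r ≠ q0 → r ≠ q1 → ∀ p q : Q4, p ≠ q0 → q ≠ q0 → ∃ i j : Fin 3,
    ∀ y : TC, tor^[i.val] ((act ⟨r, qsq r, false, false⟩)^[j.val] y) = act ⟨p, q, false, false⟩ y := by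
  decide +kernel

theorem swap_normal : ∀ k : AK, k.p ≠ q0 → k.q ≠ q0 → ∀ y : TC,
    act ⟨qsq k.p, k.q, false, false⟩ (th0 (act k y)) = th0 (act ⟨q1, q1, k.e, k.s⟩ y) := by decide +kernel

theorem invG_spec : ∀ e s : Bool, ∀ x : TC,
    th0 (act ⟨q1, q1, e, s⟩ (invG e s x)) = x := by decide +kernel

theorem swA'_spec : ∀ e s : Bool, ∀ x : TC, x.b = q0 →
    (bif s then decide ((invG e s x).a = q0) else decide ((invG e s x).b = q0)) = true ∧
      th0 (act ⟨q1, q1, e, s⟩ (bif s then swapB (invG e s x) else swapA (invG e s x))) = swA' x := by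
  decide +kernel

theorem swB'_spec : ∀ e s : Bool, ∀ x : TC, x.a = q0 →
    (bif s then decide ((invG e s x).b = q0) else decide ((invG e s x).a = q0)) = true ∧
      th0 (act ⟨q1, q1, e, s⟩ (bif s then swapA (invG e s x) else swapB (invG e s x))) = swB' x := by
  decide +kernel

namespace Ctx

variable {G : Type u} [Group G] {c : Ctx G} [Finite G] [IsSimpleGroup G]

/-- An exact exchange. -/
theorem exists_exact_swap : ∃ g : G, ∃ k : AK, k.p ≠ q0 ∧ k.q ≠ q0 ∧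
    ∀ x, g * c.ι x * g⁻¹ = c.ι (th0 (act k x)) := by
  obtain ⟨g, k, hp, hq, t, ht⟩ := exists_swap (c := c)
  refine ⟨(c.ι t)⁻¹ * g, k, hp, hq, fun x => ?_⟩
  rw [show (c.ι t)⁻¹ * g * c.ι x * ((c.ι t)⁻¹ * g)⁻¹ = (c.ι t)⁻¹ * (g * c.ι x * g⁻¹) * c.ι t by group, ht,
    ← map_inv, ← map_mul, ← map_mul]
  congr 1
  group

theorem exact_mem_NT {n : G} {k : AK} (h : ∀ x, n * c.ι x * n⁻¹ = c.ι (act k x)) : n ∈ c.NT := by
  refine ⟨c.mem_N_of_conj (c.vg_mem_K q1) (vg_invol (by decide)) ?_, Subgroup.mem_normalizer_iff.mpr fun t =>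
    ⟨?_, fun ht => ?_⟩⟩
  · rw [vg, h, act_V]
    exact c.ι_V_mem_K _
  · rintro ⟨x, rfl⟩; rw [h]; exact c.ι_mem_T _
  · let f : c.T → c.T := fun s => ⟨n * s * n⁻¹, by
      obtain ⟨x, hx⟩ := s.2
      rw [← hx, h]; exact c.ι_mem_T _⟩
    have hinj : Function.Injective f := fun a b e =>
      Subtype.ext (mul_left_cancel (mul_right_cancel (congrArg Subtype.val e) :))
    obtain ⟨s, hs⟩ := (Finite.injective_iff_surjective.mp hinj) ⟨_, ht⟩
    have h1 : n * (s : G) * n⁻¹ = n * t * n⁻¹ := congrArg Subtype.val hs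
    exact (mul_left_cancel (mul_right_cancel h1 :)) ▸ s.2

theorem iter_conj {n : G} {f : TC → TC} (h : ∀ x, n * c.ι x * n⁻¹ = c.ι (f x)) :
    ∀ (i : ℕ) (x : TC), n ^ i * c.ι x * (n ^ i)⁻¹ = c.ι (f^[i] x) := by
  intro i
  induction i with
  | zero => intro x; simp
  | succ i ih =>
    intro x
    rw [Function.iterate_succ_apply', ← h, ← ih, pow_succ']
    group

/-- The tori. -/
theorem exists_scl {p q : Q4} (hp : p ≠ q0) (hq : q ≠ q0) :
    ∃ n ∈ c.NT, ∀ x, n * c.ι x * n⁻¹ = c.ι (act ⟨p, q, false, false⟩ x) := by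
  obtain ⟨g, k, hkp, hkq, hg⟩ := exists_exact_swap (c := c)
  obtain ⟨r, hr, hr1, hr'⟩ := swap_torus k hkp hkq
  obtain ⟨i, j, hij⟩ := tor_gen r hr hr1 p q hp hq
  have hh : ∀ x, (c.d.h : G) * c.ι x * (c.d.h : G)⁻¹ = c.ι (tor x) := fun x => by
    rw [ι_def, ι_def, ← c.d.h_conj]; rfl
  have hd : ∀ x, (g * (c.d.h : G) * g⁻¹) * c.ι x * (g * (c.d.h : G) * g⁻¹)⁻¹ =
      c.ι (act ⟨r, qsq r, false, false⟩ x) := by
    intro x
    obtain ⟨y, hy⟩ := (Finite.injective_iff_surjective.mp (show Function.Injective (fun y => th0 (act k y)) from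
      fun a b e => c.inj (by
        have h := congrArg c.ι e
        simp only [← hg] at h
        exact mul_left_cancel (mul_right_cancel h :)))) x
    simp only at hy
    rw [← hy, ← hr', ← hg, ← hg, ← hh]
    group
  have hn : ∀ x, ((c.d.h : G) ^ i.val * (g * (c.d.h : G) * g⁻¹) ^ j.val) * c.ι x *
      ((c.d.h : G) ^ i.val * (g * (c.d.h : G) * g⁻¹) ^ j.val)⁻¹ = c.ι (act ⟨p, q, false, false⟩ x) := fun x => by
    rw [← hij, ← iter_conj hh, ← iter_conj hd]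
    group
  exact ⟨_, exact_mem_NT hn, hn⟩

/-- An exchange with trivial scalars. -/
theorem exists_plain_swap : ∃ g : G, ∃ e s : Bool,
    ∀ x, g * c.ι x * g⁻¹ = c.ι (th0 (act ⟨q1, q1, e, s⟩ x)) := by
  obtain ⟨g, k, hkp, hkq, hg⟩ := exists_exact_swap (c := c)
  obtain ⟨n, -, hn⟩ := exists_scl (c := c) ((show ∀ p : Q4, p ≠ q0 → qsq p ≠ q0 by decide) _ hkp) hkq
  refine ⟨n * g, k.e, k.s, fun x => ?_⟩
  rw [show n * g * c.ι x * (n * g)⁻¹ = n * (g * c.ι x * g⁻¹) * n⁻¹ by group, hg, hn, swap_normal k hkp hkq]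

/-- The second reflection on `b = 0`. -/
theorem exists_swA' : ∃ n : G, ∀ x : TC, x.b = q0 → n * c.ι x * n⁻¹ = c.ι (swA' x) := by
  obtain ⟨g, e, s, hg⟩ := exists_plain_swap (c := c)
  refine ⟨g * (bif s then (c.d.w₂ : G) else (c.d.w₁ : G)) * g⁻¹, fun x hx => ?_⟩
  obtain ⟨h1, h2⟩ := swA'_spec e s x hx
  have e0 : c.ι x = g * c.ι (invG e s x) * g⁻¹ := by rw [hg, invG_spec]
  rw [e0, ← h2, ← hg]
  cases s <;> simp only [cond_true, cond_false, decide_eq_true_eq] at h1 ⊢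
  · rw [← c.w₁_conj h1]; group
  · rw [← c.w₂_conj h1]; group

/-- The second reflection on `a = 0`. -/
theorem exists_swB' : ∃ n : G, ∀ x : TC, x.a = q0 → n * c.ι x * n⁻¹ = c.ι (swB' x) := by
  obtain ⟨g, e, s, hg⟩ := exists_plain_swap (c := c)
  refine ⟨g * (bif s then (c.d.w₁ : G) else (c.d.w₂ : G)) * g⁻¹, fun x hx => ?_⟩
  obtain ⟨h1, h2⟩ := swB'_spec e s x hx
  have e0 : c.ι x = g * c.ι (invG e s x) * g⁻¹ := by rw [hg, invG_spec]
  rw [e0, ← h2, ← hg]
  cases s <;> simp only [cond_true, cond_false, decide_eq_true_eq] at h1 ⊢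
  · rw [← c.w₂_conj h1]; group
  · rw [← c.w₁_conj h1]; group

end Ctx

end CfsgLib.HeStd
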