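import Cfsg.Agent.Lib.HeStd.WY

/-!
# The conjugation exchanging the centre of the cover and its complement
-/

set_option autoImplicit false
set_option linter.style.haveILetI false
set_option linter.unusedSectionVars false

namespace CfsgLib.HeStd

universe u

/-- The model exchanging `V` and `Y`. -/
def th0 (x : TC) : TC := ⟨x.a, qsq x.b, x.v, x.c⟩

theorem th0_mul (x y : TC) : th0 (x * y) = th0 x * th0 y := by
  simp only [th0, mul_def, tmul, qsq_add, qsq_qsq]

/-- The model exchanging `V` and `Y` as a homomorphism. -/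
def th0H : TC →* TC := MonoidHom.mk' th0 th0_mul

theorem th0_th0 (x : TC) : th0 (th0 x) = x := by simp [th0, qsq_qsq]

theorem th0_facts : ∀ x : TC, yT x = true →
    (¬ (x.a = q0 ∧ x.b = q0) → yT (th0 x) = true) ∧ x * x = 1 := by decide +kernel

theorem yT_central : ∀ cc v : Q4, (yT (zc cc v) = true ↔ v = q0) ∧ (inV (zc cc v) = true ↔ cc = q0) ∧
    th0 (zc cc v) = zc v cc := by decide +kernel

theorem tw_id : ∀ k : AK, k.p ≠ q0 → k.q ≠ q0 → ∀ t ∈ twists,
    (∀ e ∈ [e₁, e₂, e₃, e₄], tri (tw k t e) = tri e) → (∀ y : TC, act k y = y) ∧ t.a = q0 ∧ t.b = q0 := by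
  decide +kernel

namespace Ctx

variable {G : Type u} [Group G] {c : Ctx G} [Finite G]

theorem K_normalizes {k : G} (hk : k ∈ c.K) (P : c.Pull) :
    ∃ cc, c.yg cc * (P.g⁻¹ * k * P.g) ∈ c.K := by
  set n := P.g⁻¹ * k * P.g with hn
  have hcomm : ∀ z, n * P.ψ z = P.ψ z * n := fun z => by
    rw [P.ψ_apply, hn]
    calc P.g⁻¹ * k * P.g * (P.g⁻¹ * c.ι z * P.g) = P.g⁻¹ * (k * c.ι z) * P.g := by group
      _ = P.g⁻¹ * (c.ι z * k) * P.g := by rw [c.comm_K hk]
      _ = _ := by group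
  have hV : orderOf (P.ψ (zc q1 q0)) = 2 := by
    rw [show P.ψ (zc q1 q0) = MulAut.conj P.g⁻¹ (c.ι (zc q1 q0)) from rfl, MulEquiv.orderOf_eq,
      orderOf_injective c.ι c.inj]
    exact orderOf_eq_prime (by rw [pow_two]; decide +kernel) (by decide +kernel)
  have hnN : n ∈ c.N := c.centralizer_le (P.K_yg q1) hV (hcomm _)
  have hfix : ∀ e : TC, ∃ v, n * c.ι (lift3 (tri e)) * n⁻¹ = c.ι (lift3 (tri e) * zc q0 v) := by
    intro e
    obtain ⟨w, u, hu, e'⟩ : ∃ w u, P.Rel w u ∧ tri u = tri e := by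
      classical
      choose u hu using fun w => P.rel_exists (P.out_zero w)
      have hc := P.pair_card Finset.univ u (fun w _ => hu w)
      rw [Finset.card_univ, Fintype.card_eq_nat_card, card_TC] at hc
      have heq := Finset.eq_univ_of_card ((Finset.univ : Finset TC).image fun w => tri (u w)) (le_antisymm
        (Finset.card_le_univ _) (by simp only [Fintype.card_prod, Fintype.card_bool]; omega))
      have hm := Finset.mem_univ (tri e)
      rw [← heq] at hm
      obtain ⟨w, -, h⟩ := Finset.mem_image.mp hm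
      exact ⟨w, u w, hu w, h⟩
    obtain ⟨k', hk', he⟩ := P.rel_lift hu
    rw [e'] at he
    exact fix_split hnN _ hk' (by rw [← he]; exact hcomm w)
  have key : ∀ x, n * c.ι x * n⁻¹ ∈ c.T := fun x => by
    obtain ⟨v, hv⟩ := hfix x
    obtain ⟨w, hw⟩ := c.conj_vg hnN x.v
    rw [vg] at hw
    rw [lift3_eq x, map_mul, show n * (c.ι (lift3 (tri x)) * c.ι (zc q0 x.v)) * n⁻¹ =
      (n * c.ι (lift3 (tri x)) * n⁻¹) * (n * c.ι (zc q0 x.v) * n⁻¹) by group, hv, hw, vg, ← map_mul]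
    exact c.ι_mem_T _
  have hNT : n ∈ c.NT := by
    refine ⟨hnN, Subgroup.mem_normalizer_iff.mpr fun t => ⟨?_, fun ht => ?_⟩⟩
    · rintro ⟨x, rfl⟩; exact key x
    · let f : c.T → c.T := fun s => ⟨n * s * n⁻¹, by
        obtain ⟨x, hx⟩ := s.2
        rw [← hx]; exact key x⟩
      have hinj : Function.Injective f := fun a b e =>
        Subtype.ext (mul_left_cancel (mul_right_cancel (congrArg Subtype.val e) :))
      obtain ⟨s, hs⟩ := (Finite.injective_iff_surjective.mp hinj) ⟨_, ht⟩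
      have h1 : n * (s : G) * n⁻¹ = n * t * n⁻¹ := congrArg Subtype.val hs
      exact (mul_left_cancel (mul_right_cancel h1 :)) ▸ s.2
  obtain ⟨k', hk'⟩ := c.exists_code hNT
  obtain ⟨hp, hq, t, ht⟩ := hk'
  have htri : ∀ e : TC, e.v = q0 → tri (tw k' ⟨t.a, t.b, q0, q0⟩ e) = tri e := by
    intro e he
    obtain ⟨v, hv⟩ := hfix e
    have e0 : lift3 (tri e) = e := TC.ext rfl rfl rfl he.symm
    rw [e0, ht] at hv
    rw [tw, ← conj_twist, c.inj hv, ← inV_iff_tri]
    rw [show (e * zc q0 v)⁻¹ * e = (zc q0 v)⁻¹ by group]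
    simp [inV, zc, inv_def, tinv, qadd_self, qmul_zero]
  obtain ⟨hid, hta, htb⟩ := tw_id k' hp hq _ (mem_twists t.a t.b) fun e he => htri e (by
    simp only [List.mem_cons, List.not_mem_nil, or_false] at he
    rcases he with rfl | rfl | rfl | rfl <;> rfl)
  obtain ⟨cc, hcc⟩ := c.kernel hnN fun x => by
    refine mul_inv_eq_iff_eq_mul.mp ?_
    rw [ht, hid, show t = zc t.c t.v from TC.ext hta htb rfl rfl, ← zc_comm, mul_inv_cancel_right]
  exact ⟨cc, hcc⟩

theorem K_inter {P : c.Pull} {k : G} (hk : k ∈ c.K) {j : ℕ} (hj : k ^ 2 ^ j = 1)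
    (h : P.g⁻¹ * k * P.g ∈ c.K) : k = 1 := by
  haveI : Fact (Nat.Prime 2) := ⟨Nat.prime_two⟩
  by_contra hne
  have h1 : orderOf k ∣ 2 ^ j := orderOf_dvd_of_pow_eq_one hj
  obtain ⟨i, -, hi⟩ := (Nat.dvd_prime_pow Nat.prime_two).mp h1
  cases i with
  | zero => exact hne (orderOf_eq_one_iff.mp (by rw [hi, pow_zero]))
  | succ i =>
    have h2 : orderOf (k ^ 2 ^ i) = 2 := by
      rw [orderOf_pow' k (by positivity), hi, Nat.gcd_eq_right ⟨2, by rw [pow_succ]⟩, pow_succ,
        Nat.mul_div_cancel_left _ (by positivity)]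
    have hgN : P.g⁻¹ ∈ c.N := c.mem_N_of_conj (c.K.pow_mem hk (2 ^ i)) h2 (by
      rw [inv_inv, show P.g⁻¹ * k ^ 2 ^ i * P.g = (P.g⁻¹ * k * P.g) ^ 2 ^ i by
        have := conj_pow (a := P.g⁻¹) (b := k) (i := 2 ^ i)
        rw [inv_inv] at this
        exact this.symm]
      exact c.K.pow_mem h _)
    refine P.hV q1 (by decide) ?_
    have := c.conj_K hgN (c.ι_V_mem_K q1)
    rwa [inv_inv] at this

theorem conj_vg_pull (P : c.Pull) (v : Q4) : ∃ cc, c.yg cc * (P.g⁻¹ * c.vg v * P.g) ∈ c.K :=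
  K_normalizes (c.vg_mem_K v) P

/-- A 2-element of the centraliser lies in the centre of the cover. -/
theorem K_two [IsSimpleGroup G] {k : G} (hk : k ∈ c.K) {j : ℕ} (hj : k ^ 2 ^ j = 1) :
    ∃ v, k = c.vg v := by
  classical
  obtain ⟨P⟩ := exists_pull (c := c)
  choose cc hcc using fun v => conj_vg_pull P v
  have hinj : Function.Injective cc := by
    intro v w e
    have h := c.K.mul_mem (c.K.inv_mem (hcc v)) (hcc w)
    rw [← e, show (c.yg (cc v) * (P.g⁻¹ * c.vg v * P.g))⁻¹ * (c.yg (cc v) * (P.g⁻¹ * c.vg w * P.g)) =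
      P.g⁻¹ * ((c.vg v)⁻¹ * c.vg w) * P.g by group] at h
    have h1 := K_inter (c.K.mul_mem (c.K.inv_mem (c.vg_mem_K v)) (c.vg_mem_K w)) (j := 1)
      (by rw [pow_one, pow_two, vg, vg, ← map_inv, ← map_mul, ← map_mul,
        show (zc q0 v)⁻¹ = zc q0 v from inv_eq_of_mul_eq_one_right (by rw [zc_mul, qadd_self, qadd_self]; rfl),
        zc_mul, zc_mul, qadd_self, qadd_self]; exact map_one c.ι) h
    exact congrArg TC.v (c.inj (inv_mul_eq_one.mp h1))
  obtain ⟨d, hd⟩ := K_normalizes hk P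
  obtain ⟨v, rfl⟩ := (Finite.injective_iff_surjective.mp hinj) d
  refine ⟨v, ?_⟩
  have hvk : c.vg v * k = k * c.vg v := (c.vg_comm_K v hk).symm
  have hvi : (c.vg v)⁻¹ = c.vg v := inv_eq_of_mul_eq_one_right (vg_sq v)
  have hK2 : (k * c.vg v) ^ 2 ^ (j + 1) = 1 := by
    rw [(show Commute k (c.vg v) from hvk.symm).mul_pow, pow_succ, pow_mul, hj, one_pow, one_mul, mul_comm,
      pow_mul, pow_two, vg_sq, one_pow]
  have h := c.K.mul_mem (c.K.inv_mem (hcc v)) hd
  rw [show (c.yg (cc v) * (P.g⁻¹ * c.vg v * P.g))⁻¹ * (c.yg (cc v) * (P.g⁻¹ * k * P.g)) =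
    P.g⁻¹ * ((c.vg v)⁻¹ * k) * P.g by group, hvi, hvk] at h
  have h1 := K_inter (c.K.mul_mem hk (c.vg_mem_K v)) (j := j + 1) hK2 h
  rw [eq_inv_of_mul_eq_one_left h1, hvi]

/-- The conjugation normalises the Sylow subgroup. -/
theorem pull_T [IsSimpleGroup G] (P : c.Pull) (x : TC) : ∃ y, P.ψ x = c.ι y := by
  obtain ⟨u, k, hk, e⟩ := P.rel_exists (P.out_zero x)
  have hcomm : Commute (c.ι u) k := c.comm_K hk u
  have h4 : k ^ 2 ^ 2 = 1 := by
    have h : P.ψ x ^ 2 ^ 2 = 1 := by rw [← map_pow, pow_four, map_one]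
    rwa [e, hcomm.mul_pow, ← map_pow, pow_four, map_one, one_mul] at h
  obtain ⟨v, rfl⟩ := K_two hk h4
  exact ⟨u * zc q0 v, by rw [e, map_mul]; rfl⟩

/-- A fused central element of the Sylow subgroup lies in `V` or in `Y`. -/
theorem fus_central [IsSimpleGroup G] {cc v : Q4} (h : c.Fus (c.ι (zc cc v))) : cc = q0 ∨ v = q0 := by
  by_cases hc : cc = q0
  · exact Or.inl hc
  obtain ⟨g, r, hr, hr2, hg⟩ := h
  obtain ⟨P, hP⟩ := exists_pull_of (w := c.ι (zc cc v)) (fun x => by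
    rw [← map_mul, ← map_mul, zc_comm]) (fun h => hc (by
      have h' := c.ι_mem_K_iff.mp h
      simp [inV, zc] at h'
      exact of_decide_eq_true h')) hr hr2 hg
  exact Or.inr ((P.K_iff (zc cc v)).mp (P.ψ_apply _ ▸ hP)).2.2

theorem fus_vg {v : Q4} (hv : v ≠ q0) : c.Fus (c.vg v) :=
  ⟨1, c.vg v, c.vg_mem_K v, vg_invol hv, by group⟩

/-- The element exchanging `V` and `Y`. -/
theorem exists_swap [IsSimpleGroup G] : ∃ g : G, ∃ k : AK, k.p ≠ q0 ∧ k.q ≠ q0 ∧
    ∃ t : TC, ∀ x, g * c.ι x * g⁻¹ = c.ι (t * th0 (act k x) * t⁻¹) := by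
  classical
  obtain ⟨P⟩ := exists_pull (c := c)
  choose f hf using pull_T P
  have hmul : ∀ a b, f (a * b) = f a * f b := fun a b => c.inj (by rw [← hf, map_mul, map_mul, hf, hf])
  let φ : TC →* TC := MonoidHom.mk' f hmul
  have hφ : ∀ x, P.ψ x = c.ι (φ x) := hf
  have hi : Function.Injective φ := fun a b e => c.inj (by rw [P.ι_eq, P.ι_eq, hφ, hφ, e])
  have hφ' : ∀ x, P.g⁻¹ * c.ι x * P.g = c.ι (φ x) := fun x => (P.ψ_apply x).symm.trans (hφ x)
  have hY : ∀ p, inV (φ (zc p q0)) = true := fun p => c.ι_mem_K_iff.mp (hφ _ ▸ P.K_yg p)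
  have hV : ∀ v, ∃ cc, φ (zc q0 v) = zc cc q0 := by
    intro v
    by_cases hv : v = q0
    · subst hv
      exact ⟨q0, map_one φ⟩
    obtain ⟨ha, hb⟩ := phi_Z hi (x := zc q0 v) ⟨rfl, rfl⟩
    refine ⟨(φ (zc q0 v)).c, TC.ext ha hb rfl ?_⟩
    have hF : c.Fus (c.ι (φ (zc q0 v))) := by
      obtain ⟨g, r, hr, hr2, hg⟩ := fus_vg (c := c) hv
      refine ⟨P.g⁻¹ * g, r, hr, hr2, ?_⟩
      rw [← hφ', show c.ι (zc q0 v) = c.vg v from rfl, ← hg]
      group
    rw [show φ (zc q0 v) = zc (φ (zc q0 v)).c (φ (zc q0 v)).v from TC.ext ha hb rfl rfl] at hF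
    refine (fus_central hF).resolve_left fun h0 => P.hV v hv ?_
    rw [hφ', c.ι_mem_K_iff]
    simp [inV, ha, hb, h0]
  have hyT : ∀ x, yT x = true → yT (th0 (φ x)) = true := by
    intro x hx
    by_cases hz : x.a = q0 ∧ x.b = q0
    · have e : x = zc x.c x.v := TC.ext hz.1 hz.2 rfl rfl
      have hv : x.v = q0 := (yT_central x.c x.v).1.mp (e ▸ hx)
      obtain ⟨ha, hb⟩ := phi_Z hi (x := zc x.c q0) ⟨rfl, rfl⟩
      rw [e, hv, show φ (zc x.c q0) = zc (φ (zc x.c q0)).c (φ (zc x.c q0)).v from TC.ext ha hb rfl rfl,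
        (yT_central _ _).2.2]
      refine (yT_central _ _).1.mpr ((yT_central (φ (zc x.c q0)).c (φ (zc x.c q0)).v).2.1.mp ?_)
      rw [show zc (φ (zc x.c q0)).c (φ (zc x.c q0)).v = φ (zc x.c q0) from TC.ext ha.symm hb.symm rfl rfl]
      exact hY _
    · have hne : ¬ ((φ x).a = q0 ∧ (φ x).b = q0) := fun h => by
        let Z : Finset TC := Finset.univ.filter fun w => w.a = q0 ∧ w.b = q0
        have heq := Finset.eq_of_subset_of_card_le (s := Z.image φ) (t := Z)
          (fun w hw => by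
            obtain ⟨w', hw', rfl⟩ := Finset.mem_image.mp hw
            exact Finset.mem_filter.mpr ⟨Finset.mem_univ _, phi_Z hi (Finset.mem_filter.mp hw').2⟩)
          (by rw [Finset.card_image_of_injective _ hi])
        have hm : φ x ∈ Z := Finset.mem_filter.mpr ⟨Finset.mem_univ _, h⟩
        rw [← heq] at hm
        obtain ⟨w, hw, e⟩ := Finset.mem_image.mp hm
        exact hz (hi e ▸ (Finset.mem_filter.mp hw).2)
      obtain ⟨-, hxx⟩ := th0_facts x hx
      obtain ⟨l, hl, cc, hlx⟩ := (c.yT_iff (sq_one_shape x hxx)).mp hx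
      have hcc : cc ≠ q0 := fun h0 => hz (by
        rw [h0, show zc q0 q0 = (1 : TC) from rfl, map_one, conj_eq_one_iff, ← map_one c.ι] at hlx
        rw [c.inj hlx]; exact ⟨rfl, rfl⟩)
      have hF : c.Fus (c.ι (φ x)) := by
        obtain ⟨v, hv⟩ := (Finite.injective_iff_surjective.mp (show Function.Injective
          (fun v => (φ (zc q0 v)).c) from fun v w e => by
            obtain ⟨p, hp⟩ := hV v
            obtain ⟨q, hq⟩ := hV w
            simp only [hp, hq] at e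
            have hpq : p = q := e
            exact congrArg TC.v (hi (hp.trans (hpq ▸ hq.symm)) :))) cc
        obtain ⟨p, hp⟩ := hV v
        simp only [hp] at hv
        have hv' : φ (zc q0 v) = zc cc q0 := by rw [hp, ← hv]; rfl
        have hv0 : v ≠ q0 := fun h0 => hcc (by
          rw [h0, show zc q0 q0 = (1 : TC) from rfl, map_one] at hv'
          exact (congrArg TC.c hv').symm)
        obtain ⟨g, r, hr, hr2, hg⟩ := fus_vg (c := c) hv0
        refine ⟨P.g⁻¹ * l⁻¹ * P.g⁻¹ * g, r, hr, hr2, ?_⟩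
        have e1 : c.ι x = l⁻¹ * (P.g⁻¹ * (g * r * g⁻¹) * P.g) * l := by
          rw [hg, vg, hφ', hv', ← hlx]; group
        rw [← hφ', e1]
        group
      have hsq : φ x * φ x = 1 := by rw [← map_mul, hxx, map_one]
      have hs := sq_one_shape _ hsq
      have hVf : inV (φ x) = false := by
        by_contra h
        refine hne ?_
        have h' := Bool.eq_true_of_not_eq_false h
        simp only [inV, Bool.and_eq_true, decide_eq_true_eq] at h'
        exact h'.1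
      obtain ⟨m, hm, a, v, ha, hma⟩ := exists_root (c := c) hs hVf
      have hyx : yT (φ x) = true := by
        refine (c.yT_iff hs).mpr ⟨m, hm, a, ?_⟩
        have hF' := hF.conj m
        rw [hma] at hF'
        rw [hma, (fus_central hF').resolve_left ha]
      exact (th0_facts _ hyx).1 hne
  have hVV : ∀ x, inV x = true → inV (th0 (φ x)) = true := fun x hx => by
    simp only [inV, Bool.and_eq_true, decide_eq_true_eq] at hx
    obtain ⟨cc, hcc⟩ := hV x.v
    rw [show x = zc q0 x.v from TC.ext hx.1.1 hx.1.2 hx.2 rfl, hcc, (yT_central _ _).2.2]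
    simp [inV, zc]
  obtain ⟨k, hp, hq, t, ht⟩ := exists_model (φ := th0H.comp φ)
    (fun a b e => hi (by
      have h := congrArg th0 (show th0 (φ a) = th0 (φ b) from e)
      rwa [th0_th0, th0_th0] at h))
    hyT hVV
    (fun x hx => by
      obtain ⟨h1, h2⟩ : (φ x).a = q0 ∧ (φ x).b = q0 := phi_Z hi hx
      exact ⟨h1, by show qsq (φ x).b = q0; rw [h2]; decide⟩)
  refine ⟨P.g⁻¹, k, hp, hq, th0 t, fun x => ?_⟩
  rw [inv_inv, hφ']
  congr 1
  have h := congrArg th0 (show th0 (φ x) = t * act k x * t⁻¹ from ht x)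
  rwa [th0_th0, show th0 (t * act k x * t⁻¹) = th0 t * th0 (act k x) * (th0 t)⁻¹ from by
    show th0H (t * act k x * t⁻¹) = _
    rw [map_mul, map_mul, map_inv]; rfl] at h

end Ctx

end CfsgLib.HeStd
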