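import Cfsg.Agent.Lib.HeStd.Quot
import Cfsg.Agent.Lib.HeStd.Final
import Cfsg.Agent.Lib.Extraspecial.Setting

/-!
# The centraliser of `z` is `2^(1+6).L(3,2)` when no involution swaps
-/

set_option autoImplicit false
set_option linter.style.haveILetI false
set_option linter.unusedSectionVars false

open scoped commutatorElement

namespace CfsgLib.HeStd

universe u

namespace Ctx

variable {G : Type u} [Group G] {c : Ctx G} [Finite G] [IsSimpleGroup G]

/-- Without swapping involutions the group is the Held group. -/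
theorem isoHe_of_no_swap (hgam : ∀ (x : G) (hx : x ∈ c.N), x * x = 1 → (c.eps ⟨x, hx⟩).2 = false) :
    Cfsg.Spor.IsoHe G := by
  classical
  obtain ⟨B⟩ := exists_base (c := c)
  set C := Subgroup.centralizer ({c.zg} : Set G) with hC
  have hQC : c.QS ≤ C := fun q hq => mem_cent.mpr (qs_zg hq)
  have hLC : LAg B ≤ C := fun g ⟨a, ha, e⟩ => hQC (e ▸ qel_mem B (la_mem ha).2)
  have hfix : ∀ n : C, (n : G) * c.zg = c.zg * n := fun n => mem_cent.mp n.2
  set Q : Subgroup C := c.QS.subgroupOf C with hQ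
  set L : Subgroup C := (LAg B).subgroupOf C with hL
  haveI : Q.Normal := ⟨fun q hq n => by
    rw [hQ, Subgroup.mem_subgroupOf] at hq ⊢
    exact qs_conj (conj_zg_of_comm (hfix n)) hq⟩
  haveI : L.Normal := ⟨fun g hg n => by
    rw [hL, Subgroup.mem_subgroupOf] at hg ⊢
    exact (Subgroup.mem_normalizer_iff.mp (cent_le_NA B hgam (hfix n)).2 g).mp hg⟩
  have hcardQ : Nat.card Q = 128 :=
    (Nat.card_congr (Subgroup.subgroupOfEquivOfLe hQC).toEquiv).trans card_QS
  have hz1 : c.zg ≠ 1 := fun h => by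
    rw [zg, ← map_one c.ι] at h
    exact absurd (c.inj h) (by decide +kernel)
  have hzC : c.zg ∈ C := mem_cent.mpr rfl
  have hzL : (⟨c.zg, hzC⟩ : C) ∈ L := by
    rw [hL, Subgroup.mem_subgroupOf]
    exact ⟨qz, LA_closed.2.2.2.1, qel_qz B⟩
  have hmemQ : ∀ n : C, n ∈ Q ↔ (n : G) ∈ c.QS := fun n => Iff.rfl
  have hker : ∀ n : C, (∀ x ∈ L, n * x * n⁻¹ = x ∨ n * x * n⁻¹ = x * ⟨c.zg, hzC⟩) ↔ n ∈ Q := by
    intro n
    constructor
    · intro h
      refine kernel_LAg B hgam (hfix n) fun g hg => ?_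
      rcases h ⟨g, hLC hg⟩ (Subgroup.mem_subgroupOf.mpr hg) with e | e
      · exact Or.inl (congrArg Subtype.val e)
      · exact Or.inr (congrArg Subtype.val e)
    · intro hn x hx
      rcases qs_moves B ((hmemQ n).mp hn) (Subgroup.mem_subgroupOf.mp hx) with e | e
      · exact Or.inl (Subtype.ext e)
      · exact Or.inr (Subtype.ext e)
  have hidx : 84 < Q.index := by
    have h := Q.card_mul_index
    have h2 : 11264 ≤ Nat.card C := card_cent_ge
    rw [hcardQ] at h
    omega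
  have hel : ∀ x ∈ L, x * x = 1 := fun x hx => by
    obtain ⟨a, ha, e⟩ := Subgroup.mem_subgroupOf.mp hx
    refine Subtype.ext ?_
    show (x : G) * x = 1
    rw [← e, ← qel_mul, (la_mem ha).1, qel_one]
  have hcardL : Nat.card L = 16 :=
    (Nat.card_congr (Subgroup.subgroupOfEquivOfLe hLC).toEquiv).trans (card_LAg B)
  have hq3 := quot_equiv_SL3 Q L ⟨c.zg, hzC⟩ hzL
    ((Subgroup.orderOf_coe _).symm.trans (orderOf_invol zg_sq hz1))
    (fun n => Subtype.ext (hfix n)) hcardL hel hker hidx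
  have h2c : Subgroup.centralizer (Q : Set C) ≤ Q := by
    intro n hn
    refine (hker n).mp fun x hx => Or.inl ?_
    obtain ⟨a, ha, e⟩ := Subgroup.mem_subgroupOf.mp hx
    have hxQ : x ∈ Q := (hmemQ x).mpr (e ▸ qel_mem B (la_mem ha).2)
    rw [← Subgroup.mem_centralizer_iff.mp hn x hxQ, mul_inv_cancel_right]
  have hex : Cfsg.IsExtraspecial 2 Q := by
    haveI : Fact (Nat.Prime 2) := ⟨Nat.prime_two⟩
    have hval : ∀ a : Q, ((a : C) : G) ∈ c.QS := fun a => (hmemQ _).mp a.2
    have hzQ : (⟨c.zg, hzC⟩ : C) ∈ Q := (hmemQ _).mpr zg_mem_QS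
    have hcen : Subgroup.center Q = Subgroup.zpowers (⟨⟨c.zg, hzC⟩, hzQ⟩ : Q) := by
      refine le_antisymm (fun a ha => ?_) (Subgroup.zpowers_le.mpr ?_)
      · have h := center_QS (hval a) fun p hp => by
          have := Subgroup.mem_center_iff.mp ha ⟨⟨p, hQC hp⟩, (hmemQ _).mpr hp⟩
          exact (congrArg (fun y : Q => ((y : C) : G)) this).symm
        rcases h with e | e
        · rw [show a = 1 from Subtype.ext (Subtype.ext e)]
          exact one_mem _
        · rw [show a = (⟨⟨c.zg, hzC⟩, hzQ⟩ : Q) from Subtype.ext (Subtype.ext e)]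
          exact Subgroup.mem_zpowers _
      · exact Subgroup.mem_center_iff.mpr fun a => Subtype.ext (Subtype.ext (qs_zg (hval a)))
    have hord : orderOf (⟨⟨c.zg, hzC⟩, hzQ⟩ : Q) = 2 := by
      rw [← Subgroup.orderOf_coe, ← Subgroup.orderOf_coe]
      exact orderOf_invol zg_sq hz1
    have hmem : ∀ a : Q, ((a : C) : G) = 1 ∨ ((a : C) : G) = c.zg → a ∈ Subgroup.center Q := by
      intro a ha
      rw [hcen]
      rcases ha with e | e
      · rw [show a = 1 from Subtype.ext (Subtype.ext e)]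
        exact one_mem _
      · rw [show a = (⟨⟨c.zg, hzC⟩, hzQ⟩ : Q) from Subtype.ext (Subtype.ext e)]
        exact Subgroup.mem_zpowers _
    refine CfsgLib.Extraspecial.isExtraspecial_of (IsPGroup.of_card (n := 7) (hcardQ.trans (by norm_num))) ?_
      (fun a b => hmem _ ?_) (fun a => hmem _ ?_) ?_
    · rw [hcen, Nat.card_zpowers, hord]
    · show ((a : C) : G) * (b : C) * ((a : C) : G)⁻¹ * ((b : C) : G)⁻¹ = 1 ∨ ((a : C) : G) * (b : C) * ((a : C) : G)⁻¹ * ((b : C) : G)⁻¹ = c.zg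
      rcases qs_comm (hval b) (hval a) with e | e
      · left; rw [e]; group
      · right
        rw [show ((a : C) : G) * (b : C) * ((a : C) : G)⁻¹ * ((b : C) : G)⁻¹ =
          ((a : C) : G) * (b : C) * (((b : C) : G) * (a : C))⁻¹ by group, e,
          show ((b : C) : G) * (a : C) * c.zg = c.zg * (((b : C) : G) * (a : C)) from
            qs_zg (mul_mem (hval b) (hval a)), mul_inv_cancel_right]
    · show ((a ^ 2 : Q) : C).1 = 1 ∨ ((a ^ 2 : Q) : C).1 = c.zg
      rw [pow_two]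
      exact qs_sq (hval a)
    · refine ⟨⟨⟨B.qo, hQC (Subgroup.subset_closure B.hq)⟩, (hmemQ _).mpr (Subgroup.subset_closure B.hq)⟩,
        ⟨⟨c.vg q1, hQC (Subgroup.subset_closure pair_vg)⟩, (hmemQ _).mpr (Subgroup.subset_closure pair_vg)⟩,
        fun h => hz1 ?_⟩
      have h' : B.qo * c.vg q1 * B.qo⁻¹ * (c.vg q1)⁻¹ = 1 := congrArg (fun y : Q => ((y : C) : G)) h
      rw [qo_vg] at h'
      calc c.zg = (c.vg q1)⁻¹ * (c.vg q1 * c.zg * (c.vg q1)⁻¹) * c.vg q1 := by group
        _ = 1 := by rw [h', mul_one, inv_mul_cancel]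
  exact isoHe_of_centralizer Q hex (hcardQ.trans (by norm_num)) h2c hq3

end Ctx

end CfsgLib.HeStd
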