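import Cfsg.Agent.Lib.HeStd.QDec

/-!
# The coordinates of the group of the pairs, and its two fused-free subgroups
-/

set_option autoImplicit false
set_option maxHeartbeats 2000000
set_option synthInstance.maxHeartbeats 400000
set_option synthInstance.maxSize 1024

namespace CfsgLib.HeStd

/-- Coordinates of the group of the pairs. -/
abbrev QE : Type := TC × Bool × Bool

/-- The action on the Sylow subgroup of the two outer generators. -/
def actE (e f : Bool) (x : TC) : TC :=
  bif e then (bif f then sigT (tgt x) else sigT x) else (bif f then tgt x else x)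

/-- The product in the coordinates. -/
def qm (a b : QE) : QE := (a.1 * actE a.2.1 a.2.2 b.1, xor a.2.1 b.2.1, xor a.2.2 b.2.2)

/-- The identity. -/
def qone : QE := (1, false, false)

/-- The element `z`. -/
def qz : QE := (zz, false, false)

/-- The first fused-free subgroup. -/
def LA : List QE :=
  [(⟨q0, q0, q0, q0⟩, false, false), (⟨q0, q0, q1, q1⟩, false, false),
    (⟨q0, q0, qw, qw⟩, false, false), (⟨q0, q0, qv, qv⟩, false, false),
    (⟨q0, q1, q0, q1⟩, false, false), (⟨q0, q1, q1, q0⟩, false, false),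
    (⟨q0, q1, qw, qv⟩, false, false), (⟨q0, q1, qv, qw⟩, false, false),
    (⟨q1, q0, q0, q0⟩, true, true), (⟨q1, q0, q1, q1⟩, true, true),
    (⟨q1, q0, qw, qw⟩, true, true), (⟨q1, q0, qv, qv⟩, true, true),
    (⟨q1, q1, q0, q1⟩, true, true), (⟨q1, q1, q1, q0⟩, true, true),
    (⟨q1, q1, qw, qv⟩, true, true), (⟨q1, q1, qv, qw⟩, true, true)]

/-- The second fused-free subgroup. -/
def LB : List QE :=
  [(⟨q0, q0, q0, q0⟩, false, false), (⟨q0, q0, q1, q1⟩, false, false),
    (⟨q0, q0, qw, qv⟩, false, false), (⟨q0, q0, qv, qw⟩, false, false),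
    (⟨q1, q0, q0, q1⟩, false, false), (⟨q1, q0, q1, q0⟩, false, false),
    (⟨q1, q0, qw, qw⟩, false, false), (⟨q1, q0, qv, qv⟩, false, false),
    (⟨q0, q1, q0, q0⟩, false, true), (⟨q0, q1, q1, q1⟩, false, true),
    (⟨q0, q1, qw, qv⟩, false, true), (⟨q0, q1, qv, qw⟩, false, true),
    (⟨q1, q1, q0, q1⟩, false, true), (⟨q1, q1, q1, q0⟩, false, true),
    (⟨q1, q1, qw, qw⟩, false, true), (⟨q1, q1, qv, qv⟩, false, true)]

/-- Elements known to be pairs. -/
def isPQ (q : QE) : Bool :=
  bif q.2.1 then (bif q.2.2 then allTC.any fun w => decide (w * (th0 w)⁻¹ = q.1)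
    else allTC.any fun w => decide (kq w = q.1))
  else (bif q.2.2 then allTC.any fun w => decide (w * (tgt w)⁻¹ = q.1) else pairT q.1)

/-- The elements of the group of the pairs. -/
def allQ : List QE :=
  (allTC.filter inU).flatMap fun u => [(u, false, false), (u, true, false), (u, false, true), (u, true, true)]

theorem mem_allQ {u : TC} (hu : inU u = true) (e f : Bool) : (u, e, f) ∈ allQ := by
  refine List.mem_flatMap.mpr ⟨u, List.mem_filter.mpr ⟨mem_allTC u, hu⟩, ?_⟩
  cases e <;> cases f <;> simp

theorem allQ_length : allQ.length = 128 ∧ allQ.Nodup := by decide +kernel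

/-- Two elements which may lie in a common fused-free elementary subgroup. -/
def compatQ (a b : QE) : Bool := decide (qm a b = qm b a) && !isPQ (qm a b)

theorem good_split : (allQ.all fun a => !(decide (qm a a = qone) && !isPQ a) ||
    (decide (a ∈ LA) || decide (a ∈ LB))) = true := by decide +kernel

theorem cross_bad : (LA.all fun a => decide (a = qone) || decide (a = qz) || LB.all fun b =>
    decide (b = qone) || decide (b = qz) || !compatQ a b) = true := by decide +kernel

theorem LA_closed : (LA.all fun a => decide (qm a a = qone) && decide (a ∈ allQ) &&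
    LA.all fun b => decide (qm a b ∈ LA)) = true ∧ LA.Nodup ∧ LA.length = 16 ∧ qz ∈ LA ∧ qone ∈ LA := by
  decide +kernel

theorem LA_cases : ∀ a ∈ LA, a.2 = (false, false) ∨ a.2 = (true, true) := by decide +kernel

theorem LA_inner : ∀ a ∈ LA, a.2 = (false, false) → fusT a.1 = false := by decide +kernel

theorem LA_outer : ∀ a ∈ LA, a.2 = (true, true) → ∃ t : TC, t * e₁ * (th0 t)⁻¹ = a.1 := by decide +kernel

theorem e1_facts : th0 e₁ = e₁ ∧ th0 e₂ = e₂ ∧ fusT e₂ = true ∧ fusT (e₂ * zz) = false ∧ e₁ * e₂ = e₂ * e₁ := by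
  decide +kernel

/-- The element used to recognise the first subgroup. -/
def lw : QE := (zc qw qw, false, false)

theorem lw_facts : lw ∈ LA ∧ lw ∉ LB ∧ (zc qv qv, false, false) ∈ LA ∧ ((zc qv qv, false, false) : QE) ∉ LB ∧
    sigT (zc qw qw) = zc qv qv ∧ tgt (zc qw qw) = zc qv qv ∧ (zc qw qw).a = q0 ∧ (zc qw qw).b = q0 := by
  decide +kernel

theorem moves_lw : ((movesA.all fun f => !decide (f zz = zz) ||
      (decide (((f (zc qw qw), false, false) : QE) ∈ LA) && !decide (((f (zc qw qw), false, false) : QE) ∈ LB))) &&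
    movesB.all fun f => !decide (f zz = zz) ||
      (decide (((f (zc qw qw), false, false) : QE) ∈ LA) && !decide (((f (zc qw qw), false, false) : QE) ∈ LB))) =
      true := by decide +kernel

theorem moves_pair : (allTC.all fun u => !pairT u ||
    ((decide (u.b = q0) && movesA.any fun f => decide (f zz = zz) && decide (f u = zc q0 q1)) ||
      (decide (u.a = q0) && movesB.any fun f => decide (f zz = zz) && decide (f u = zc q0 q1)))) = true := by
  decide +kernel

theorem q_orbit : ∀ u : TC, inU u = true → ∀ e : Bool, qm (u, e, true) (u, e, true) = qone →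
    (∀ x : TC, x ∈ [e₃, e₄] → cjt u (actE e true x) = tgt x) → decide (((u, e, true) : QE) ∈ LB) = false →
      e = false ∧ ∃ t : TC, t * (tgt t)⁻¹ = u := by
  decide +kernel

theorem LB_closed : (LB.all fun a => decide (qm a a = qone) && decide (a ∈ allQ) &&
    LB.all fun b => decide (qm a b ∈ LB)) = true ∧ qz ∈ LB ∧ qone ∈ LB := by
  decide +kernel

theorem LB_cases : ∀ a ∈ LB, a.2 = (false, false) ∨ a.2 = (false, true) := by decide +kernel

theorem LB_inner : ∀ a ∈ LB, a.2 = (false, false) → fusT a.1 = false := by decide +kernel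

theorem LB_outer : ∀ a ∈ LB, a.2 = (false, true) → ∃ t : TC, t * e₃ * (tgt t)⁻¹ = a.1 := by decide +kernel

theorem e3_facts : tgt e₃ = e₃ ∧ tgt e₄ = e₄ ∧ fusT e₄ = true ∧ fusT (e₄ * zz) = false ∧ e₃ * e₄ = e₄ * e₃ := by
  decide +kernel

theorem comm_L : (∀ a ∈ LA, ∀ b ∈ LA, qm a b = qm b a) ∧ (∀ a ∈ LB, ∀ b ∈ LB, qm a b = qm b a) := by
  decide +kernel

theorem LB_pairing : (LB.all fun b => LB.all fun b' => !(LA.all fun a =>
    decide (qm b a = qm a b) == decide (qm b' a = qm a b')) || decide (b' = b) || decide (b' = qm b qz)) = true := by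
  decide +kernel

theorem vg_split : ∃ a ∈ LA, ∃ b ∈ LB, qm a b = (zc q0 q1, false, false) := by decide +kernel

theorem act_trivial : ∀ u : TC, ∀ e f : Bool, (∀ x ∈ [e₁, e₂, e₃, e₄], cjt u (actE e f x) = x) →
    e = false ∧ f = false := by decide +kernel

theorem qm_cube : (allQ.all fun a => decide (qm a a = qone) || decide (qm a a = qz)) = true := by decide +kernel

theorem stab_kernel : (allTC.all fun t => [false, true].all fun e => !(LA.all fun a =>
    decide (qm (t, e, false) a = qm a (t, e, false)) || decide (qm (t, e, false) a = qm (qm qz a) (t, e, false))) ||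
      inU t) = true := by decide +kernel

theorem center_Q : (allQ.all fun m => !(allQ.all fun a => decide (qm m a = qm a m)) || decide (m = qone) ||
    decide (m = qz)) = true := by decide +kernel

theorem pair_count : 22 ≤ (allQ.filter fun q => !q.2.2 && isPQ q).length := by decide +kernel

end CfsgLib.HeStd
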