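import Cfsg.Agent.Lib.HeStd.FromRoot

/-!
# The pull-back kernel is central
-/

set_option autoImplicit false
set_option linter.style.haveILetI false
set_option linter.unusedSectionVars false

namespace CfsgLib.HeStd

universe u

/-- A conjugation through the first reflection. -/
def moveA (s u y : TC) : TC := s⁻¹ * swapA (u * swapA (s * y * s⁻¹) * u⁻¹) * s

/-- A conjugation through the second reflection. -/
def moveB (s u y : TC) : TC := s⁻¹ * swapB (u * swapB (s * y * s⁻¹) * u⁻¹) * s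

theorem moveA_spec : ∀ a cc v p q : Q4, a ≠ q0 → p ≠ q0 →
    moveA ⟨q0, qmul cc (qsq a), q0, q0⟩ e₃ ⟨a, q0, cc, v⟩ = ⟨a, q0, cc, v⟩ ∧
      (moveA ⟨q0, qmul cc (qsq a), q0, q0⟩ e₃ (zc p q)).b = q0 ∧
      (moveA ⟨q0, qmul cc (qsq a), q0, q0⟩ e₃ (zc p q)).a = p := by decide +kernel

theorem moveB_spec : ∀ b cc v p q : Q4, b ≠ q0 → p ≠ q0 →
    moveB ⟨qmul cc (qsq b), q0, q0, q0⟩ e₁ ⟨q0, b, cc, v⟩ = ⟨q0, b, cc, v⟩ ∧
      (moveB ⟨qmul cc (qsq b), q0, q0, q0⟩ e₁ (zc p q)).a = q0 ∧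
      (moveB ⟨qmul cc (qsq b), q0, q0, q0⟩ e₁ (zc p q)).b = p := by decide +kernel

theorem both_comm : ∀ a b : Q4, a ≠ q0 → b ≠ q0 → ∃ ta tb : Q4,
    qadd (qmul a tb) (qmul ta b) = q0 ∧ qadd (qmul a (qsq tb)) (qmul ta (qsq b)) ≠ q0 := by decide

theorem two_a : ∀ a a' : Q4, a ≠ q0 → a' ≠ q0 → a ≠ a' → ∃ t t' : Q4,
    qadd (qmul a t) (qmul a' t') = q0 ∧ qadd (qmul a (qsq t)) (qmul a' (qsq t')) ≠ q0 := by decide

theorem two_b : ∀ b b' : Q4, b ≠ q0 → b' ≠ q0 → b ≠ b' → ∃ t t' : Q4,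
    qadd (qmul t b) (qmul t' b') = q0 ∧ qadd (qmul t (qsq b)) (qmul t' (qsq b')) ≠ q0 := by decide

theorem other_val : ∀ a : Q4, a ≠ q0 → qmul a qw ≠ q0 ∧ qmul a qw ≠ a := by decide

theorem swapA_swapA (x : TC) : swapA (swapA x) = x := rfl

theorem swapB_swapB (x : TC) : swapB (swapB x) = x := rfl

theorem sq_one_line : ∀ x : TC, (x.a = q0 ∨ x.b = q0) → x * x = 1 := by decide +kernel

namespace Ctx

variable {G : Type u} [Group G] {c : Ctx G} [Finite G]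

theorem moveA_conj (s u y : TC) (hy : y.b = q0) :
    (c.ι s)⁻¹ * (c.d.w₁ : G)⁻¹ * c.ι u * (c.d.w₁ : G) * c.ι s * c.ι y *
      ((c.ι s)⁻¹ * (c.d.w₁ : G)⁻¹ * c.ι u * (c.d.w₁ : G) * c.ι s)⁻¹ = c.ι (moveA s u y) := by
  have h1 : (s * y * s⁻¹).b = q0 := (conj_ab s y).2.trans hy
  have h2 : (u * swapA (s * y * s⁻¹) * u⁻¹).b = q0 := (conj_ab u _).2.trans h1
  have e2 := c.w₁_conj (x := swapA (u * swapA (s * y * s⁻¹) * u⁻¹)) h2
  rw [swapA_swapA] at e2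
  rw [moveA, map_mul, map_mul, map_inv]
  calc _ = (c.ι s)⁻¹ * ((c.d.w₁ : G)⁻¹ * (c.ι u * ((c.d.w₁ : G) * (c.ι s * c.ι y * (c.ι s)⁻¹) *
          (c.d.w₁ : G)⁻¹) * (c.ι u)⁻¹) * (c.d.w₁ : G)) * c.ι s := by group
    _ = _ := by
      rw [← map_inv, ← map_mul, ← map_mul, c.w₁_conj h1, ← map_inv, ← map_mul, ← map_mul, ← e2, map_inv]
      group

theorem moveB_conj (s u y : TC) (hy : y.a = q0) :
    (c.ι s)⁻¹ * (c.d.w₂ : G)⁻¹ * c.ι u * (c.d.w₂ : G) * c.ι s * c.ι y *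
      ((c.ι s)⁻¹ * (c.d.w₂ : G)⁻¹ * c.ι u * (c.d.w₂ : G) * c.ι s)⁻¹ = c.ι (moveB s u y) := by
  have h1 : (s * y * s⁻¹).a = q0 := (conj_ab s y).1.trans hy
  have h2 : (u * swapB (s * y * s⁻¹) * u⁻¹).a = q0 := (conj_ab u _).1.trans h1
  have e2 := c.w₂_conj (x := swapB (u * swapB (s * y * s⁻¹) * u⁻¹)) h2
  rw [swapB_swapB] at e2
  rw [moveB, map_mul, map_mul, map_inv]
  calc _ = (c.ι s)⁻¹ * ((c.d.w₂ : G)⁻¹ * (c.ι u * ((c.d.w₂ : G) * (c.ι s * c.ι y * (c.ι s)⁻¹) *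
          (c.d.w₂ : G)⁻¹) * (c.ι u)⁻¹) * (c.d.w₂ : G)) * c.ι s := by group
    _ = _ := by
      rw [← map_inv, ← map_mul, ← map_mul, c.w₂_conj h1, ← map_inv, ← map_mul, ← map_mul, ← e2, map_inv]
      group

namespace Pull

variable (P : c.Pull)

theorem comm_mem {x : TC} (hx : P.ψ x ∈ c.K) (ta tb : Q4) :
    P.ψ (zc (qadd (qmul x.a tb) (qmul ta x.b)) (qadd (qmul x.a (qsq tb)) (qmul ta (qsq x.b)))) ∈ c.K := by
  have := P.K_comm hx ⟨ta, tb, q0, q0⟩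
  rwa [comm_zc] at this

theorem same_a {x y : TC} (hx : P.ψ x ∈ c.K) (hy : P.ψ y ∈ c.K) (hxb : x.b = q0) (hyb : y.b = q0)
    (hxa : x.a ≠ q0) (hya : y.a ≠ q0) : x.a = y.a := by
  by_contra hne
  obtain ⟨t, t', h0, h1⟩ := two_a _ _ hxa hya hne
  have h := c.K.mul_mem (P.comm_mem hx q0 t) (P.comm_mem hy q0 t')
  rw [← map_mul, zc_mul, hxb, hyb] at h
  simp only [qmul_zero, qadd_zero, show qsq q0 = q0 from by decide] at h
  rw [h0] at h
  exact h1 (P.V_meet h)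

theorem same_b {x y : TC} (hx : P.ψ x ∈ c.K) (hy : P.ψ y ∈ c.K) (hxa : x.a = q0) (hya : y.a = q0)
    (hxb : x.b ≠ q0) (hyb : y.b ≠ q0) : x.b = y.b := by
  by_contra hne
  obtain ⟨t, t', h0, h1⟩ := two_b _ _ hxb hyb hne
  have h := c.K.mul_mem (P.comm_mem hx t q0) (P.comm_mem hy t' q0)
  rw [← map_mul, zc_mul, hxa, hya] at h
  simp only [qmul_zero, qadd_zero, show qsq q0 = q0 from by decide] at h
  rw [h0] at h
  exact h1 (P.V_meet h)

/-- The kernel of the pull-back lies in the centre. -/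
theorem central_of_K {x : TC} (hx : P.ψ x ∈ c.K) : x.a = q0 ∧ x.b = q0 := by
  by_cases ha : x.a = q0
  · refine ⟨ha, ?_⟩
    by_contra hb
    obtain ⟨hp, hpb⟩ := other_val _ hb
    have hz := P.comm_mem hx qw q0
    rw [ha] at hz
    simp only [qmul_zero, qadd_zero, show qsq q0 = q0 from by decide] at hz
    rw [qmul_comm qw x.b] at hz
    have hx0 : (⟨q0, x.b, x.c, x.v⟩ : TC) = x := TC.ext ha.symm rfl rfl rfl
    obtain ⟨hfix, hza, hzb⟩ := moveB_spec x.b x.c x.v (qmul x.b qw) (qmul qw (qsq x.b)) hb hp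
    have hl := moveB_conj (c := c) ⟨qmul x.c (qsq x.b), q0, q0, q0⟩ e₁ ⟨q0, x.b, x.c, x.v⟩ rfl
    rw [hfix, hx0] at hl
    have hzK := P.W_conj hx (fun e => hb (congrArg TC.b e)) (sq_one_line x (Or.inl ha)) hl hz
      (moveB_conj (c := c) _ e₁ _ rfl)
    exact hpb ((hzb.symm.trans (P.same_b hzK hx hza ha (fun e => hp (hzb.symm.trans e)) hb)))
  exfalso
  by_cases hb : x.b = q0
  · obtain ⟨hp, hpa⟩ := other_val _ ha
    have hz := P.comm_mem hx q0 qw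
    rw [hb] at hz
    simp only [qmul_zero, qadd_zero] at hz
    have hx0 : (⟨x.a, q0, x.c, x.v⟩ : TC) = x := TC.ext rfl hb.symm rfl rfl
    obtain ⟨hfix, hzb, hza⟩ := moveA_spec x.a x.c x.v (qmul x.a qw) (qmul x.a (qsq qw)) ha hp
    have hl := moveA_conj (c := c) ⟨q0, qmul x.c (qsq x.a), q0, q0⟩ e₃ ⟨x.a, q0, x.c, x.v⟩ rfl
    rw [hfix, hx0] at hl
    have hzK := P.W_conj hx (fun e => ha (congrArg TC.a e)) (sq_one_line x (Or.inr hb)) hl hz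
      (moveA_conj (c := c) _ e₃ _ rfl)
    exact hpa ((hza.symm.trans (P.same_a hzK hx hzb hb (fun e => hp (hza.symm.trans e)) ha)))
  · obtain ⟨ta, tb, h0, h1⟩ := both_comm _ _ ha hb
    have h := P.comm_mem hx ta tb
    rw [h0] at h
    exact h1 (P.V_meet h)

theorem K_inj {z z' : TC} (hz : P.ψ z ∈ c.K) (hz' : P.ψ z' ∈ c.K) (e : z.c = z'.c) : z = z' := by
  obtain ⟨ha, hb⟩ := P.central_of_K hz
  obtain ⟨ha', hb'⟩ := P.central_of_K hz'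
  have h := c.K.mul_mem hz hz'
  rw [← map_mul, show z = zc z.c z.v from TC.ext ha hb rfl rfl,
    show z' = zc z'.c z'.v from TC.ext ha' hb' rfl rfl, zc_mul, e, qadd_self] at h
  refine TC.ext (ha.trans ha'.symm) (hb.trans hb'.symm) e ?_
  exact (show ∀ a b : Q4, qadd a b = q0 → a = b by decide) _ _ (P.V_meet h)

end Pull

end Ctx

end CfsgLib.HeStd
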