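import Cfsg.Agent.Lib.HeStd.WCentral

/-!
# The pull-back kernel is the complement of the centre of the cover
-/

set_option autoImplicit false
set_option linter.style.haveILetI false
set_option linter.unusedSectionVars false

set_option synthInstance.maxHeartbeats 400000
set_option synthInstance.maxSize 1024

namespace CfsgLib.HeStd

universe u

theorem swap_zero : ∀ a b : Q4, (a = q0 ∨ b = q0) → ∀ p q : Q4, ∀ e : Bool, p ≠ q0 → q ≠ q0 →
    qmul p (frb e b) = a → qmul q (frb e a) = b → a = q0 ∧ b = q0 := by decide +kernel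

theorem act_central : ∀ k : AK, ∀ cc : Q4,
    act k (zc cc q0) = zc (act k (zc cc q0)).c (act k (zc cc q0)).v := by decide +kernel

theorem tri_tw_central (k : AK) (t : TC) (cc : Q4) :
    tri (tw k t (lift3 (q0, q0, cc))) = tri (act k (lift3 (q0, q0, cc))) := by
  show tri (t * act k (zc cc q0) * t⁻¹) = tri (act k (zc cc q0))
  rw [act_central, conj_central]

theorem act_ab_eq : ∀ k : AK, ∀ a b cc : Q4,
    (act k ⟨a, b, cc, q0⟩).a = qmul k.p (frb k.e (bif k.s then b else a)) ∧
      (act k ⟨a, b, cc, q0⟩).b = qmul k.q (frb k.e (bif k.s then a else b)) := by decide +kernel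

theorem central_fix : ∀ k : AK, k.p ≠ q0 → k.q ≠ q0 → ¬ (k.e = false ∧ k.s = false) →
    (∀ cc : Q4, tri (act k (lift3 (q0, q0, cc))) = (q0, q0, cc)) → k.e = false ∧ k.s = true := by
  decide +kernel

theorem perp_small : ∀ a b : Q4, ¬ (a = q0 ∧ b = q0) →
    (Finset.univ.filter fun x : Q4 × Q4 => qadd (qmul a x.2) (qmul x.1 b) = q0).card < 8 := by decide +kernel

theorem swap_small : ∀ k : AK, k.p ≠ q0 → k.q ≠ q0 → k.s = true →
    (Finset.univ.filter fun x : Q4 × Q4 =>
      qmul k.p (frb k.e x.2) = x.1 ∧ qmul k.q (frb k.e x.1) = x.2).card < 8 := by decide +kernel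

theorem perp_all : ∀ a b : Q4, (∀ x : Q4 × Q4, qadd (qmul a x.2) (qmul x.1 b) = q0) → a = q0 ∧ b = q0 := by
  decide

theorem card_central :
    ((Finset.univ : Finset TC).filter fun z => z.a = q0 ∧ z.b = q0).card = 16 := by decide +kernel

theorem comm_surj : ∀ a b : Q4, ¬ (a = q0 ∧ b = q0) → ∀ p : Q4, ∃ ta tb : Q4,
    qadd (qmul a tb) (qmul ta b) = p := by decide

theorem oadd_two : ∀ a o : Bool × Bool, (a = (false, false) ∨ a = o) → ¬ a = (false, false) →
    ∀ b, (b = (false, false) ∨ b = o) → ¬ b = (false, false) → oadd a b = (false, false) := by decide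

theorem outer_cases : ∀ a b : Bool × Bool, a ≠ (false, false) → b ≠ (false, false) → a ≠ b →
    a.2 = true ∧ a ≠ (false, true) ∨ b.2 = true ∧ b ≠ (false, true) ∨ (oadd a b).2 = true ∧ oadd a b ≠ (false, true) := by
  decide

theorem out_01 : ∀ k : AK, k.out.2 = true → k.e = false → k.out = (false, true) := by decide

namespace Ctx

variable {G : Type u} [Group G] {c : Ctx G} [Finite G]

namespace Pull

variable (P : c.Pull)

/-- The fixed classes of an outer element on the images of the centre. -/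
theorem central_tri_fixed {n : TC} {k : AK} {t : TC}
    (ht : ∀ x, P.ψ n * c.ι x * (P.ψ n)⁻¹ = c.ι (t * act k x * t⁻¹)) {z u : TC} (hz : z.a = q0 ∧ z.b = q0)
    (h : P.Rel z u) : tri (tw k ⟨t.a, t.b, q0, q0⟩ (lift3 (tri u))) = tri u := by
  have h2 := P.rel_conj ht (P.rel_lift h)
  rw [show n * z * n⁻¹ = z by
    rw [show z = zc z.c z.v from TC.ext hz.1 hz.2 rfl rfl, zc_comm, mul_inv_cancel_right]] at h2
  exact P.tri_eq h2 h

theorem tw_ab (k : AK) (t : TC) (x : Q4 × Q4 × Q4) :
    (tw k t (lift3 x)).a = qmul k.p (frb k.e (bif k.s then x.2.1 else x.1)) ∧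
      (tw k t (lift3 x)).b = qmul k.q (frb k.e (bif k.s then x.1 else x.2.1)) := by
  rw [tw, (conj_ab _ _).1, (conj_ab _ _).2]
  exact act_ab_eq k _ _ _

theorem pair_card (S : Finset TC) (u : TC → TC) (hu : ∀ z ∈ S, P.Rel z (u z)) :
    S.card ≤ 4 * (S.image fun z => tri (u z)).card := by
  classical
  refine Finset.card_le_mul_card_image _ _ fun p _ => ?_
  refine le_trans ?_ (le_of_eq (show (Finset.univ : Finset Q4).card = 4 by simp))
  set F := S.filter fun z => tri (u z) = p
  rcases F.eq_empty_or_nonempty with hF | ⟨z₀, hz₀⟩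
  · simp [hF]
  refine Finset.card_le_card_of_injOn (fun z => (z₀⁻¹ * z).c) (fun _ _ => Finset.mem_univ _) ?_
  intro z hz z' hz' e
  obtain ⟨hzS, hzp⟩ := Finset.mem_filter.mp hz
  obtain ⟨hzS', hzp'⟩ := Finset.mem_filter.mp hz'
  obtain ⟨hz0S, hz0p⟩ := Finset.mem_filter.mp hz₀
  exact mul_left_cancel (P.K_inj (P.K_of_tri (hu _ hz0S) (hu _ hzS) (hz0p.trans hzp.symm))
    (P.K_of_tri (hu _ hz0S) (hu _ hzS') (hz0p.trans hzp'.symm)) e)

/-- The images of the centre, if they are central, exhaust the centre modulo the centre of the cover. -/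
theorem central_all (h : ∀ z u, (z.a = q0 ∧ z.b = q0) → P.Rel z u → u.a = q0 ∧ u.b = q0) (cc : Q4) :
    ∃ z u, (z.a = q0 ∧ z.b = q0) ∧ P.Rel z u ∧ tri u = (q0, q0, cc) := by
  classical
  let Z : Finset TC := Finset.univ.filter fun z => z.a = q0 ∧ z.b = q0
  have hmem : ∀ z ∈ Z, z.a = q0 ∧ z.b = q0 := fun z hz => (Finset.mem_filter.mp hz).2
  have hex : ∀ z, ∃ u, z ∈ Z → P.Rel z u := fun z => by
    by_cases hz : z ∈ Z
    · obtain ⟨u, hu⟩ := P.rel_exists (P.out_central z.c z.v)
      exact ⟨u, fun _ => by rwa [show zc z.c z.v = z from TC.ext (hmem z hz).1.symm (hmem z hz).2.symm rfl rfl] at hu⟩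
    · exact ⟨1, fun h => absurd h hz⟩
  choose u hu using hex
  have h4 := P.pair_card Z u hu
  rw [show Z.card = 16 from card_central] at h4
  have hsub : (Z.image fun z => tri (u z)) ⊆ (Finset.univ.image fun cc : Q4 => ((q0, q0, cc) : Q4 × Q4 × Q4)) := by
    intro p hp
    obtain ⟨z, hz, rfl⟩ := Finset.mem_image.mp hp
    obtain ⟨h1, h2⟩ := h z _ (hmem z hz) (hu z hz)
    exact Finset.mem_image.mpr ⟨(u z).c, Finset.mem_univ _, by rw [tri, h1, h2]⟩
  have heq := Finset.eq_of_subset_of_card_le hsub (by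
    rw [Finset.card_image_of_injective _ fun x y e => congrArg (fun p : Q4 × Q4 × Q4 => p.2.2) e]
    simp only [Finset.card_univ, Fintype.card_prod, Fintype.card_bool]
    omega)
  have hm : ((q0, q0, cc) : Q4 × Q4 × Q4) ∈ Finset.univ.image fun cc : Q4 => ((q0, q0, cc) : Q4 × Q4 × Q4) :=
    Finset.mem_image.mpr ⟨cc, Finset.mem_univ _, rfl⟩
  rw [← heq] at hm
  obtain ⟨z, hz, e⟩ := Finset.mem_image.mp hm
  exact ⟨z, u z, hmem z hz, hu z hz, e⟩

/-- An outer element with the swap is of the type of the swap alone. -/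
theorem swap_type {n : TC} (hs : (P.out n).2 = true) : P.out n = (false, true) := by
  obtain ⟨hp, hq, t, ht⟩ := c.code_spec ⟨P.ψ n, P.ψ_mem n⟩
  set k := c.code ⟨P.ψ n, P.ψ_mem n⟩
  have hks : k.s = true := hs
  have hcen : ∀ z u, (z.a = q0 ∧ z.b = q0) → P.Rel z u → u.a = q0 ∧ u.b = q0 := by
    intro z u hz h
    have hf := P.central_tri_fixed ht hz h
    obtain ⟨ha, hb⟩ := tw_ab k ⟨t.a, t.b, q0, q0⟩ (tri u)
    rw [hks] at ha hb
    exact swap_zero _ _ (sq_inV u (P.rel_comm_central h hz)).1 k.p k.q k.e hp hq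
      (ha.symm.trans (congrArg Prod.fst hf)) (hb.symm.trans (congrArg (fun p => p.2.1) hf))
  obtain ⟨he, -⟩ := central_fix k hp hq (fun h => by simp [hks] at h) fun cc => by
    obtain ⟨z, u, hz, hu, e⟩ := P.central_all hcen cc
    have hf := P.central_tri_fixed ht hz hu
    rw [e] at hf
    rwa [tri_tw_central] at hf
  exact out_01 k hs he

/-- The pull-back of the Sylow subgroup is inner. -/
theorem out_zero (z : TC) : P.out z = (false, false) := by
  classical
  by_contra hn
  obtain ⟨o, ho, htwo⟩ : ∃ o, o ≠ (false, false) ∧ ∀ w, P.out w = (false, false) ∨ P.out w = o := by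
    refine ⟨P.out z, hn, fun w => ?_⟩
    by_contra hw
    push Not at hw
    have key : ∀ m, (P.out m).2 = true → P.out m = (false, true) := fun m => P.swap_type
    rcases outer_cases _ _ hn hw.1 (Ne.symm hw.2) with ⟨h1, h2⟩ | ⟨h1, h2⟩ | ⟨h1, h2⟩
    · exact h2 (key z h1)
    · exact h2 (key w h1)
    · exact h2 (by rw [← P.out_mul] at h1 ⊢; exact key _ h1)
  let I : Finset TC := Finset.univ.filter fun w => P.out w = (false, false)
  have hI : 128 ≤ I.card := by
    have h1 : (Finset.univ.filter fun w : TC => ¬ P.out w = (false, false)).card ≤ I.card := by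
      refine Finset.card_le_card_of_injOn (fun w => z * w) (fun w hw => ?_) fun a _ b _ e => mul_left_cancel e
      refine Finset.mem_filter.mpr ⟨Finset.mem_univ _, ?_⟩
      rw [P.out_mul]
      exact oadd_two _ o (htwo z) hn _ (htwo w) (Finset.mem_filter.mp hw).2
    have h2 := Finset.card_filter_add_card_filter_not (s := (Finset.univ : Finset TC))
      (p := fun w => P.out w = (false, false))
    rw [Finset.card_univ, Fintype.card_eq_nat_card, card_TC] at h2
    show 128 ≤ I.card
    simp only [I] at h1 ⊢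
    omega
  choose! u hu using fun w (hw : P.out w = (false, false)) => P.rel_exists hw
  have hIu : ∀ w ∈ I, P.Rel w (u w) := fun w hw => hu w (Finset.mem_filter.mp hw).2
  let A : Finset (Q4 × Q4) := I.image fun w => ((u w).a, (u w).b)
  have hA : 8 ≤ A.card := by
    have h1 := P.pair_card I u hIu
    have h2 : (I.image fun w => tri (u w)).card ≤ (A ×ˢ (Finset.univ : Finset Q4)).card := by
      rw [← Finset.card_image_of_injective (A ×ˢ (Finset.univ : Finset Q4))
        (f := fun x : (Q4 × Q4) × Q4 => (x.1.1, x.1.2, x.2)) (fun x y e => by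
          simp only [Prod.mk.injEq] at e
          exact Prod.ext (Prod.ext e.1 e.2.1) e.2.2)]
      refine Finset.card_le_card fun p hp => ?_
      obtain ⟨w, hw, rfl⟩ := Finset.mem_image.mp hp
      exact Finset.mem_image.mpr ⟨(((u w).a, (u w).b), (u w).c), Finset.mem_product.mpr
        ⟨Finset.mem_image.mpr ⟨w, hw, rfl⟩, Finset.mem_univ _⟩, rfl⟩
    rw [Finset.card_product, Finset.card_univ, show Fintype.card Q4 = 4 by simp] at h2
    omega
  have hsmall : ∀ f : Finset (Q4 × Q4), A ⊆ f → ¬ f.card < 8 := fun f hf => by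
    have := Finset.card_le_card hf
    omega
  have hcen : ∀ x v, (x.a = q0 ∧ x.b = q0) → P.Rel x v → v.a = q0 ∧ v.b = q0 := by
    intro x v hx hv
    by_contra h
    refine hsmall _ (fun p hp => ?_) (perp_small v.a v.b h)
    obtain ⟨w, hw, rfl⟩ := Finset.mem_image.mp hp
    have h2 := rel_comm P hv (hIu w hw)
    rw [show x * w * x⁻¹ * w⁻¹ = 1 by
      rw [show x = zc x.c x.v from TC.ext hx.1 hx.2 rfl rfl, ← zc_comm]; group] at h2
    have h3 := P.rel_one.unique h2
    rw [inv_one, one_mul, comm_zc] at h3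
    simp [inV, zc] at h3
    exact Finset.mem_filter.mpr ⟨Finset.mem_univ _, of_decide_eq_true h3⟩
  obtain ⟨hp, hq, t, ht⟩ := c.code_spec ⟨P.ψ z, P.ψ_mem z⟩
  set k := c.code ⟨P.ψ z, P.ψ_mem z⟩
  obtain ⟨-, hks⟩ := central_fix k hp hq (fun h => hn (Prod.ext h.1 h.2)) fun cc => by
    obtain ⟨x, v, hx, hv, e⟩ := P.central_all hcen cc
    have hf := P.central_tri_fixed ht hx hv
    rw [e] at hf
    rwa [tri_tw_central] at hf
  refine hsmall _ (fun p hp' => ?_) (swap_small k hp hq hks)
  obtain ⟨w, hw, rfl⟩ := Finset.mem_image.mp hp'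
  have h1 : P.Rel (z * w * z⁻¹) (tw k ⟨t.a, t.b, q0, q0⟩ (lift3 (tri (u w)))) :=
    P.rel_conj ht (P.rel_lift (hIu w hw))
  have hd : P.out (z * w * z⁻¹ * w⁻¹) = (false, false) := by
    rw [comm_zc]; exact P.out_central _ _
  obtain ⟨v, hv⟩ := P.rel_exists hd
  have h2 := hv.mul (hIu w hw)
  rw [inv_mul_cancel_right] at h2
  have he := P.tri_eq h1 h2
  have hv0 := hcen _ v (by rw [comm_zc]; exact ⟨rfl, rfl⟩) hv
  obtain ⟨ha, hb⟩ := tw_ab k ⟨t.a, t.b, q0, q0⟩ (tri (u w))
  rw [hks] at ha hb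
  have e1 : (v * u w).a = (u w).a ∧ (v * u w).b = (u w).b := by
    rw [mul_def, tmul]
    exact ⟨by rw [hv0.1]; exact (qadd_zero _).2, by rw [hv0.2]; exact (qadd_zero _).2⟩
  exact Finset.mem_filter.mpr ⟨Finset.mem_univ _, ha.symm.trans ((congrArg Prod.fst he).trans e1.1),
    hb.symm.trans ((congrArg (fun p => p.2.1) he).trans e1.2)⟩

/-- The kernel is the complement. -/
theorem K_iff (x : TC) : P.ψ x ∈ c.K ↔ x.a = q0 ∧ x.b = q0 ∧ x.v = q0 := by
  classical
  choose u hu using fun w => P.rel_exists (P.out_zero w)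
  have hc := P.pair_card Finset.univ u (fun w _ => hu w)
  rw [Finset.card_univ, Fintype.card_eq_nat_card, card_TC] at hc
  have hsurj : ∀ p : Q4 × Q4 × Q4, ∃ w, tri (u w) = p := by
    intro p
    have heq := Finset.eq_univ_of_card ((Finset.univ : Finset TC).image fun w => tri (u w)) (le_antisymm
      (Finset.card_le_univ _) (by
        simp only [Fintype.card_prod, Fintype.card_bool]
        omega))
    obtain ⟨w, -, e⟩ := Finset.mem_image.mp (heq ▸ Finset.mem_univ p)
    exact ⟨w, e⟩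
  have hcen : ∀ z v, (z.a = q0 ∧ z.b = q0) → P.Rel z v → v.a = q0 ∧ v.b = q0 := by
    intro z v hz hv
    refine perp_all _ _ fun q => ?_
    obtain ⟨w, hw⟩ := hsurj (q.1, q.2, q0)
    have h2 := rel_comm P hv (hu w)
    rw [show z * w * z⁻¹ * w⁻¹ = 1 by
      rw [show z = zc z.c z.v from TC.ext hz.1 hz.2 rfl rfl, ← zc_comm]; group] at h2
    have h3 := P.rel_one.unique h2
    rw [inv_one, one_mul, comm_zc] at h3
    simp only [tri, Prod.mk.injEq] at hw
    rw [hw.1, hw.2.1] at h3
    simp [inV, zc] at h3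
    exact of_decide_eq_true h3
  let W : Subgroup TC := c.K.comap P.ψ
  have hWs : ∀ cc : Q4, ∃ w ∈ W, w.c = cc := by
    let S : Finset TC := Finset.univ.filter fun w => tri (u w) = (q0, q0, q0)
    have hS4 : 4 ≤ S.card := by
      by_contra hlt
      push Not at hlt
      have hb : ∀ p, ((Finset.univ : Finset TC).filter fun w => tri (u w) = p).card ≤ 3 := by
        intro p
        obtain ⟨w₀, hw₀⟩ := hsurj p
        refine le_trans (Finset.card_le_card_of_injOn (t := S) (fun w => w₀⁻¹ * w) (fun w hw => ?_)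
          fun a _ b _ e => mul_left_cancel e) (Nat.lt_succ_iff.mp hlt)
        refine Finset.mem_filter.mpr ⟨Finset.mem_univ _, ?_⟩
        have e := (Finset.mem_filter.mp hw).2
        exact P.tri_eq (hu _) (P.rel_of_K (P.K_of_tri (hu w₀) (hu w) (hw₀.trans e.symm)))
      have := Finset.card_le_mul_card_image (f := fun w => tri (u w)) Finset.univ 3 fun p _ => hb p
      rw [Finset.card_univ, Fintype.card_eq_nat_card, card_TC] at this
      have h64 := Finset.card_le_univ ((Finset.univ : Finset TC).image fun w => tri (u w))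
      simp only [Fintype.card_prod, Fintype.card_bool] at h64
      omega
    have hSW : ∀ w ∈ S, w ∈ W := fun w hw =>
      P.K_of_rel (hu w) (by
        have e := (Finset.mem_filter.mp hw).2
        simp only [tri, Prod.mk.injEq] at e
        simp [inV, e.1, e.2.1, e.2.2])
    intro cc
    have heq := Finset.eq_univ_of_card (S.image fun w => w.c) (by
      rw [Finset.card_image_of_injOn fun a ha b hb e => P.K_inj (hSW a ha) (hSW b hb) e]
      refine le_antisymm ?_ (by simpa using hS4)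
      rw [← Finset.card_image_of_injOn fun a ha b hb e => P.K_inj (hSW a ha) (hSW b hb) e]
      exact Finset.card_le_univ _)
    obtain ⟨w, hw, e⟩ := Finset.mem_image.mp (heq ▸ Finset.mem_univ cc)
    exact ⟨w, hSW w hw, e⟩
  refine ulike_unique (W := W) (fun w hw => P.central_of_K hw) (fun w hw hc0 => ?_) hWs ?_ x
  · obtain ⟨ha, hb⟩ := P.central_of_K hw
    refine P.V_meet (v := w.v) ?_
    rwa [show zc q0 w.v = w from TC.ext ha.symm hb.symm hc0.symm rfl]
  intro y hy z za zb
  have hune : ¬ ((u y).a = q0 ∧ (u y).b = q0) := by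
    intro h
    obtain ⟨zz, v, hzz, hv, e⟩ := P.central_all hcen (u y).c
    have hK := P.K_of_tri hv (hu y) (by rw [e, tri, h.1, h.2])
    obtain ⟨ha, hb⟩ := P.central_of_K hK
    apply hy
    rw [mul_def, tmul, inv_def, tinv, hzz.1, hzz.2] at ha hb
    simpa [qadd_zero] using And.intro ha hb
  obtain ⟨ta, tb, htt⟩ := comm_surj _ _ hune (u z).c
  obtain ⟨t, ht⟩ := hsurj (ta, tb, q0)
  simp only [tri, Prod.mk.injEq] at ht
  obtain ⟨hza, hzb⟩ := hcen z (u z) ⟨za, zb⟩ (hu z)
  refine ⟨t, P.K_of_rel ((rel_comm P (hu y) (hu t)).mul (hu z)) ?_⟩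
  rw [comm_zc, ht.1, ht.2.1, htt, show u z = zc (u z).c (u z).v from TC.ext hza hzb rfl rfl, zc_mul]
  simp [inV, zc, qadd_self]

theorem K_yg (p : Q4) : P.ψ (zc p q0) ∈ c.K := (P.K_iff _).mpr ⟨rfl, rfl, rfl⟩

end Pull

end Ctx

end CfsgLib.HeStd
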